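import Mathlib
import Cfsg.Prelude.Def_Quasithin

/-!
# Overgroups of a Sylow 2-subgroup in a group of even characteristic
-/

set_option autoImplicit false
set_option linter.style.haveILetI false

namespace Cfsg.Agent.Transfer.QRC

open Subgroup
open scoped commutatorElement

variable {G : Type*} [Group G]

/-- `O₂(X)` as a subgroup of the ambient group. -/
abbrev core2 (X : Subgroup G) : Subgroup G := (Cfsg.pCore 2 ↥X).map X.subtype

theorem core2_le (X : Subgroup G) : core2 X ≤ X := map_subtype_le _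

theorem pCore_normal_two (X : Type*) [Group X] : (Cfsg.pCore 2 X).Normal :=
  sSup_normal _ fun _ hN => hN.1

theorem core2_norm (X : Subgroup G) : ∀ g ∈ X, ∀ x ∈ core2 X, g * x * g⁻¹ ∈ core2 X := by
  rintro g hg _ ⟨x, hx, rfl⟩
  exact ⟨_, (pCore_normal_two ↥X).conj_mem x hx ⟨g, hg⟩, rfl⟩

/-- A normal 2-subgroup lies in the core. -/
theorem le_core2 {N X : Subgroup G} (hNX : N ≤ X) (hp : IsPGroup 2 N)
    (hn : ∀ g ∈ X, ∀ n ∈ N, g * n * g⁻¹ ∈ N) : N ≤ core2 X := by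
  intro n hn'
  refine ⟨⟨n, hNX hn'⟩, (le_sSup ⟨⟨fun a ha b => mem_subgroupOf.mpr ?_⟩, ?_⟩ :
    N.subgroupOf X ≤ Cfsg.pCore 2 ↥X) (mem_subgroupOf.mpr hn'), rfl⟩
  · exact hn b b.2 a (mem_subgroupOf.mp ha)
  · exact hp.of_equiv (subgroupOfEquivOfLe hNX).symm

theorem norm_of_conj [Finite G] {X N : Subgroup G} (hn : ∀ g ∈ X, ∀ n ∈ N, g * n * g⁻¹ ∈ N) :
    X ≤ normalizer (N : Set G) := fun g hg =>
  mem_normalizer_fintype fun n hn' => hn g hg n hn'

variable [Finite G]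

theorem core2_isPGroup (X : Subgroup G) : IsPGroup 2 (core2 X) :=
  (by
    haveI : Fact (Nat.Prime 2) := ⟨Nat.prime_two⟩
    refine IsPGroup.map ?_ X.subtype
    obtain ⟨S⟩ : Nonempty (Sylow 2 ↥X) := inferInstance
    exact S.isPGroup'.to_le (sSup_le fun N hN => by
      obtain ⟨hNn, hNp⟩ := hN
      exact hNp.le_sylow_of_normal S))

/-- A normal 2-subgroup of an overgroup of a Sylow subgroup lies in it. -/
theorem core2_le_sylow (T : Sylow 2 G) {X : Subgroup G} (hT : (T : Subgroup G) ≤ X) :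
    core2 X ≤ (T : Subgroup G) := by
  have hp : IsPGroup 2 ↥((T : Subgroup G) ⊔ core2 X) :=
    IsPGroup.to_sup_of_normal_right' T.isPGroup' (core2_isPGroup X)
      (hT.trans (norm_of_conj (core2_norm X)))
  have h := T.is_maximal' hp le_sup_left
  exact le_sup_right.trans h.le

/-- An overgroup of a Sylow subgroup with nontrivial core has characteristic 2. -/
theorem charTwo_over (hE : Cfsg.IsOfEvenCharacteristic G) (T : Sylow 2 G) {X : Subgroup G}
    (hT : (T : Subgroup G) ≤ X) (hne : core2 X ≠ ⊥) :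
    X ⊓ centralizer (core2 X : Set G) ≤ core2 X := by
  obtain ⟨N, hN⟩ : ∃ N, N = normalizer (core2 X : Set G) := ⟨_, rfl⟩
  have hXN : X ≤ N := hN ▸ norm_of_conj (core2_norm X)
  have hc := hE N ⟨core2 X, core2_isPGroup X, hne, hN⟩ ⟨T, hT.trans hXN⟩
  have hNT : core2 N ≤ (T : Subgroup G) := core2_le_sylow T (hT.trans hXN)
  have hNX : core2 N ≤ core2 X := le_core2 (hNT.trans hT) (core2_isPGroup N) fun g hg n hn =>
    core2_norm N g (hXN hg) n hn
  intro x hx
  refine hNX ⟨⟨x, hXN hx.1⟩, hc ?_, rfl⟩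
  refine mem_centralizer_iff.mpr fun y hy => Subtype.ext ?_
  exact mem_centralizer_iff.mp hx.2 _ (hNX ⟨y, hy, rfl⟩)

/-- The core of the centraliser of a central involution. -/
theorem centralizer_core (hE : Cfsg.IsOfEvenCharacteristic G) (T : Sylow 2 G) {z : G} (hz : z ≠ 1) (hz2 : z * z = 1)
    (hT : (T : Subgroup G) ≤ centralizer ({z} : Set G)) :
    ∃ P : Subgroup G, P ≤ (T : Subgroup G) ∧
      (∀ y ∈ centralizer ({z} : Set G), ∀ x ∈ P, y * x * y⁻¹ ∈ P) ∧
      ∀ y ∈ centralizer ({z} : Set G), y ∈ centralizer (P : Set G) → y ∈ P := by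
  obtain ⟨C, hC⟩ : ∃ C, C = centralizer ({z} : Set G) := ⟨_, rfl⟩
  rw [← hC] at hT ⊢
  obtain ⟨Z, hZ⟩ : ∃ Z, Z = Subgroup.zpowers z := ⟨_, rfl⟩
  have hzC : z ∈ C := hC ▸ mem_centralizer_singleton_iff.mpr rfl
  have hZn : ∀ g ∈ C, ∀ n ∈ Z, g * n * g⁻¹ ∈ Z := by
    intro g hg n hn
    rw [hZ] at hn ⊢
    obtain ⟨i, rfl⟩ := mem_zpowers_iff.mp hn
    rw [hC, mem_centralizer_singleton_iff] at hg
    refine ⟨i, ?_⟩
    rw [((show Commute g z from hg).zpow_right i).eq, mul_inv_cancel_right]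
  have hne : core2 C ≠ ⊥ := fun h => hz (by
    have hp : IsPGroup 2 Z := IsPGroup.of_card (n := 1) (by
      rw [hZ, Nat.card_zpowers, pow_one]
      exact orderOf_eq_prime (by rw [sq, hz2]) hz)
    have hmem : z ∈ core2 C := le_core2 (hZ ▸ Subgroup.zpowers_le.mpr hzC) hp hZn (hZ ▸ mem_zpowers z)
    rwa [h, mem_bot] at hmem)
  exact ⟨core2 C, core2_le_sylow T hT, fun y hy x hx => core2_norm C y hy x hx,
    fun y hy hy' => charTwo_over hE T hT hne ⟨hy, hy'⟩⟩

end Cfsg.Agent.Transfer.QRC
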