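import Cfsg.Agent.Lib.Transfer.QRC.NodeBasic
import Cfsg.Agent.Lib.Fus.PushBlocks.CaseTwo
import Cfsg.Agent.Lib.Fus.PushBlocks.SLBlock

/-!
# A pushing-up group has a node over its Baumann subgroup
-/

set_option autoImplicit false
set_option linter.style.haveILetI false

namespace Cfsg.Agent.Transfer.QRC

open Subgroup
open Cfsg.Agent.Invol.PushUp (Frame IsVertex NoChar Zs Vz Cz mem_Zs)
open Cfsg.Agent.Fus.PushBlocks (Wm Setup bau phi)
open scoped commutatorElement

universe u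

theorem pgen_two (X : Type u) [Group X] :
    Fus.PushBlocks.pgen 2 X = Cfsg.oddGenerated (⊤ : Subgroup X) := by
  show Subgroup.closure _ = Subgroup.closure _
  congr 1
  ext x
  simp only [Set.mem_setOf_eq, Subgroup.mem_top, true_and]
  exact ⟨fun h => Nat.coprime_two_right.mp h, fun h => Nat.coprime_two_right.mpr h⟩

/-- The node of a rank one pushing-up group. -/
theorem rank_one_node {X : Type u} [Group X] [Finite X] {Sy : Sylow 2 X} {F : Type} [Field F] [Fintype F]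
    {fr : Frame Sy F} (hd : NoChar Sy) (hv : IsVertex fr) : Node (Sy : Subgroup X) (Wm Sy) ⊤ := by
  haveI hR : (Cfsg.pCore 2 X).Normal := Grp.pCore_isNormal
  obtain ⟨ρ, hρ⟩ := Fus.PushBlocks.exists_rho hd hv
  have hpg : Cfsg.oddGenerated (⊤ : Subgroup X) = Fus.PushBlocks.pgen 2 X := (pgen_two X).symm
  have hW : ∀ x ∈ Wm Sy, x ∈ Vz Sy := fun x hx => Fus.PushBlocks.Wm_le_Vz Sy hx
  have hQS : Cfsg.pCore 2 X ≤ (Sy : Subgroup X) := Grp.pCore_le_sylow Sy
  have hC : (Sy : Subgroup X) ⊓ centralizer (Wm Sy : Set X) = Cfsg.pCore 2 X := by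
    rw [← hv.S_inf_cent]
    refine le_antisymm (fun x hx => ⟨hx.1, ?_⟩) (inf_le_inf_left _ (centralizer_le hW))
    have hle : Vz Sy ≤ centralizer ({x} : Set X) := by
      rw [← Fus.PushBlocks.Vz_split hd hv]
      exact sup_le (fun w hw => mem_centralizer_singleton_iff.mpr (mem_centralizer_iff.mp hx.2 w hw))
        fun c hc => mem_centralizer_singleton_iff.mpr (Subgroup.mem_center_iff.mp hc.2 x).symm
    exact mem_centralizer_iff.mpr fun v hv' => mem_centralizer_singleton_iff.mp (hle hv')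
  have hWn : (Wm Sy).Normal := inferInstance
  constructor
  · exact (Fus.PushBlocks.Wm_le_Vz Sy).trans (hv.le_core.trans hQS)
  · exact le_top
  · exact fun l _ w hw => hWn.conj_mem w hw l
  · exact fun a ha b hb => hv.comm a (hW a ha) b (hW b hb)
  · exact fun a ha => by rw [← sq]; exact hv.exp a (hW a ha)
  · intro N _ hp hn
    rw [hC]
    exact Grp.le_pCore ⟨fun n hn' g => hn g (mem_top g) n hn'⟩ hp
  · intro q hq e he
    rw [hC] at hq
    rw [hpg] at he
    rcases (Fus.PushBlocks.rank_cases hd hv).1 with ⟨h, -⟩ | h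
    · exact h (commutator_mem_commutator hq he)
    · exact absurd h.three (by norm_num)
  · intro N hN
    refine (fr.eq_top_of_roots N (fun t => ?_) (fun t => ?_) fun x hx => ?_).ge
    · simpa using hN 1 (mem_top _) _ (fr.σ_mem t)
    · exact hN _ (mem_top _) _ (fr.σ_mem t)
    · simpa using hN 1 (mem_top _) _ (hQS hx)
  · rw [hpg]
    exact (Fus.PushBlocks.pgen_sup_sylow Sy).ge
  · exact fun a ha b hb => (mem_Zs.mp (hv.move b hb a (hW a ha))).2.1
  · intro b hb hnot a ha hc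
    rw [hpg] at hc
    have haQ : b ∉ Cfsg.pCore 2 X := fun hq => hnot (mem_centralizer_iff.mpr fun w hw =>
      (hv.cent_core b hq w (hW w hw)).symm)
    have hcz : ⁅b, a⁆ ∈ Cz Sy := Fus.PushBlocks.fix_pgen hd hv (hW _ (Fus.PushBlocks.move_Wm hd hv b (hW a ha)))
      fun e he => mem_centralizer_iff.mp hc e he
    exact (mem_Zs.mp (hρ.sec.fix b hb haQ a (hW a ha) hcz)).2.1
  · rw [hC]
    have hinf : Wm Sy ⊓ centralizer ((Sy : Subgroup X) : Set X) = Wm Sy ⊓ Zs Sy := by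
      refine le_antisymm (fun x hx => ⟨hx.1, mem_Zs.mpr ⟨?_, hx.2, hv.exp x (hW x hx.1)⟩⟩) (fun x hx => ⟨hx.1, hx.2.2.1⟩)
      exact hQS (hv.le_core (hW x hx.1))
    have hsup : Wm Sy ⊔ Zs Sy = Vz Sy := le_antisymm (sup_le (Fus.PushBlocks.Wm_le_Vz Sy) hv.Z_le)
      ((Fus.PushBlocks.Vz_split hd hv).ge.trans (sup_le_sup_left hv.C0_le _))
    have e := Grp.card_sup_mul_card_inf (H := Zs Sy) (N := Wm Sy) fun a _ =>
      (normalizer_eq_top_iff.mpr hWn).ge (mem_top a)
    rw [sup_comm, hsup, inf_comm, hρ.sec.card_U] at e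
    have e1 := relIndex_mul_relIndex ⊥ (Wm Sy ⊓ Zs Sy) (Wm Sy) bot_le inf_le_left
    have e2 := relIndex_mul_relIndex ⊥ (Cfsg.pCore 2 X) (Sy : Subgroup X) bot_le hQS
    rw [relIndex_bot_left, relIndex_bot_left] at e1 e2
    rw [fr.card_S, mul_comm (Fintype.card F)] at e2
    rw [hinf]
    refine Nat.eq_of_mul_eq_mul_left (Nat.card_pos (α := ↥(Wm Sy ⊓ Zs Sy))) ?_
    rw [e1, Nat.eq_of_mul_eq_mul_left Nat.card_pos e2]
    have h3 : Nat.card ↥(Zs Sy) * (Fintype.card F * Nat.card ↥(Wm Sy ⊓ Zs Sy)) =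
        Nat.card ↥(Zs Sy) * Nat.card ↥(Wm Sy) := by
      rw [← e]; ring
    rw [← Nat.eq_of_mul_eq_mul_left Nat.card_pos h3, mul_comm]
  · intro N hN hn
    haveI : N.Normal := ⟨fun n hn' g => hn g (mem_top g) n hn'⟩
    rw [hpg]
    rcases hρ.sec.irr (N ⊔ Cz Sy) inferInstance le_sup_right
      (sup_le (hN.trans (Fus.PushBlocks.Wm_le_Vz Sy)) inf_le_left) with h | h
    · exact Or.inl fun n hn' => mem_centralizer_iff.mpr fun e _ =>
        Subgroup.mem_center_iff.mp ((le_sup_left.trans h.le) hn').2 e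
    · refine Or.inr (le_antisymm hN ?_)
      show ⁅Vz Sy, Fus.PushBlocks.pgen 2 X⁆ ≤ N
      rw [← h, commutator_le]
      intro v hv' e he
      obtain ⟨n, hn', c, hc, rfl⟩ := Subgroup.mem_sup_of_normal_left.mp hv'
      rw [show ⁅n * c, e⁆ = n * ⁅c, e⁆ * n⁻¹ * ⁅n, e⁆ by simp only [commutatorElement_def]; group,
        commutatorElement_eq_one_iff_mul_comm.mpr (Subgroup.mem_center_iff.mp hc.2 e).symm, mul_one,
        mul_inv_cancel, one_mul, commutatorElement_def, show n * e * n⁻¹ * e⁻¹ = n * (e * n⁻¹ * e⁻¹) by group]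
      exact mul_mem hn' (hn e (mem_top e) _ (inv_mem hn'))
  · intro hle
    refine one_ne_zero (fr.σ_eq_zero (1 : F) ?_)
    rw [← hC]
    exact ⟨fr.σ_mem 1, hle (fr.σ_mem 1)⟩

/-- A node over the Baumann subgroup inside the core module, whose local subgroup generates with the Sylow subgroup. -/
theorem exists_node {G : Type u} [Group G] [Finite G] {T : Sylow 2 G} {M : Subgroup G} (h : Setup T M) :
    ∃ W L : Subgroup G, Node (bau T) W L ∧ W ≤ Cfsg.omegaOneCenter 2 (Cfsg.pCore 2 G) ∧ ¬ L ≤ M := by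
  obtain ⟨r, F, B⟩ := h.blks
  obtain ⟨S, K, hP, hK⟩ := B.exists_piece ⟨0, B.ctx.blk.pos⟩
  obtain ⟨H, D⟩ := B.exists_local hP hK
  obtain ⟨L, iL, fL, Sy, fr, hSy, hd, hv, -⟩ := D.exists_rank h
  refine ⟨(Wm Sy).map H.subtype, H, ?_, ?_, ?_⟩
  · have h1 := (rank_one_node hd hv).map H.subtype H.subtype_injective
    rwa [hSy, map_subgroupOf_eq_of_le D.bau_le, ← MonoidHom.range_eq_map, range_subtype] at h1
  · haveI hm : (Cfsg.omegaOneCenter 2 (Cfsg.pCore 2 G)).Normal := Fus.CStarStar.mod_normal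
    haveI := h.U0_normal
    refine map_le_iff_le_comap.mpr (commutator_le.mpr fun v hv' e _ => ?_)
    obtain ⟨m, hm', a, ha, huv⟩ := Subgroup.mem_sup_of_normal_left.mp (h.V2_eq (D.Vz_le_V2 h hSy hv'))
    have hae : Commute a (e : G) := mem_centralizer_iff.mp (D.le e.2) a ha
    rw [mem_comap, map_commutatorElement]
    show ⁅(v : G), (e : G)⁆ ∈ Cfsg.omegaOneCenter 2 (Cfsg.pCore 2 G)
    rw [← huv, show ⁅m * a, (e : G)⁆ = m * ⁅a, (e : G)⁆ * m⁻¹ * ⁅m, (e : G)⁆ by
      simp only [commutatorElement_def]; group, commutatorElement_eq_one_iff_mul_comm.mpr hae.eq, mul_one,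
      mul_inv_cancel, one_mul, commutatorElement_def,
      show m * (e : G) * m⁻¹ * (e : G)⁻¹ = m * ((e : G) * m⁻¹ * (e : G)⁻¹) by group]
    exact mul_mem hm' (hm.conj_mem _ (inv_mem hm') _)
  · intro hHM
    refine h.toHyp.phyp.Mne (le_antisymm h.toHyp.phyp.MP ?_)
    refine D.piece.top.trans (sup_le ?_ (map_mono h.toHyp.TM))
    exact le_sup_left.trans (D.image.ge.trans (map_mono hHM))

end Cfsg.Agent.Transfer.QRC
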