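import Cfsg.Agent.Lib.Transfer.QRC.NodeOrbit
import Cfsg.Agent.Lib.Transfer.QRC.NodeExists
import Cfsg.Agent.Lib.Transfer.QRC.CharTwoLocal
import Cfsg.Agent.Lib.Invol.JCompBasic
import Cfsg.Agent.Lib.Invol.PushCLFrattini

/-!
# A common normal subgroup below a Sylow 2-subgroup of `O²(H)R`

`T` is a Sylow 2-subgroup of a group of even characteristic, `T` lies in one maximal subgroup of `H`, and `R ≤ T` is a
Sylow 2-subgroup of `O²(H)R` normalised by `M₀ ≥ T`. Then a nontrivial subgroup of `R` is normalised by `M₀` and `H`.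
-/

set_option autoImplicit false
set_option linter.style.haveILetI false

namespace Cfsg.Agent.Transfer.QRC

open Subgroup
open scoped commutatorElement

section Transport

variable {G G' : Type*} [Group G] [Group G'] [Finite G] (f : G →* G') (hf : Function.Injective f)
include hf

omit [Finite G] in
theorem omegaOne_map (p : ℕ) (H : Subgroup G) : Cfsg.omegaOne p (H.map f) = (Cfsg.omegaOne p H).map f := by
  unfold Cfsg.omegaOne
  rw [MonoidHom.map_closure]
  congr 1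
  ext x
  constructor
  · rintro ⟨⟨a, ha, rfl⟩, hp⟩
    exact ⟨a, ⟨ha, hf (by rw [map_pow, hp, map_one])⟩, rfl⟩
  · rintro ⟨a, ⟨ha, hp⟩, rfl⟩
    exact ⟨mem_map_of_mem f ha, by rw [← map_pow, hp, map_one]⟩

theorem baumann_map (R : Subgroup G) :
    Cfsg.baumannSubgroupOf 2 (R.map f) = (Cfsg.baumannSubgroupOf 2 R).map f := by
  unfold Cfsg.baumannSubgroupOf Cfsg.centerThompsonOf
  rw [Invol.JComp.thompson_map f hf R, ← map_inf_centralizer f hf, omegaOne_map f hf, ← map_inf_centralizer f hf]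

end Transport

variable {G : Type*} [Group G] [Finite G]

theorem cjg_baumann (m : G) (R : Subgroup G) :
    cjg m (Cfsg.baumannSubgroupOf 2 R) = Cfsg.baumannSubgroupOf 2 (cjg m R) :=
  (baumann_map (MulAut.conj m).toMonoidHom (MulAut.conj m).injective R).symm

theorem cjg_omegaCenter (m : G) (R : Subgroup G) :
    cjg m (Cfsg.omegaOneCenter 2 R) = Cfsg.omegaOneCenter 2 (cjg m R) := by
  haveI : Fact (Nat.Prime 2) := ⟨Nat.prime_two⟩
  exact (Invol.PushCLF.omegaOneCenter_map (MulAut.conj m).toMonoidHom (MulAut.conj m).injective R).symm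

theorem mem_normalizer_of_cjg {m : G} {X : Subgroup G} (h : cjg m X = X) : m ∈ normalizer (X : Set G) :=
  mem_normalizer_fintype fun x hx => h.le (conj_mem_cjg hx)

/-- A normaliser of a subgroup normalises its characteristic subgroups. -/
theorem norm_char {B C : Subgroup G} (hCB : C ≤ B) (hch : (C.subgroupOf B).Characteristic) {m : G}
    (hm : m ∈ normalizer (B : Set G)) : m ∈ normalizer (C : Set G) := by
  refine mem_normalizer_fintype fun x hx => ?_
  let φ : ↥B ≃* ↥B := (MulEquiv.subgroupMap (MulAut.conj m) B).trans (MulEquiv.subgroupCongr (cjg_of_norm hm))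
  exact mem_subgroupOf.mp (characteristic_iff_map_le.mp hch φ
    (mem_map_of_mem _ (mem_subgroupOf.mpr hx : (⟨x, hCB hx⟩ : ↥B) ∈ C.subgroupOf B)))

theorem oddGenerated_le (H : Subgroup G) : Cfsg.oddGenerated H ≤ H := (closure_le _).mpr fun _ hx => hx.1

omit [Finite G] in
theorem oddGenerated_norm (H : Subgroup G) : ∀ h ∈ H, ∀ x ∈ Cfsg.oddGenerated H, h * x * h⁻¹ ∈ Cfsg.oddGenerated H := by
  intro h hh x hx
  have hle : Cfsg.oddGenerated H ≤ (Cfsg.oddGenerated H).comap (MulAut.conj h).toMonoidHom :=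
    (closure_le _).mpr fun a ha => subset_closure ⟨mul_mem (mul_mem hh ha.1) (inv_mem hh), by
      show Odd (orderOf (MulAut.conj h a))
      rw [MulEquiv.orderOf_eq]; exact ha.2⟩
  exact hle hx

/-- `H = O²(H) T`. -/
theorem le_oddGenerated_sup (T : Sylow 2 G) {H : Subgroup G} (hT : (T : Subgroup G) ≤ H) :
    H ≤ Cfsg.oddGenerated H ⊔ (T : Subgroup G) := by
  haveI : Fact (Nat.Prime 2) := ⟨Nat.prime_two⟩
  intro x hx
  have hle : Fus.PushBlocks.pgen 2 ↥H ⊔ (T.subtype hT : Subgroup ↥H) ≤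
      (Cfsg.oddGenerated H ⊔ (T : Subgroup G)).subgroupOf H := by
    refine sup_le (Fus.PushBlocks.pgen_le fun c hc => ?_) fun c hc => mem_subgroupOf.mpr (mem_sup_right hc)
    rw [← orderOf_coe, Nat.coprime_two_right] at hc
    exact mem_subgroupOf.mpr (mem_sup_left (subset_closure ⟨c.2, hc⟩))
  rw [Fus.PushBlocks.pgen_sup_sylow] at hle
  exact mem_subgroupOf.mp (hle (mem_top (⟨x, hx⟩ : ↥H)))

theorem common_normal (hE : Cfsg.IsOfEvenCharacteristic G) (T : Sylow 2 G) (M₀ H : Subgroup G)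
    (hTM₀ : (T : Subgroup G) ≤ M₀) (hTH : (T : Subgroup G) ≤ H) (hH2 : core2 H ≠ ⊥)
    (hU : ∃ Mc : Subgroup G, (T : Subgroup G) ≤ Mc ∧ Mc < H ∧ ∀ Y : Subgroup G, (T : Subgroup G) ≤ Y → Y < H → Y ≤ Mc)
    (R : Subgroup G) (hR : R ≠ ⊥) (hRT : R ≤ (T : Subgroup G))
    (hRS : ¬ 2 ∣ R.relIndex (Cfsg.oddGenerated H ⊔ R)) (hRM : M₀ ≤ normalizer (R : Set G)) :
    ∃ R₀ : Subgroup G, R₀ ≠ ⊥ ∧ R₀ ≤ R ∧ M₀ ⊔ H ≤ normalizer (R₀ : Set G) := by
  haveI : Fact (Nat.Prime 2) := ⟨Nat.prime_two⟩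
  obtain ⟨Mc, hTMc, hMc, huniq⟩ := hU
  have hTR : (T : Subgroup G) ≤ normalizer (R : Set G) := hTM₀.trans hRM
  have hRH : R ≤ H := hRT.trans hTH
  obtain ⟨H1, hH1⟩ : ∃ H1, H1 = Cfsg.oddGenerated H ⊔ R := ⟨_, rfl⟩
  have hH1H : H1 ≤ H := hH1 ▸ sup_le (oddGenerated_le H) hRH
  have hHgen := le_oddGenerated_sup T hTH
  have hH1M : ¬ H1 ≤ Mc := fun h => hMc.not_ge
    (hHgen.trans (sup_le ((le_sup_left.trans hH1.ge).trans h) hTMc))
  -- anything normalised by `T` and by a part of `H` outside `Mc` is normalised by `H`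
  have key : ∀ X C : Subgroup G, X ≤ H → ¬ X ≤ Mc → X ≤ normalizer (C : Set G) →
      (T : Subgroup G) ≤ normalizer (C : Set G) → H ≤ normalizer (C : Set G) := by
    intro X C hXH hXM hXC hTC
    by_contra hn
    refine hXM (le_trans (le_inf hXC hXH) (huniq _ (le_inf hTC hTH) (lt_of_le_of_ne inf_le_right fun e => ?_)))
    exact hn (inf_eq_right.mp e)
  have hdone : ∀ X C : Subgroup G, X ≤ H → ¬ X ≤ Mc → C ≠ ⊥ → C ≤ R → X ≤ normalizer (C : Set G) →
      M₀ ≤ normalizer (C : Set G) → ∃ R₀ : Subgroup G, R₀ ≠ ⊥ ∧ R₀ ≤ R ∧ M₀ ⊔ H ≤ normalizer (R₀ : Set G) :=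
    fun X C hXH hXM hC hCR hXC hMC => ⟨C, hC, hCR, sup_le hMC (key X C hXH hXM hXC (hTM₀.trans hMC))⟩
  obtain ⟨X, ⟨hRX, hXH1, hXM⟩, hXmin⟩ := Set.exists_min_image {X : Subgroup G | R ≤ X ∧ X ≤ H1 ∧ ¬ X ≤ Mc}
    (fun X => Nat.card X) (Set.toFinite _) ⟨H1, hH1 ▸ le_sup_right, le_rfl, hH1M⟩
  have hXH : X ≤ H := hXH1.trans hH1H
  have hsub : ∀ Y : Subgroup G, R ≤ Y → Y ≤ X → Y ≠ X → Y ≤ Mc := fun Y hRY hYX hne => by
    by_contra h
    exact hne (eq_of_le_of_card_ge hYX (hXmin Y ⟨hRY, hYX.trans hXH1, h⟩))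
  have hRMc : R ≤ Mc := hRT.trans hTMc
  by_cases hRn : X ≤ normalizer (R : Set G)
  · exact hdone X R hXH hXM hR le_rfl hRn hRM
  have hBR : Cfsg.baumannSubgroupOf 2 R ≤ R := inf_le_left
  have hMB : M₀ ≤ normalizer (Cfsg.baumannSubgroupOf 2 R : Set G) := fun m hm =>
    mem_normalizer_of_cjg (by rw [cjg_baumann, cjg_of_norm (hRM hm)])
  have hMZ : M₀ ≤ normalizer (Cfsg.omegaOneCenter 2 R : Set G) := fun m hm =>
    mem_normalizer_of_cjg (by rw [cjg_omegaCenter, cjg_of_norm (hRM hm)])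
  by_cases hz : X ≤ normalizer (Cfsg.omegaOneCenter 2 R : Set G)
  · refine hdone X (Cfsg.omegaOneCenter 2 R) hXH hXM (fun h => ?_) ((closure_le _).mpr fun x hx => hx.1.1) hz hMZ
    have hRp : IsPGroup 2 R := T.isPGroup'.to_le hRT
    haveI : Nontrivial ↥R := (Subgroup.nontrivial_iff_ne_bot R).mpr hR
    haveI := hRp.center_nontrivial
    obtain ⟨z, hz'⟩ := exists_prime_orderOf_dvd_card' (G := ↥(center ↥R)) 2
      ((hRp.to_subgroup _).card_eq_or_dvd.resolve_left Finite.one_lt_card.ne')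
    have h1 : ((z : ↥R) : G) ∈ Cfsg.omegaOneCenter 2 R := subset_closure ⟨⟨(z : ↥R).2,
      mem_centralizer_iff.mpr fun y hy => congrArg Subtype.val (Subgroup.mem_center_iff.mp z.2 ⟨y, hy⟩)⟩,
      congrArg (fun w : ↥(center ↥R) => ((w : ↥R) : G)) (show z ^ 2 = 1 by rw [← hz', pow_orderOf_eq_one])⟩
    rw [h, mem_bot] at h1
    rw [show z = 1 from Subtype.ext (Subtype.ext h1), orderOf_one] at hz'
    exact absurd hz' (by norm_num)
  by_cases hch : ∃ C : Subgroup G, C ≤ Cfsg.baumannSubgroupOf 2 R ∧ C ≠ ⊥ ∧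
      (C.subgroupOf (Cfsg.baumannSubgroupOf 2 R)).Characteristic ∧ X ≤ normalizer (C : Set G)
  · obtain ⟨C, hCB, hC, hCc, hXC⟩ := hch
    exact hdone X C hXH hXM hC (hCB.trans hBR) hXC fun m hm => norm_char hCB hCc (hMB hm)
  -- `R` is a Sylow subgroup of `X`
  have hodd : ¬ 2 ∣ R.relIndex X := fun h => hRS (h.trans (Dvd.intro _ (relIndex_mul_relIndex R X _ hRX (hH1 ▸ hXH1))))
  obtain ⟨Ts, hTs⟩ : ∃ Ts : Sylow 2 ↥X, (Ts : Subgroup ↥X) = R.subgroupOf X :=
    ⟨((T.isPGroup'.to_le hRT).of_equiv (subgroupOfEquivOfLe hRX).symm).toSylow hodd, rfl⟩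
  have hTsmap : (Ts : Subgroup ↥X).map X.subtype = R := by rw [hTs, map_subgroupOf_eq_of_le hRX]
  have hnormal : ∀ C : Subgroup ↥X, C.Normal → X ≤ normalizer ((C.map X.subtype : Subgroup G) : Set G) :=
    fun C hC g hg => mem_normalizer_fintype fun y ⟨c, hc, e⟩ =>
      ⟨⟨g, hg⟩ * c * ⟨g, hg⟩⁻¹, hC.conj_mem c hc _, by rw [← e]; simp⟩
  have hle : ∀ N : Subgroup ↥X, (Ts : Subgroup ↥X) ≤ N → N ≠ ⊤ → N ≤ Mc.subgroupOf X := fun N hN hne y hy => by
    refine mem_subgroupOf.mpr (hsub (N.map X.subtype) ?_ (map_subtype_le _) ?_ (mem_map_of_mem _ hy))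
    · exact hTsmap.ge.trans (map_mono hN)
    · exact fun e => hne (eq_top_iff.mpr fun y _ => (mem_map_iff_mem X.subtype_injective).mp (e.ge y.2))
  have hMne : Mc.subgroupOf X ≠ ⊤ := fun h => hXM (subgroupOf_eq_top.mp h)
  have hcoat : IsCoatom (Mc.subgroupOf X) := by
    refine ⟨hMne, fun N hN => by_contra fun hne => hN.not_ge (hle N ?_ hne)⟩
    refine le_trans ?_ hN.le
    rw [hTs]
    exact comap_mono hRMc
  have hpm : ∀ S : Sylow 2 ↥X, ¬ (S : Subgroup ↥X).Normal ∧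
      ∃! N : Subgroup ↥X, IsCoatom N ∧ (S : Subgroup ↥X) ≤ N := by
    intro S
    obtain ⟨g, hg⟩ := MulAction.exists_smul_eq ↥X Ts S
    have hS : (S : Subgroup ↥X) = cjg g (Ts : Subgroup ↥X) := by rw [← hg]; rfl
    refine ⟨fun hn => hRn ?_, cjg g (Mc.subgroupOf X), ⟨?_, ?_⟩, fun N hN => ?_⟩
    · have e : (Ts : Subgroup ↥X) = S := by
        have h1 : cjg g⁻¹ (S : Subgroup ↥X) = (S : Subgroup ↥X) :=
          cjg_of_norm ((normalizer_eq_top_iff.mpr hn).ge (mem_top _))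
        rw [hS, ← cjg_mul, inv_mul_cancel, cjg_one] at h1
        exact h1.trans hS.symm
      have h := hnormal _ hn
      rwa [← e, hTsmap] at h
    · exact (OrderIso.isCoatom_iff ((MulAut.conj g).mapSubgroup) (Mc.subgroupOf X)).mpr hcoat
    · rw [hS]
      refine map_mono ?_
      rw [hTs]
      exact comap_mono hRMc
    · have h1 : IsCoatom (cjg g⁻¹ N) := (OrderIso.isCoatom_iff ((MulAut.conj g⁻¹).mapSubgroup) N).mpr hN.1
      have h2 : (Ts : Subgroup ↥X) ≤ cjg g⁻¹ N := by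
        have := map_mono (f := (MulAut.conj g⁻¹).toMonoidHom) hN.2
        rw [hS] at this
        change cjg g⁻¹ (cjg g (Ts : Subgroup ↥X)) ≤ cjg g⁻¹ N at this
        rwa [← cjg_mul, inv_mul_cancel, cjg_one] at this
      have h3 : cjg g⁻¹ N = Mc.subgroupOf X := by
        rcases eq_or_lt_of_le (hle _ h2 h1.1) with h | h
        · exact h
        · exact absurd (h1.2 _ h) hMne
      rw [← h3, ← cjg_mul, mul_inv_cancel, cjg_one]
  -- the core of `X`
  obtain ⟨O, hO⟩ : ∃ O, O = core2 H ⊓ R := ⟨_, rfl⟩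
  have hH1n : ∀ h ∈ H, ∀ x ∈ H1, h * x * h⁻¹ ∈ H1 := by
    intro h hh x hx
    refine (mem_normalizer_iff.mp (?_ : h ∈ normalizer (H1 : Set G)) x).mp hx
    have hle' : Cfsg.oddGenerated H ⊔ (T : Subgroup G) ≤ normalizer (H1 : Set G) := by
      refine sup_le ((le_sup_left.trans hH1.ge).trans le_normalizer) fun t ht => mem_normalizer_of_cjg ?_
      have e1 : cjg t (Cfsg.oddGenerated H) = Cfsg.oddGenerated H :=
        cjg_of_norm (mem_normalizer_fintype (oddGenerated_norm H t (hTH ht)))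
      rw [hH1, cjg, Subgroup.map_sup]
      change cjg t (Cfsg.oddGenerated H) ⊔ cjg t R = _
      rw [e1, cjg_of_norm (hTR ht)]
    exact hle' (hHgen hh)
  have hcoreH1 : core2 H ⊓ H1 ≤ R := by
    intro x hx
    have hn : H1 ≤ normalizer ((core2 H ⊓ H1 : Subgroup G) : Set G) := fun g hg => mem_normalizer_fintype
      fun y hy => ⟨core2_norm H g (hH1H hg) y hy.1, H1.mul_mem (H1.mul_mem hg hy.2) (H1.inv_mem hg)⟩
    have hRH1 : R ≤ H1 := hH1 ▸ le_sup_right
    have hRp : IsPGroup 2 R := T.isPGroup'.to_le hRT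
    obtain ⟨P, hP⟩ : ∃ P, P = R ⊔ (core2 H ⊓ H1) := ⟨_, rfl⟩
    have hPp : IsPGroup 2 P := hP ▸ IsPGroup.to_sup_of_normal_right' hRp
      ((core2_isPGroup H).to_le inf_le_left) (hRH1.trans hn)
    have hPH1 : P ≤ H1 := hP ▸ sup_le hRH1 inf_le_right
    have h1 : ¬ 2 ∣ R.relIndex P := fun h => hRS (h.trans (Dvd.intro _ (relIndex_mul_relIndex R P _ (hP ▸ le_sup_left) (hH1 ▸ hPH1))))
    obtain ⟨k, hk⟩ := hPp.index (R.subgroupOf P)
    have h2 : R.relIndex P = 1 := by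
      rcases Nat.eq_zero_or_pos k with rfl | hk0
      · simpa using hk
      · exact absurd ((dvd_pow_self 2 hk0.ne').trans (dvd_of_eq hk.symm)) h1
    exact relIndex_eq_one.mp h2 (hP ▸ mem_sup_right hx)
  have hOn : ∀ h ∈ H, ∀ x ∈ O, h * x * h⁻¹ ∈ O := by
    intro h hh x hx
    rw [hO] at hx ⊢
    have h1 := core2_norm H h hh x hx.1
    exact ⟨h1, hcoreH1 ⟨h1, hH1n h hh x (hH1 ▸ mem_sup_right hx.2)⟩⟩
  have hcH := charTwo_over hE T hTH hH2
  have hOc : H1 ⊓ centralizer (O : Set G) ≤ O := by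
    obtain ⟨K, hK⟩ : ∃ K, K = H1 ⊓ centralizer (O : Set G) := ⟨_, rfl⟩
    rw [← hK]
    have hKn : ∀ h ∈ H, ∀ x ∈ K, h * x * h⁻¹ ∈ K := by
      intro h hh x hx
      rw [hK] at hx ⊢
      refine ⟨hH1n h hh x hx.1, mem_centralizer_iff.mpr fun y hy => ?_⟩
      have e := mem_centralizer_iff.mp hx.2 _ (hOn h⁻¹ (inv_mem hh) y hy)
      rw [inv_inv] at e
      calc y * (h * x * h⁻¹) = h * (h⁻¹ * y * h * x) * h⁻¹ := by group
        _ = h * (x * (h⁻¹ * y * h)) * h⁻¹ := by rw [e]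
        _ = _ := by group
    have hKp : IsPGroup 2 K := by
      -- an element of odd order of `K` centralises the core of `H`
      intro ⟨x, hx⟩
      obtain ⟨e, m, hm, hxm⟩ := Nat.exists_eq_pow_mul_and_not_dvd (orderOf_pos x).ne' 2 (by norm_num)
      refine ⟨e, Subtype.ext ?_⟩
      show x ^ 2 ^ e = 1
      obtain ⟨d, hd⟩ : ∃ d, d = x ^ 2 ^ e := ⟨_, rfl⟩
      rw [← hd]
      have hdK : d ∈ K := hd ▸ K.pow_mem hx _
      have hdm : d ^ m = 1 := by rw [hd, ← pow_mul, ← hxm, pow_orderOf_eq_one]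
      rw [hK] at hdK
      have hdc : d ∈ centralizer (core2 H : Set G) := by
        refine mem_centralizer_iff.mpr fun q hq => ?_
        have hdH := hH1H hdK.1
        have h1 : ⁅q, d⁆ ∈ O := by
          rw [hO, mem_inf]
          have h1 : ⁅q, d⁆ ∈ core2 H := by
            rw [commutatorElement_def, show q * d * q⁻¹ * d⁻¹ = q * (d * q⁻¹ * d⁻¹) by group]
            exact mul_mem hq (core2_norm H d hdH _ (inv_mem hq))
          exact ⟨h1, hcoreH1 ⟨h1, by
            rw [commutatorElement_def]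
            exact H1.mul_mem (hH1n q (core2_le H hq) d hdK.1) (H1.inv_mem hdK.1)⟩⟩
        have hcm : Commute d ⁅q, d⁆ := (mem_centralizer_iff.mp hdK.2 _ h1).symm
        have h2 : (q * d * q⁻¹) ^ m = 1 := by rw [conj_pow, hdm]; group
        rw [show q * d * q⁻¹ = ⁅q, d⁆ * d by simp [commutatorElement_def], hcm.symm.mul_pow, hdm, mul_one] at h2
        obtain ⟨k, hk⟩ := core2_isPGroup H ⟨_, (hO ▸ h1).1⟩
        have hk' : ⁅q, d⁆ ^ 2 ^ k = 1 := congrArg Subtype.val hk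
        have h3 : orderOf ⁅q, d⁆ ∣ Nat.gcd (2 ^ k) m :=
          Nat.dvd_gcd (orderOf_dvd_of_pow_eq_one hk') (orderOf_dvd_of_pow_eq_one h2)
        rw [Nat.Coprime.gcd_eq_one (Nat.Coprime.pow_left k ((Nat.prime_two.coprime_iff_not_dvd).mpr hm)),
          Nat.dvd_one, orderOf_eq_one_iff] at h3
        exact commutatorElement_eq_one_iff_mul_comm.mp h3
      obtain ⟨k, hk⟩ := core2_isPGroup H ⟨d, hcH ⟨hH1H hdK.1, hdc⟩⟩
      have hk' : d ^ 2 ^ k = 1 := congrArg Subtype.val hk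
      have h4 : orderOf d ∣ Nat.gcd (2 ^ k) m :=
        Nat.dvd_gcd (orderOf_dvd_of_pow_eq_one hk') (orderOf_dvd_of_pow_eq_one hdm)
      rwa [Nat.Coprime.gcd_eq_one (Nat.Coprime.pow_left k ((Nat.prime_two.coprime_iff_not_dvd).mpr hm)),
        Nat.dvd_one, orderOf_eq_one_iff] at h4
    intro x hx
    have h1 : x ∈ core2 H := le_core2 ((hK.le.trans inf_le_left).trans hH1H) hKp hKn hx
    rw [hO]
    exact ⟨h1, hcoreH1 ⟨h1, (hK.le hx).1⟩⟩
  have hOX : O.subgroupOf X ≤ Cfsg.pCore 2 ↥X := by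
    refine le_sSup ⟨⟨fun a ha b => mem_subgroupOf.mpr ?_⟩, ?_⟩
    · exact hOn b (hXH b.2) a (mem_subgroupOf.mp ha)
    · exact ((T.isPGroup'.to_le hRT).to_le (hO ▸ inf_le_right)).of_equiv
        (subgroupOfEquivOfLe ((hO ▸ inf_le_right : O ≤ R).trans hRX)).symm
  have hXc : centralizer (Cfsg.pCore 2 ↥X : Set ↥X) ≤ Cfsg.pCore 2 ↥X := fun x hx =>
    hOX (mem_subgroupOf.mpr (hOc ⟨hXH1 x.2, mem_centralizer_iff.mpr fun y hy =>
      congrArg Subtype.val (mem_centralizer_iff.mp hx ⟨y, (hO.le hy).2 |> fun h => hRX h⟩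
        (hOX (mem_subgroupOf.mpr hy)))⟩))
  -- pushing up
  have hBmap : (Cfsg.baumannSubgroupOf 2 (Ts : Subgroup ↥X)).map X.subtype = Cfsg.baumannSubgroupOf 2 R := by
    rw [← baumann_map X.subtype X.subtype_injective, hTsmap]
  obtain ⟨M, hset⟩ := Fus.PushBlocks.exists_setup (T := Ts) hpm hXc
    (fun C hC hne hchar hn => by
      refine hch ⟨C.map X.subtype, (map_mono hC).trans hBmap.le,
        fun h => hne ((map_eq_bot_iff_of_injective _ X.subtype_injective).mp h), ?_, hnormal C hn⟩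
      have e := hBmap
      revert e
      generalize Cfsg.baumannSubgroupOf 2 R = B'
      rintro rfl
      refine characteristic_iff_map_le.mpr fun φ => ?_
      rintro _ ⟨y, hy, rfl⟩
      obtain ⟨c, hc, hcy⟩ := mem_subgroupOf.mp hy
      let θ := (Cfsg.baumannSubgroupOf 2 (Ts : Subgroup ↥X)).equivMapOfInjective X.subtype X.subtype_injective
      have hcB : c ∈ Cfsg.baumannSubgroupOf 2 (Ts : Subgroup ↥X) := hC hc
      have h1 := characteristic_iff_map_le.mp hchar ((θ.trans φ).trans θ.symm)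
        (mem_map_of_mem _ (mem_subgroupOf.mpr hc : (⟨c, hcB⟩ : ↥(Cfsg.baumannSubgroupOf 2 (Ts : Subgroup ↥X))) ∈ _))
      refine mem_subgroupOf.mpr ⟨_, mem_subgroupOf.mp h1, ?_⟩
      have e1 : θ ⟨c, hcB⟩ = y := Subtype.ext hcy
      simp only [MulEquiv.coe_toMonoidHom, MulEquiv.trans_apply, e1]
      exact congrArg Subtype.val (θ.apply_symm_apply (φ y)))
    (fun hn => hz (by
      have h := hnormal _ hn
      rwa [← Invol.PushCLF.omegaOneCenter_map X.subtype X.subtype_injective, hTsmap] at h))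
  obtain ⟨W, L, hnode, hWm, hLM⟩ := exists_node hset
  -- the node in `G`
  have hN0 := hnode.map X.subtype X.subtype_injective
  rw [hBmap] at hN0
  obtain ⟨WG, hWG⟩ : ∃ WG, WG = W.map X.subtype := ⟨_, rfl⟩
  obtain ⟨LG, hLG⟩ : ∃ LG, LG = L.map X.subtype := ⟨_, rfl⟩
  rw [← hWG, ← hLG] at hN0
  have hLX : LG ≤ X := hLG ▸ map_subtype_le _
  have hLMc : ¬ LG ≤ Mc := fun h => hLM (by
    have hsubM : Mc.subgroupOf X ≤ M := hset.toHyp.uniq _ (by rw [hTs]; exact comap_mono hRMc) hMne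
    exact fun y hy => hsubM (mem_subgroupOf.mpr (h (hLG ▸ mem_map_of_mem _ hy))))
  have hWcore : WG ≤ core2 H := by
    rw [hWG]
    rintro _ ⟨w, hw, rfl⟩
    refine (hO.le (hOc ⟨hXH1 w.2, mem_centralizer_iff.mpr fun y hy => ?_⟩)).1
    have h1 := Fus.CStarStar.core_le_cent (hOX (mem_subgroupOf.mpr hy :
      (⟨y, hRX (hO.le hy).2⟩ : ↥X) ∈ O.subgroupOf X))
    exact (congrArg Subtype.val (mem_centralizer_iff.mp h1 w (hWm hw))).symm
  have hBT : Cfsg.baumannSubgroupOf 2 R ≤ (T : Subgroup G) := hBR.trans hRT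
  have horb : OrbitHyp (T : Subgroup G) M₀ (Cfsg.baumannSubgroupOf 2 R) WG LG :=
    { pT := T.isPGroup'
      TM := hTM₀
      oddIdx := fun h => T.not_dvd_index (h.trans (relIndex_dvd_index_of_le hTM₀))
      BT := hBT
      norm := hMB
      node := hN0
      side := fun t ht hadj => hadj fun x hx => by
        have hn := hN0.core (core2 H ⊓ LG) inf_le_right ((core2_isPGroup H).to_le inf_le_left) fun l hl n hn =>
          ⟨core2_norm H l (hXH (hLX hl)) n hn.1, LG.mul_mem (LG.mul_mem hl hn.2) (LG.inv_mem hl)⟩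
        obtain ⟨w, hw, e⟩ := hx
        refine (hn ⟨?_, ?_⟩).2
        · rw [← e]; exact core2_norm H t (hTH ht) w (hWcore hw)
        · rw [← e]
          refine hN0.bl ((mem_normalizer_iff.mp (hMB (hTM₀ ht)) w).mp (hN0.wb hw))
      char2 := fun z hz1 hz2 hTz => centralizer_core hE T hz1 hz2 hTz }
  have hno := horb.no_adj
  obtain ⟨R₀, hR₀⟩ : ∃ R₀ : Subgroup G, R₀ = Subgroup.closure {g | ∃ m ∈ M₀, g ∈ cjg m WG} := ⟨_, rfl⟩
  have hWR : WG ≤ R₀ := fun w hw => hR₀ ▸ subset_closure ⟨1, one_mem _, by rwa [cjg_one]⟩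
  have hR₀Q : R₀ ≤ Cfsg.baumannSubgroupOf 2 R ⊓ centralizer (WG : Set G) := by
    rw [hR₀, closure_le]
    rintro g ⟨m, hm, hg⟩
    exact ⟨(horb.node_conj hm).wb hg, le_centralizer_iff.mp (not_not.mp (hno m hm)) hg⟩
  have hMR₀ : M₀ ≤ normalizer (R₀ : Set G) := by
    intro a ha
    refine mem_normalizer_fintype fun g hg => ?_
    have hle' : R₀ ≤ R₀.comap (MulAut.conj a).toMonoidHom := by
      conv_lhs => rw [hR₀]
      rw [closure_le]
      rintro g ⟨m, hm, hg⟩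
      rw [SetLike.mem_coe, mem_comap, hR₀]
      exact subset_closure ⟨a * m, mul_mem ha hm, by rw [cjg_mul]; exact mem_map_of_mem _ hg⟩
    exact hle' hg
  have hR₀R : R₀ ≤ R := (hR₀Q.trans inf_le_left).trans hBR
  refine hdone LG R₀ (hLX.trans hXH) hLMc (fun h => ?_) hR₀R ?_ hMR₀
  · have hW0 : WG = ⊥ := le_bot_iff.mp (hWR.trans h.le)
    refine hN0.ncent fun b _ => mem_centralizer_iff.mpr fun w hw => ?_
    rw [show w = 1 from mem_bot.mp (hW0.le hw), one_mul, mul_one]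
  · refine hN0.sup.trans (sup_le (fun e he => mem_normalizer_fintype fun g hg => ?_)
      ((hBR.trans (hRT.trans hTM₀)).trans hMR₀))
    obtain ⟨w, hw, hc⟩ := hN0.move_conj (hR₀Q hg) he
    rw [hc]
    exact mul_mem (hWR hw) hg

end Cfsg.Agent.Transfer.QRC
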