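import Cfsg.Agent.Lib.Transfer.QRC.BlockGens

/-!
# Invariant subspaces of a module with blocks

A subspace normalised by the Sylow subgroup is centralised by its part in a block, or that part contains an elementary
quadratic subgroup with a small index of fixed points.
-/

set_option autoImplicit false
set_option linter.unusedSectionVars false
set_option linter.style.haveILetI false

open scoped commutatorElement Matrix

namespace Cfsg.Agent.Transfer.QRC

open Subgroup Cfsg.Agent.Fus Cfsg.Agent.Fus.PushBlocks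
open Cfsg.Agent.Fus.MinModule (VHyp)

universe u

variable {Γ : Type u} [Group Γ] [Finite Γ] {V P T : Subgroup Γ} {r : ℕ} {F : Fin r → Subgroup Γ}
  {XS : Set (Subgroup Γ)}

/-- A 2-group over a subgroup of odd index is that subgroup. -/
theorem eq_of_odd_index {Q Y : Subgroup Γ} (hp : IsPGroup 2 Y) (h : ¬ 2 ∣ Q.relIndex Y) : Y ≤ Q := by
  obtain ⟨n, hn⟩ := hp.exists_card_eq
  obtain ⟨k, -, hk⟩ := (Nat.dvd_prime_pow Nat.prime_two).mp (hn ▸ (relIndex_dvd_card Q Y) : Q.relIndex Y ∣ 2 ^ n)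
  refine relIndex_eq_one.mp ?_
  rcases Nat.eq_zero_or_pos k with rfl | h0
  · exact hk
  · exact absurd (hk ▸ dvd_pow_self 2 h0.ne') h

/-- The Sylow subgroup of the product of the blocks is the product of its parts. -/
theorem inf_sup_le (C : Ctx 2 V P T F XS) : T ⊓ (⨆ i, F i) ≤ ⨆ i, T ⊓ F i := by
  haveI : Fact (Nat.Prime 2) := ⟨Nat.prime_two⟩
  obtain ⟨X, hX⟩ : ∃ X, X = T ⊓ (⨆ i, F i) := ⟨_, rfl⟩
  have hXF : X ≤ ⨆ i, F i := hX ▸ inf_le_right
  rw [← hX]
  refine (le_iSup_comp C.blk hXF).1.trans (iSup_mono fun i => ?_)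
  refine eq_of_odd_index (comp_isPGroup C.blk hXF (hX ▸ C.syl.2.1.to_le inf_le_left)) fun hd => (C.sylF i).2.2 ?_
  have hsub : T ⊓ F i ≤ comp F X i := le_trans (le_inf (hX.ge.trans' (inf_le_inf_left _ (le_iSup F i))) inf_le_right)
    (inf_le_comp i)
  have hF : comp F X i ≤ F i := inf_le_right
  rw [← relIndex_mul_relIndex _ _ _ hsub hF]
  exact hd.mul_right _

/-- A vector fixed by the elements of odd order of a block is fixed by the block. -/
theorem block_odd_fix (C : Ctx 2 V P T F XS) (i : Fin r) {v : Γ} (hv : v ∈ V)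
    (h : ∀ γ ∈ F i, Odd (orderOf γ) → γ * v * γ⁻¹ = v) : v ∈ centralizer (F i : Set Γ) := by
  haveI : Fact (Nat.Prime 2) := ⟨Nat.prime_two⟩
  have hodd : ∀ γ : ↥(F i), γ ^ 3 = 1 → (γ : Γ) * v * (γ : Γ)⁻¹ = v := fun γ e => h γ γ.2 (by
    rw [orderOf_coe]
    exact Odd.of_dvd_nat (by decide) (orderOf_dvd_of_pow_eq_one e))
  obtain ⟨n, hn, ⟨K, iK, fK, ρ, lam, hK, hS⟩ | ⟨-, ρ, lam, hS⟩⟩ := models C.vh C.blk i
  · have h2 : (2 : K) = 0 := by
      have e : ((2 ^ n : ℕ) : K) = 0 := hK ▸ FiniteField.cast_card_eq_zero K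
      push_cast at e
      exact pow_eq_zero_iff (by omega) |>.mp e
    have hdet : Matrix.det !![(0 : K), -1; 1, -1] = 1 := by simp [Matrix.det_fin_two]
    obtain ⟨m, hm⟩ : ∃ m : Matrix.SpecialLinearGroup (Fin 2) K,
        (m : Matrix (Fin 2) (Fin 2) K) = !![0, -1; 1, -1] := ⟨⟨_, hdet⟩, rfl⟩
    obtain ⟨γ, hγ⟩ := hS.bij.2 m
    have h3 : γ ^ 3 = 1 := hS.bij.1 (by
      rw [map_pow, hγ, map_one]
      refine Subtype.ext ?_
      rw [Matrix.SpecialLinearGroup.coe_pow, hm, Matrix.SpecialLinearGroup.coe_one, pow_three]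
      ext a b
      fin_cases a <;> fin_cases b <;> simp)
    have e := hS.act γ v hv
    rw [hodd γ h3, hγ, hm] at e
    have e0 : lam v 0 = -lam v 1 := by simpa [Matrix.mulVec, dotProduct, Fin.sum_univ_two] using congrFun e 0
    have e1 : lam v 1 = lam v 0 - lam v 1 := by
      simpa [Matrix.mulVec, dotProduct, Fin.sum_univ_two, sub_eq_add_neg] using congrFun e 1
    have hb : lam v 1 = 0 := by linear_combination e1 + e0 - lam v 1 * h2
    refine ((hS.ker v hv).mp (funext fun j => ?_)).2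
    fin_cases j
    · simpa [hb] using e0
    · simpa using hb
  · have hN : Odd (2 ^ n + 1) := (Nat.even_pow.mpr ⟨even_two, by omega⟩).add_one
    have hall : ∀ a c, lam v a = lam v c := by
      intro a c
      rcases eq_or_ne a c with rfl | hac
      · rfl
      obtain ⟨b, hba, hbc⟩ : ∃ b, b ≠ a ∧ b ≠ c := by
        have h1 : (({a, c} : Finset (Fin (2 ^ n + 1))))ᶜ.Nonempty := by
          rw [← Finset.card_pos, Finset.card_compl, Fintype.card_fin, Finset.card_pair hac]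
          have : 2 ≤ 2 ^ n := Nat.le_self_pow (by omega) 2
          omega
        obtain ⟨b, hb⟩ := h1
        simp only [Finset.mem_compl, Finset.mem_insert, Finset.mem_singleton, not_or] at hb
        exact ⟨b, hb⟩
      obtain ⟨γ, hγ⟩ := hS.bij.2 (Equiv.swap a b * Equiv.swap a c)
      have h3 : γ ^ 3 = 1 := hS.bij.1 (by
        rw [map_pow, hγ, map_one, ← (Equiv.Perm.isThreeCycle_swap_mul_swap_same hba.symm hac hbc).orderOf,
          pow_orderOf_eq_one])
      have e := hS.act γ v hv (ρ γ a)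
      rw [hodd γ h3, Equiv.Perm.coe_inv, Equiv.symm_apply_apply, hγ, Equiv.Perm.mul_apply, Equiv.swap_apply_left,
        Equiv.swap_apply_of_ne_of_ne hac.symm hbc.symm] at e
      exact e.symm
    refine ((hS.ker v hv).mp (funext fun j => ?_)).2
    have hsum := hS.sum v hv
    rwa [Finset.sum_congr rfl fun k _ => hall k j, Finset.sum_const, Finset.card_univ, Fintype.card_fin, nsmul_eq_mul,
      (ZMod.natCast_eq_one_iff_odd).mpr hN, one_mul] at hsum

/-- A block centralises an invariant subspace or has a quadratic witness on it. -/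
theorem block_witness (C : Ctx 2 V P T F XS) (hXsq : ∀ X ∈ XS, ∀ x ∈ X, x * x = 1) (i : Fin r) {W : Subgroup Γ}
    (hWV : W ≤ V) (hWT : ∀ t ∈ T, ∀ w ∈ W, t * w * t⁻¹ ∈ W) :
    T ⊓ F i ≤ centralizer (W : Set Γ) ∨ ∃ S ≤ T ⊓ F i, (∀ s ∈ S, ∀ s' ∈ S, s * s' = s' * s) ∧ (∀ s ∈ S, s * s = 1) ∧
      ¬ S ≤ centralizer (W : Set Γ) ∧ (∀ w ∈ W, ∀ s ∈ S, ∀ s' ∈ S, s' * ⁅w, s⁆ * s'⁻¹ = ⁅w, s⁆) ∧
      fx W S ≤ cx W S ^ 2 := by
  classical
  haveI : Fact (Nat.Prime 2) := ⟨Nat.prime_two⟩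
  refine or_iff_not_imp_left.mpr fun hmove => ?_
  have hVsq : ∀ v ∈ V, v * v = 1 := fun v hv => by rw [← pow_two]; exact C.vh.vexp v hv
  obtain ⟨n, hn, ⟨K, iK, fK, ρ, lam, hK, h⟩ | ⟨-, ρ, lam, h⟩⟩ := models C.vh C.blk i
  · obtain ⟨k, f, hfadd, hf0, -, hdata⟩ := sl_data C hn hK h
    obtain ⟨hcard, -, ⟨X, hX, hSX⟩, -⟩ := C.sl_shape hn hK h
    refine ⟨T ⊓ F i, le_rfl, fun s hs s' hs' => (C.off X hX).comm s (hSX hs) s' (hSX hs'),
      fun s hs => hXsq X hX s (hSX hs), hmove, fun w hw s hs s' hs' => ?_, ?_⟩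
    · obtain ⟨_, -, hd⟩ := hdata ⟨s, hs.2⟩ hs.1
      have hwV := hWV hw
      have hsV : s * w⁻¹ * s⁻¹ ∈ V := C.vh.norm s (C.syl.1 hs.1) _ (inv_mem hwV)
      have h1 : ⁅w, s⁆ = w * (s * w⁻¹ * s⁻¹) := by rw [commutatorElement_def]; group
      have h2 : f ⁅w, s⁆ = 0 := by
        have h0 : f 1 = 0 := by
          have := hfadd 1 (one_mem _) 1 (one_mem _)
          rwa [one_mul, eq_comm, add_eq_left] at this
        rw [h1, hfadd w hwV _ hsV, (hd _ (inv_mem hwV)).1, ← hfadd w hwV _ (inv_mem hwV), mul_inv_cancel, h0]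
      have h3 := hf0 _ (h1 ▸ mul_mem hwV hsV) h2
      exact mul_inv_eq_iff_eq_mul.mpr (mem_centralizer_iff.mp h3 s' hs')
    · have hfx : fx W (T ⊓ F i) ≤ Fintype.card K := by
        rw [← Nat.card_eq_fintype_card]
        exact index_le f (fun v hv w hw => hfadd v (hWV hv) w (hWV hw)) fun v hv h0 =>
          mem_inf.mpr ⟨hv, hf0 v (hWV hv) h0⟩
      obtain ⟨w, hw, hfw⟩ : ∃ w ∈ W, f w ≠ 0 := by
        by_contra hall
        push Not at hall
        exact hmove fun s hs => mem_centralizer_iff.mpr fun w hw =>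
          (mem_centralizer_iff.mp (hf0 w (hWV hw) (hall w hw)) s hs).symm
      have htriv : centralizer (W : Set Γ) ⊓ (T ⊓ F i) = ⊥ := eq_bot_iff.mpr fun s hs => mem_bot.mpr (by
        obtain ⟨c, hc, hd⟩ := hdata ⟨s, hs.2.2⟩ hs.2.1
        have h1 := (hd w (hWV hw)).2 (mul_inv_eq_iff_eq_mul.mpr (mem_centralizer_iff.mp hs.1 w hw).symm)
        rw [(mul_eq_zero.mp h1).resolve_right hfw, Grp.SL2.up_zero, mul_one, mul_inv_cancel,
          ← map_one ρ] at hc
        exact congrArg Subtype.val (h.bij.1 hc))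
      have hcx : cx W (T ⊓ F i) = Fintype.card K := by
        rw [cx, ← inf_relIndex_right, htriv, relIndex_bot_left, hcard]
      rw [hcx]
      exact hfx.trans (Nat.le_self_pow two_ne_zero _)
  · obtain ⟨o, Sh⟩ := C.perm_shape hn rfl h
    obtain ⟨Rel, hRel⟩ : ∃ Rel : Fin (2 ^ n + 1) → Fin (2 ^ n + 1) → Prop,
        ∀ x y, Rel x y ↔ ((x = o ↔ y = o) ∧ ∀ w ∈ W, lam w x = lam w y) := ⟨_, fun _ _ => Iff.rfl⟩
    have hRs : ∀ x y, Rel x y → Rel y x := fun x y hxy =>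
      (hRel y x).mpr ⟨((hRel x y).mp hxy).1.symm, fun w hw => (((hRel x y).mp hxy).2 w hw).symm⟩
    have hRt : ∀ x y z, Rel x y → Rel y z → Rel x z := fun x y z hxy hyz => (hRel x z).mpr
      ⟨((hRel x y).mp hxy).1.trans ((hRel y z).mp hyz).1,
        fun w hw => (((hRel x y).mp hxy).2 w hw).trans (((hRel y z).mp hyz).2 w hw)⟩
    have hpres : ∀ t : ↥(F i), (t : Γ) ∈ T → ∀ x y, Rel x y → Rel (ρ t x) (ρ t y) := by
      intro t ht x y hxy
      obtain ⟨h1, h2⟩ := (hRel x y).mp hxy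
      refine (hRel _ _).mpr ⟨?_, fun w hw => ?_⟩
      · conv_lhs => rw [← Sh.fix t ht]
        conv_rhs => rw [← Sh.fix t ht]
        simpa only [(ρ t).injective.eq_iff] using h1
      · have hw' := hWT _ (inv_mem ht) w hw
        have e : ∀ z, lam ((t : Γ)⁻¹ * w * (t : Γ)⁻¹⁻¹) z = lam w (ρ t z) := fun z => by
          rw [← coe_inv, h.act t⁻¹ w (hWV hw) z, map_inv, inv_inv]
        rw [← e, ← e]
        exact h2 _ hw'
    have hfix := fun γ {v} hv => shape_fix_iff Sh h hn γ (v := v) hv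
    obtain ⟨a, b, hao, hbo, hab⟩ : ∃ a b, a ≠ o ∧ b ≠ o ∧ ¬ Rel a b := by
      by_contra hall
      push Not at hall
      refine hmove fun s hs => mem_centralizer_iff.mpr fun w hw => ?_
      refine (mul_inv_eq_iff_eq_mul.mp ((hfix ⟨s, hs.2⟩ (hWV hw)).mpr fun j => ?_)).symm
      rcases eq_or_ne j o with rfl | hj
      · rw [Sh.fix _ hs.1]
      · refine ((hRel _ _).mp (hall _ _ (fun e => hj ?_) hj)).2 w hw
        exact (ρ ⟨s, hs.2⟩).injective (e.trans (Sh.fix _ hs.1).symm)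
    obtain ⟨t, ht, htab⟩ := Sh.trans a b hao hbo
    have htinv : ∀ x y, Rel x y → Rel ((ρ t)⁻¹ x) ((ρ t)⁻¹ y) := fun x y hxy => by
      rw [← map_inv]; exact hpres t⁻¹ (inv_mem ht) x y hxy
    obtain ⟨fn, hfn⟩ : ∃ fn : Fin (2 ^ n + 1) → Fin (2 ^ n + 1),
        ∀ x, fn x = if Rel x a then ρ t x else if Rel x b then (ρ t)⁻¹ x else x := ⟨_, fun _ => rfl⟩
    have hC1 : ∀ x, Rel x a → Rel (fn x) b ∧ fn x = ρ t x := fun x hx => by
      rw [hfn, if_pos hx]; exact ⟨htab ▸ hpres t ht x a hx, rfl⟩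
    have hC2 : ∀ x, Rel x b → Rel (fn x) a ∧ fn x = (ρ t)⁻¹ x := fun x hx => by
      have hxa : ¬ Rel x a := fun hx' => hab (hRt _ _ _ (hRs _ _ hx') hx)
      rw [hfn, if_neg hxa, if_pos hx]
      refine ⟨?_, rfl⟩
      have := htinv x b hx
      rwa [← htab, Equiv.Perm.coe_inv, Equiv.symm_apply_apply, ← Equiv.Perm.coe_inv] at this
    have hinv : Function.Involutive fn := fun x => by
      by_cases h1 : Rel x a
      · obtain ⟨h2, e⟩ := hC1 x h1
        rw [(hC2 _ h2).2, e, Equiv.Perm.coe_inv, Equiv.symm_apply_apply]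
      by_cases h2 : Rel x b
      · obtain ⟨h3, e⟩ := hC2 x h2
        rw [(hC1 _ h3).2, e, Equiv.Perm.coe_inv, Equiv.apply_symm_apply]
      · have e : fn x = x := by rw [hfn, if_neg h1, if_neg h2]
        rw [e, e]
    obtain ⟨τ, hτ⟩ : ∃ τ : Equiv.Perm (Fin (2 ^ n + 1)), ∀ x, τ x = fn x := ⟨hinv.toPerm fn, fun _ => rfl⟩
    have hτ2 : τ * τ = 1 := Equiv.ext fun x => by rw [Equiv.Perm.mul_apply, hτ, hτ, hinv x]; rfl
    obtain ⟨PiS, hPi⟩ : ∃ PiS : Subgroup (Equiv.Perm (Fin (2 ^ n + 1))),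
        ∀ σ, σ ∈ PiS ↔ σ o = o ∧ ∀ x y, Rel (σ x) (σ y) ↔ Rel x y :=
      ⟨{ carrier := {σ | σ o = o ∧ ∀ x y, Rel (σ x) (σ y) ↔ Rel x y}
         one_mem' := ⟨rfl, fun _ _ => Iff.rfl⟩
         mul_mem' := fun {σ σ'} h1 h2 => ⟨by rw [Equiv.Perm.mul_apply, h2.1, h1.1], fun x y => by
           rw [Equiv.Perm.mul_apply, Equiv.Perm.mul_apply, h1.2, h2.2]⟩
         inv_mem' := fun {σ} h1 => ⟨by rw [Equiv.Perm.inv_eq_iff_eq, h1.1], fun x y => by
           rw [← h1.2, Equiv.Perm.coe_inv, Equiv.apply_symm_apply, Equiv.apply_symm_apply]⟩ }, fun _ => Iff.rfl⟩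
    have hτPi : τ ∈ PiS := by
      have hfwd : ∀ x y, Rel x y → Rel (τ x) (τ y) := fun x y hxy => by
        rw [hτ, hτ]
        by_cases h1 : Rel x a
        · exact hRt _ _ _ (hC1 x h1).1 (hRs _ _ (hC1 y (hRt _ _ _ (hRs _ _ hxy) h1)).1)
        by_cases h2 : Rel x b
        · exact hRt _ _ _ (hC2 x h2).1 (hRs _ _ (hC2 y (hRt _ _ _ (hRs _ _ hxy) h2)).1)
        rw [hfn, if_neg h1, if_neg h2, hfn, if_neg fun h' => h1 (hRt _ _ _ hxy h'),
          if_neg fun h' => h2 (hRt _ _ _ hxy h')]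
        exact hxy
      refine (hPi τ).mpr ⟨?_, fun x y => ⟨fun hxy => ?_, hfwd x y⟩⟩
      · rw [hτ, hfn, if_neg fun h' => hao (((hRel _ _).mp h').1.mp rfl),
          if_neg fun h' => hbo (((hRel _ _).mp h').1.mp rfl)]
      · have := hfwd _ _ hxy
        rwa [← Equiv.Perm.mul_apply, ← Equiv.Perm.mul_apply, hτ2] at this
    obtain ⟨R, hR⟩ : ∃ R, R = ((T ⊓ F i).subgroupOf (F i)).map ρ := ⟨_, rfl⟩
    have hRPi : R ≤ PiS := by
      rw [hR]
      rintro _ ⟨s, hs, rfl⟩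
      have hsT := (mem_subgroupOf.mp hs).1
      refine (hPi _).mpr ⟨Sh.fix s hsT, fun x y => ⟨fun hxy => ?_, hpres s hsT x y⟩⟩
      have := hpres s⁻¹ (inv_mem hsT) _ _ hxy
      simpa [map_inv] using this
    have hsylR : Grp.IsSylowIn 2 R PiS := by
      refine ⟨hRPi, hR ▸ ((C.sylF i).2.1.of_equiv (subgroupOfEquivOfLe inf_le_right).symm).map ρ, fun hd => ?_⟩
      have hd2 := hd.trans (relIndex_dvd_index_of_le hRPi)
      rw [hR, index_map_of_bijective h.bij] at hd2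
      exact (C.sylF i).2.2 hd2
    obtain ⟨m, hm, hmle⟩ := Fail.conj_into hsylR (zpowers_le.mpr hτPi) (fun z => ⟨1, Subtype.ext (by
      rw [coe_pow, coe_one, pow_one, pow_two]
      rcases zp_cases hτ2 z.2 with e | e <;> rw [e] <;> simp [hτ2])⟩)
    obtain ⟨s, hsR, hs0⟩ := hR.le (hmle (mem_map_of_mem _ (mem_zpowers τ)))
    obtain ⟨hsT, -⟩ := mem_subgroupOf.mp hsR
    have hs : ρ s = m * τ * m⁻¹ := hs0.trans (by simp [MulAut.conj_apply])
    have hs2 : (s : Γ) * s = 1 := congrArg Subtype.val (show s * s = 1 from h.bij.1 (by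
      rw [map_mul, hs, map_one, show m * τ * m⁻¹ * (m * τ * m⁻¹) = m * (τ * τ) * m⁻¹ by group, hτ2]; group))
    obtain ⟨hmo, hmRel⟩ := (hPi m).mp hm
    have hiff : ∀ w ∈ W, (s : Γ) * w * (s : Γ)⁻¹ = w ↔ lam w (m a) = lam w (m b) := fun w hw => by
      rw [hfix s (hWV hw), hs]
      have hval : ∀ x, (m * τ * m⁻¹) (m x) = m (fn x) := fun x => by simp [hτ]
      refine ⟨fun hall => ?_, fun e j => ?_⟩
      · have e := hall (m a)
        rw [hval, (hC1 a ((hRel a a).mpr ⟨Iff.rfl, fun _ _ => rfl⟩)).2, htab] at e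
        exact e.symm
      · obtain ⟨x, rfl⟩ := m.surjective j
        rw [hval]
        by_cases h1 : Rel x a
        · rw [((hRel _ _).mp ((hmRel _ _).mpr h1)).2 w hw, ((hRel _ _).mp ((hmRel _ _).mpr (hC1 x h1).1)).2 w hw, e]
        by_cases h2 : Rel x b
        · rw [((hRel _ _).mp ((hmRel _ _).mpr h2)).2 w hw, ((hRel _ _).mp ((hmRel _ _).mpr (hC2 x h2).1)).2 w hw, e]
        · rw [hfn, if_neg h1, if_neg h2]
    obtain ⟨w0, hw0, hne⟩ : ∃ w ∈ W, lam w (m a) ≠ lam w (m b) := by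
      by_contra hall
      push Not at hall
      refine hab ((hmRel a b).mp ((hRel _ _).mpr ⟨iff_of_false (fun e => hao (m.injective (e.trans hmo.symm)))
        (fun e => hbo (m.injective (e.trans hmo.symm))), hall⟩))
    have hne' : ¬ zpowers (s : Γ) ≤ centralizer (W : Set Γ) := fun hle => hne ((hiff w0 hw0).mp
      (mul_inv_eq_iff_eq_mul.mpr (mem_centralizer_iff.mp (hle (mem_zpowers _)) w0 hw0).symm))
    refine ⟨zpowers (s : Γ), zpowers_le.mpr ⟨hsT, s.2⟩, fun x hx y hy => ?_, fun x hx => ?_, hne',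
      fun w hw x hx y hy => ?_, ?_⟩
    · rcases zp_cases hs2 hx with rfl | rfl <;> rcases zp_cases hs2 hy with rfl | rfl <;> simp
    · rcases zp_cases hs2 hx with rfl | rfl
      · rw [one_mul]
      · exact hs2
    · rcases zp_cases hs2 hy with rfl | rfl
      · group
      rcases zp_cases hs2 hx with rfl | rfl
      · rw [commutatorElement_one_right, mul_one, mul_inv_cancel]
      have hwV := hWV hw
      obtain ⟨u, hu⟩ : ∃ u, u = (s : Γ) * w * (s : Γ)⁻¹ := ⟨_, rfl⟩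
      have huV : u ∈ V := hu ▸ C.vh.norm _ (C.syl.1 hsT) w hwV
      have hsi : (s : Γ)⁻¹ = s := inv_eq_of_mul_eq_one_right hs2
      have hsu : (s : Γ) * u * (s : Γ)⁻¹ = w := by
        rw [hu]
        calc (s : Γ) * ((s : Γ) * w * (s : Γ)⁻¹) * (s : Γ)⁻¹ = ((s : Γ) * s) * w * ((s : Γ) * s)⁻¹ := by group
          _ = w := by rw [hs2]; group
      have h1 : ⁅w, (s : Γ)⁆ = w * u := by
        rw [commutatorElement_def, inv_eq_of_mul_eq_one_right (hVsq w hwV), hu, mul_assoc, mul_assoc, mul_assoc]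
      rw [h1]
      calc (s : Γ) * (w * u) * (s : Γ)⁻¹ = ((s : Γ) * w * (s : Γ)⁻¹) * ((s : Γ) * u * (s : Γ)⁻¹) := by group
        _ = u * w := by rw [hsu, ← hu]
        _ = w * u := C.vh.vcomm u huV w hwV
    · have h1 : fx W (zpowers (s : Γ)) ≤ 2 := by
        refine (index_le (fun w => lam w (m a) + lam w (m b)) (fun v hv w hw => ?_) fun v hv h0 => ?_).trans
          (Nat.card_zmod 2).le
        · rw [h.add v (hWV hv) w (hWV hw), Pi.add_apply, Pi.add_apply]; ring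
        · refine mem_inf.mpr ⟨hv, ?_⟩
          have h2 := (hiff v hv).mpr (CharTwo.add_eq_zero.mp h0)
          have h3 : zpowers (s : Γ) ≤ centralizer ({v} : Set Γ) :=
            zpowers_le.mpr (mem_centralizer_singleton_iff.mpr (mul_inv_eq_iff_eq_mul.mp h2))
          exact mem_centralizer_iff.mpr fun x hx => mem_centralizer_singleton_iff.mp (h3 hx)
      have h2 : 2 ≤ cx W (zpowers (s : Γ)) :=
        (Nat.two_le_iff _).mpr ⟨rel_ne _ _, fun e => hne' (relIndex_eq_one.mp e)⟩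
      calc fx W (zpowers (s : Γ)) ≤ 2 := h1
        _ ≤ cx W (zpowers (s : Γ)) := h2
        _ ≤ _ := Nat.le_self_pow two_ne_zero _

end Cfsg.Agent.Transfer.QRC
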