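import Cfsg.Agent.Lib.Transfer.QRC.NodeBasic
import Cfsg.Agent.Lib.Grp.Basic

/-!
# Subgroups acting quadratically or cubically with a small centraliser index

A target for `A` is a 2-subgroup normalising `A` that witnesses `q ≤ 2` (or `q̂ ≤ 2`) on `A`; targets move with
conjugation and end in the subgroup `M₀` over a Sylow 2-subgroup normalising `V`.
-/

set_option autoImplicit false
set_option linter.unusedSectionVars false
set_option linter.style.haveILetI false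

open scoped commutatorElement

namespace Cfsg.Agent.Transfer.QRC

open Subgroup

variable {G : Type*} [Group G]

/-- The index in `X` of the points fixed by `B`. -/
noncomputable abbrev fx (X B : Subgroup G) : ℕ := (X ⊓ centralizer (B : Set G)).relIndex X

/-- The order of the group induced by `B` on `X`. -/
noncomputable abbrev cx (X B : Subgroup G) : ℕ := (centralizer (X : Set G)).relIndex B

/-- `B` induces an elementary abelian 2-group on `X`. -/
structure ElImg (B X : Subgroup G) : Prop where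
  sq : ∀ b ∈ B, b ^ 2 ∈ centralizer (X : Set G)
  comm : ∀ b ∈ B, ∀ b' ∈ B, b * b' * b⁻¹ * b'⁻¹ ∈ centralizer (X : Set G)

theorem ElImg.mono {B B' X X' : Subgroup G} (h : ElImg B X) (hB : B' ≤ B) (hX : X' ≤ X) : ElImg B' X' :=
  ⟨fun b hb => centralizer_le hX (h.sq b (hB hb)),
    fun b hb b' hb' => centralizer_le hX (h.comm b (hB hb) b' (hB hb'))⟩

theorem ElImg.of_comm {B X : Subgroup G} (hc : ∀ b ∈ B, ∀ b' ∈ B, b * b' = b' * b) (hs : ∀ b ∈ B, b * b = 1) :
    ElImg B X :=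
  ⟨fun b hb => by rw [pow_two, hs b hb]; exact one_mem _,
    fun b hb b' hb' => by rw [hc b hb b' hb', mul_assoc b' b, mul_inv_cancel, mul_one, mul_inv_cancel]; exact one_mem _⟩

/-- A witness for `q ≤ 2` on `A`. -/
def QTarget (A : Subgroup G) : Prop :=
  ∃ B : Subgroup G, IsPGroup 2 B ∧ B ≤ normalizer (A : Set G) ∧ ¬ B ≤ centralizer (A : Set G) ∧ ElImg B A ∧
    ⁅⁅A, B⁆, B⁆ = ⊥ ∧ fx A B ≤ cx A B ^ 2

/-- A witness for `q̂ ≤ 2` on `A`. -/
def CTarget (A : Subgroup G) : Prop :=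
  ∃ B : Subgroup G, IsPGroup 2 B ∧ B ≤ normalizer (A : Set G) ∧ ¬ B ≤ centralizer (A : Set G) ∧ ElImg B A ∧
    ⁅⁅⁅A, B⁆, B⁆, B⁆ = ⊥ ∧ fx A B ≤ cx A B ^ 2

theorem cjg_le {m : G} {X Y : Subgroup G} : cjg m X ≤ Y ↔ ∀ x ∈ X, m * x * m⁻¹ ∈ Y :=
  ⟨fun h x hx => h (conj_mem_cjg hx), fun h y ⟨x, hx, e⟩ => e ▸ h x hx⟩

theorem cjg_inv_cjg (m : G) (X : Subgroup G) : cjg m⁻¹ (cjg m X) = X := by
  rw [← cjg_mul, inv_mul_cancel, cjg_one]

theorem cjg_cjg_inv (m : G) (X : Subgroup G) : cjg m (cjg m⁻¹ X) = X := by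
  rw [← cjg_mul, mul_inv_cancel, cjg_one]

theorem cjg_mono (m : G) {X Y : Subgroup G} (h : X ≤ Y) : cjg m X ≤ cjg m Y := map_mono h

theorem cjg_le_cjg {m : G} {X Y : Subgroup G} : cjg m X ≤ cjg m Y ↔ X ≤ Y :=
  map_le_map_iff_of_injective (MulAut.conj m).injective

theorem cjg_centralizer (m : G) (A X : Subgroup G) :
    cjg m (A ⊓ centralizer (X : Set G)) = cjg m A ⊓ centralizer ((cjg m X : Subgroup G) : Set G) :=
  map_inf_centralizer (MulAut.conj m).toMonoidHom (MulAut.conj m).injective A X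

theorem fx_cjg (m : G) (X B : Subgroup G) : fx (cjg m X) (cjg m B) = fx X B := by
  rw [fx, ← cjg_centralizer]
  exact relIndex_map_map_of_injective _ _ (MulAut.conj m).injective

theorem cx_eq (X B : Subgroup G) : cx X B = (B ⊓ centralizer (X : Set G)).relIndex B := by
  rw [cx, inf_comm, inf_relIndex_right]

theorem cx_cjg (m : G) (X B : Subgroup G) : cx (cjg m X) (cjg m B) = cx X B := by
  rw [cx_eq, cx_eq, ← cjg_centralizer]
  exact relIndex_map_map_of_injective _ _ (MulAut.conj m).injective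

theorem le_centralizer_cjg {m : G} {B X : Subgroup G} :
    cjg m B ≤ centralizer ((cjg m X : Subgroup G) : Set G) ↔ B ≤ centralizer (X : Set G) :=
  ⟨fun h b hb => (map_mem_centralizer _ (MulAut.conj m).injective X).mp (h (mem_map_of_mem _ hb)),
    fun h y ⟨b, hb, e⟩ => e ▸ (map_mem_centralizer _ (MulAut.conj m).injective X).mpr (h hb)⟩

theorem ElImg.cjg' {B X : Subgroup G} (h : ElImg B X) (m : G) : ElImg (cjg m B) (cjg m X) := by
  refine ⟨?_, ?_⟩
  · rintro _ ⟨b, hb, rfl⟩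
    rw [← map_pow]
    exact (map_mem_centralizer _ (MulAut.conj m).injective X).mpr (h.sq b hb)
  · rintro _ ⟨b, hb, rfl⟩ _ ⟨b', hb', rfl⟩
    rw [← map_inv, ← map_inv, ← map_mul, ← map_mul, ← map_mul]
    exact (map_mem_centralizer _ (MulAut.conj m).injective X).mpr (h.comm b hb b' hb')

theorem le_normalizer_cjg {m : G} {B X : Subgroup G} (h : B ≤ normalizer (X : Set G)) :
    cjg m B ≤ normalizer ((cjg m X : Subgroup G) : Set G) :=
  (map_mono h).trans (le_normalizer_map _)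

theorem QTarget.cjg' {A : Subgroup G} (h : QTarget A) (m : G) : QTarget (cjg m A) := by
  obtain ⟨B, hp, hn, hne, hel, hq, hb⟩ := h
  refine ⟨cjg m B, hp.map _, le_normalizer_cjg hn, fun h => hne (le_centralizer_cjg.mp h), hel.cjg' m, ?_, ?_⟩
  · rw [cjg, cjg, ← map_commutator, ← map_commutator, hq, Subgroup.map_bot]
  · rw [fx_cjg, cx_cjg]; exact hb

theorem CTarget.cjg' {A : Subgroup G} (h : CTarget A) (m : G) : CTarget (cjg m A) := by
  obtain ⟨B, hp, hn, hne, hel, hq, hb⟩ := h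
  refine ⟨cjg m B, hp.map _, le_normalizer_cjg hn, fun h => hne (le_centralizer_cjg.mp h), hel.cjg' m, ?_, ?_⟩
  · rw [cjg, cjg, ← map_commutator, ← map_commutator, ← map_commutator, hq, Subgroup.map_bot]
  · rw [fx_cjg, cx_cjg]; exact hb

variable [Finite G]

/-- A 2-subgroup normalising `V` moves into a Sylow 2-subgroup normalising `V` by an element normalising `V`. -/
theorem exists_into (T : Sylow 2 G) {V B : Subgroup G} (hTV : (T : Subgroup G) ≤ normalizer (V : Set G))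
    (hp : IsPGroup 2 B) (hB : B ≤ normalizer (V : Set G)) :
    ∃ n : G, cjg n B ≤ (T : Subgroup G) ∧ cjg n V = V := by
  haveI : Fact (Nat.Prime 2) := ⟨Nat.prime_two⟩
  obtain ⟨P, hP⟩ := (hp.comap_subtype (K := normalizer (V : Set G))).exists_le_sylow
  obtain ⟨x, hx⟩ := MulAction.exists_smul_eq ↥(normalizer (V : Set G)) (T.subtype hTV) P
  refine ⟨(x : G)⁻¹, cjg_le.mpr fun b hb => ?_, cjg_of_norm (inv_mem x.2)⟩
  have h1 : (⟨b, hB hb⟩ : ↥(normalizer (V : Set G))) ∈ (P : Subgroup _) := hP (show _ ∈ B from hb)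
  rw [← hx] at h1
  obtain ⟨t, ht, hte⟩ := h1
  have h2 : (x : G) * (t : G) * (x : G)⁻¹ = b := congrArg Subtype.val hte
  have h3 : (x : G)⁻¹ * b * (x : G)⁻¹⁻¹ = (t : G) := by rw [← h2]; group
  rw [h3]
  exact ht

theorem QTarget.quad {A : Subgroup G} (h : QTarget A) (T : Sylow 2 G) {M₀ V : Subgroup G}
    (hTV : (T : Subgroup G) ≤ normalizer (V : Set G)) (hTM₀ : (T : Subgroup G) ≤ M₀) {g : G}
    (hA : A = cjg g V) : Cfsg.QuadParamLE M₀ V 2 := by
  have h1 := h.cjg' g⁻¹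
  rw [hA, cjg_inv_cjg] at h1
  obtain ⟨B, hp, hn, hne, hel, hq, hb⟩ := h1
  obtain ⟨n, hnT, hnV⟩ := exists_into T hTV hp hn
  have e1 := fx_cjg n V B
  have e2 := cx_cjg n V B
  rw [hnV] at e1 e2
  refine ⟨cjg n B, hnT.trans hTM₀, ⟨?_, ?_, ?_⟩, ?_, ?_⟩
  · rw [← hnV]; exact fun h => hne (le_centralizer_cjg.mp h)
  · rw [← hnV]; exact (hel.cjg' n).sq
  · rw [← hnV]; exact (hel.cjg' n).comm
  · rw [← hnV, cjg, cjg, ← map_commutator, ← map_commutator, hq, Subgroup.map_bot]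
  · show fx V (cjg n B) ≤ cx V (cjg n B) ^ 2
    rw [e1, e2]
    exact hb

theorem CTarget.cubic {A : Subgroup G} (h : CTarget A) (T : Sylow 2 G) {M₀ V : Subgroup G}
    (hTV : (T : Subgroup G) ≤ normalizer (V : Set G)) (hTM₀ : (T : Subgroup G) ≤ M₀) {g : G}
    (hA : A = cjg g V) : Cfsg.CubicParamLE M₀ V 2 := by
  have h1 := h.cjg' g⁻¹
  rw [hA, cjg_inv_cjg] at h1
  obtain ⟨B, hp, hn, hne, hel, hq, hb⟩ := h1
  obtain ⟨n, hnT, hnV⟩ := exists_into T hTV hp hn
  have e1 := fx_cjg n V B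
  have e2 := cx_cjg n V B
  rw [hnV] at e1 e2
  refine ⟨cjg n B, hnT.trans hTM₀, ⟨?_, ?_, ?_⟩, ?_, ?_⟩
  · rw [← hnV]; exact fun h => hne (le_centralizer_cjg.mp h)
  · rw [← hnV]; exact (hel.cjg' n).sq
  · rw [← hnV]; exact (hel.cjg' n).comm
  · rw [← hnV, cjg, cjg, ← map_commutator, ← map_commutator, ← map_commutator, hq, Subgroup.map_bot]
  · show fx V (cjg n B) ≤ cx V (cjg n B) ^ 2
    rw [e1, e2]
    exact hb

theorem rel_ne (X Y : Subgroup G) : X.relIndex Y ≠ 0 := index_ne_zero_of_finite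

theorem fx_pos (X B : Subgroup G) : 0 < fx X B := Nat.pos_of_ne_zero (rel_ne _ _)

theorem cx_pos (X B : Subgroup G) : 0 < cx X B := Nat.pos_of_ne_zero (rel_ne _ _)

/-- Two conjugates normalising each other without commuting give a quadratic witness. -/
theorem mutual_target {A : Subgroup G} (hp : IsPGroup 2 A) (hc : ∀ a ∈ A, ∀ a' ∈ A, a * a' = a' * a)
    (hs : ∀ a ∈ A, a * a = 1) (g : G) (h1 : A ≤ normalizer ((cjg g A : Subgroup G) : Set G))
    (h2 : cjg g A ≤ normalizer (A : Set G)) (hne : ¬ cjg g A ≤ centralizer (A : Set G)) : QTarget A := by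
  obtain ⟨A', hA'⟩ : ∃ A', A' = cjg g A := ⟨_, rfl⟩
  rw [← hA'] at h1 h2 hne
  have hc' : ∀ a ∈ A', ∀ a' ∈ A', a * a' = a' * a := by
    rw [hA']
    rintro _ ⟨a, ha, rfl⟩ _ ⟨b, hb, rfl⟩
    rw [← map_mul, ← map_mul, hc a ha b hb]
  have hs' : ∀ a ∈ A', a * a = 1 := by
    rw [hA']
    rintro _ ⟨a, ha, rfl⟩
    rw [← map_mul, hs a ha, map_one]
  have hbot : ∀ X Y : Subgroup G, X ≤ normalizer (Y : Set G) → (∀ a ∈ Y, ∀ a' ∈ Y, a * a' = a' * a) →
      ⁅⁅X, Y⁆, Y⁆ = ⊥ := by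
    intro X Y hX hY
    have hle : ⁅X, Y⁆ ≤ Y := commutator_le.mpr fun x hx y hy => by
      rw [commutatorElement_def]
      exact Y.mul_mem ((mem_normalizer_iff.mp (hX hx) y).mp hy) (Y.inv_mem hy)
    refine le_bot_iff.mp ((commutator_mono hle le_rfl).trans (commutator_le.mpr fun a ha b hb => ?_))
    exact mem_bot.mpr (commutatorElement_eq_one_iff_mul_comm.mpr (hY a ha b hb))
  have hne' : ¬ A ≤ centralizer (A' : Set G) := fun h => hne (le_centralizer_iff.mp h)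
  have e : cx A' A = fx A A' := by rw [cx_eq]
  have e' : cx A A' = fx A' A := by rw [cx_eq]
  by_cases h : fx A A' ≤ cx A A' ^ 2
  · exact ⟨A', hA' ▸ hp.map _, h2, hne, .of_comm hc' hs', hbot A A' h1 hc', h⟩
  · have h3 : QTarget A' := ⟨A, hp, h1, hne', .of_comm hc hs, hbot A' A h2 hc, by
      rw [e, ← e']
      calc cx A A' ≤ cx A A' ^ 2 := Nat.le_self_pow two_ne_zero _
        _ ≤ fx A A' := (Nat.lt_of_not_le h).le
        _ ≤ _ := Nat.le_self_pow two_ne_zero _⟩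
    have h4 := h3.cjg' g⁻¹
    rwa [hA', cjg_inv_cjg] at h4

/-- A smallest quadratic 2-offender on `U` that is nontrivial on `A ≤ U` is a witness on `A`. -/
theorem target_of_minimal {U A B : Subgroup G} (hA : A ≤ U) (hp : IsPGroup 2 B)
    (hBA : B ≤ normalizer (A : Set G)) (hne : ¬ B ≤ centralizer (A : Set G)) (hel : ElImg B U)
    (hq : ⁅⁅U, B⁆, B⁆ = ⊥) (hb : fx U B ≤ cx U B ^ 2)
    (hmin : ∀ B' : Subgroup G, B' < B → fx U B' ≤ cx U B' ^ 2 → B' ≤ centralizer (U : Set G)) : QTarget A := by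
  refine ⟨B, hp, hBA, hne, hel.mono le_rfl hA, le_bot_iff.mp
    ((commutator_mono (commutator_mono hA le_rfl) le_rfl).trans hq.le), ?_⟩
  obtain ⟨B1, hB1⟩ : ∃ B1, B1 = B ⊓ centralizer (A : Set G) := ⟨_, rfl⟩
  have hB1B : B1 ≤ B := hB1 ▸ inf_le_left
  have hfA : ∀ K : Subgroup G, A ≤ K → fx A B ≤ (U ⊓ centralizer (B : Set G)).relIndex K := fun K hK => by
    refine le_of_eq_of_le ?_ (relIndex_le_of_le_right hK (rel_ne _ _))
    show (A ⊓ centralizer (B : Set G)).relIndex A = _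
    rw [← inf_relIndex_right (U ⊓ centralizer (B : Set G)) A]
    congr 1
    rw [inf_comm U, inf_assoc, inf_eq_right.mpr hA, inf_comm]
  have hcB : B ⊓ centralizer (U : Set G) ≤ B1 := hB1 ▸ inf_le_inf_left _ (centralizer_le hA)
  have hcx : cx U B = cx U B1 * cx A B := by
    rw [cx_eq, cx_eq A, ← hB1, ← relIndex_mul_relIndex _ B1 B hcB hB1B, cx,
      ← inf_relIndex_right (centralizer (U : Set G)) B1]
    congr 1
    rw [show centralizer (U : Set G) ⊓ B1 = B ⊓ centralizer (U : Set G) from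
      le_antisymm (le_inf (inf_le_right.trans hB1B) inf_le_left) (le_inf inf_le_right hcB)]
  by_cases h1 : B1 ≤ centralizer (U : Set G)
  · have : cx U B1 = 1 := relIndex_eq_one.mpr h1
    rw [this, one_mul] at hcx
    exact hcx ▸ (hfA U hA).trans hb
  · have hlt : B1 < B := lt_of_le_of_ne hB1B fun e => hne ((hB1 ▸ e.ge).trans inf_le_right)
    have h2 : cx U B1 ^ 2 < fx U B1 := Nat.lt_of_not_le fun h => h1 (hmin B1 hlt h)
    have hmul : fx U B = (U ⊓ centralizer (B : Set G)).relIndex (U ⊓ centralizer (B1 : Set G)) * fx U B1 :=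
      (relIndex_mul_relIndex _ _ _ (inf_le_inf_left _ (centralizer_le hB1B)) inf_le_left).symm
    have h3 := hfA (U ⊓ centralizer (B1 : Set G))
      (le_inf hA fun a ha => le_centralizer_iff.mp (hB1 ▸ inf_le_right) ha)
    rw [hmul, hcx, mul_pow] at hb
    by_contra h4
    have h5 : cx A B ^ 2 < (U ⊓ centralizer (B : Set G)).relIndex (U ⊓ centralizer (B1 : Set G)) :=
      lt_of_lt_of_le (Nat.lt_of_not_le h4) h3
    exact absurd hb (Nat.not_le.mpr (by rw [mul_comm (cx U B1 ^ 2)]; exact Nat.mul_lt_mul'' h5 h2))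

end Cfsg.Agent.Transfer.QRC
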