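import Cfsg.Agent.Lib.Fus.PushBlocks.Shapes
import Cfsg.Agent.Lib.Fus.SLTwoAdjoinBasic
import Cfsg.Agent.Lib.Transfer.QRC.Sink

/-!
# Generators of a block with independent fixed spaces

Each block is generated by conjugates of parts of offenders whose fixed spaces have indices multiplying to the index
of the fixed space of the block.
-/

set_option autoImplicit false
set_option linter.unusedSectionVars false
set_option linter.style.haveILetI false

open scoped commutatorElement Matrix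

namespace Cfsg.Agent.Transfer.QRC

open Subgroup Cfsg.Agent.Fus Cfsg.Agent.Fus.PushBlocks
open Cfsg.Agent.Fus.MinModule (VHyp)

universe u

variable {Γ : Type u} [Group Γ] [Finite Γ] {V P : Subgroup Γ}

theorem zp_cases {s : Γ} (hs : s * s = 1) {x : Γ} (hx : x ∈ zpowers s) : x = 1 ∨ x = s := by
  obtain ⟨k, rfl⟩ := mem_zpowers_iff.mp hx
  rcases Int.even_or_odd' k with ⟨j, rfl | rfl⟩
  · exact Or.inl (by rw [zpow_mul, zpow_two, hs, one_zpow])
  · exact Or.inr (by rw [zpow_add, zpow_mul, zpow_two, hs, one_zpow, one_mul, zpow_one])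

/-- The index of what contains the kernel of an additive function. -/
theorem index_le {K : Subgroup Γ} {M : Type} [AddCommGroup M] [Finite M] (f : Γ → M)
    (hf : ∀ v ∈ V, ∀ w ∈ V, f (v * w) = f v + f w) (hK : ∀ v ∈ V, f v = 0 → v ∈ K) :
    K.relIndex V ≤ Nat.card M := by
  obtain ⟨φ, hφ⟩ : ∃ φ : ↥V →* Multiplicative M, ∀ v, φ v = Multiplicative.ofAdd (f v) :=
    ⟨MonoidHom.mk' (fun v => Multiplicative.ofAdd (f v)) fun a b => by simp [hf _ a.2 _ b.2], fun _ => rfl⟩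
  have hle : φ.ker ≤ K.subgroupOf V := fun v hv => mem_subgroupOf.mpr (hK v v.2 (by
    rw [MonoidHom.mem_ker, hφ] at hv
    simpa using hv))
  refine (Nat.le_of_dvd (Nat.pos_of_ne_zero index_ne_zero_of_finite) (index_dvd_of_le hle)).trans ?_
  rw [Subgroup.index_ker]
  exact (Subgroup.card_le_card_group _).trans (Nat.card_congr Multiplicative.toAdd).le

/-- Subgroups with independent fixed spaces reach every family of vectors. -/
theorem economy {ι : Type} [Fintype ι] (hV : ∀ v ∈ V, ∀ w ∈ V, v * w = w * v) (C : ι → Subgroup Γ)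
    (h : ∏ j, (C j).relIndex V ≤ (⨅ j, C j).relIndex V) (w : ι → Γ) (hw : ∀ j, w j ∈ V) :
    ∃ v ∈ V, ∀ j, (w j)⁻¹ * v ∈ C j := by
  haveI hn : ∀ j, ((C j).subgroupOf V).Normal := fun j => ⟨fun n hn g => by
    rwa [show g * n * g⁻¹ = n from Subtype.ext (by
      rw [coe_mul, coe_mul, coe_inv, hV _ g.2 _ n.2, mul_inv_cancel_right])]⟩
  obtain ⟨π, hπ⟩ : ∃ π : ↥V →* ((j : ι) → ↥V ⧸ (C j).subgroupOf V), ∀ v j, π v j = (v : ↥V ⧸ (C j).subgroupOf V) :=
    ⟨MonoidHom.mk' (fun v j => (v : ↥V ⧸ (C j).subgroupOf V)) fun a b => rfl, fun _ _ => rfl⟩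
  have hker : π.ker ≤ (⨅ j, C j).subgroupOf V := fun v hv => mem_subgroupOf.mpr (mem_iInf.mpr fun j => by
    have e := congrFun (MonoidHom.mem_ker.mp hv) j
    rw [hπ] at e
    exact mem_subgroupOf.mp ((QuotientGroup.eq_one_iff v).mp e))
  have htop : π.range = ⊤ := by
    refine eq_top_of_le_card _ ?_
    rw [← Subgroup.index_ker, Nat.card_pi]
    exact h.trans (Nat.le_of_dvd (Nat.pos_of_ne_zero index_ne_zero_of_finite) (index_dvd_of_le hker))
  obtain ⟨v, hv⟩ := htop.ge (mem_top (fun j => ((⟨w j, hw j⟩ : ↥V) : ↥V ⧸ (C j).subgroupOf V)))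
  refine ⟨v, v.2, fun j => ?_⟩
  have e := congrFun hv j
  rw [hπ, eq_comm, QuotientGroup.eq] at e
  exact mem_subgroupOf.mp e

/-- In a symmetric block an element fixes a vector exactly when it fixes its coordinates. -/
theorem perm_fix_iff (A : VHyp 2 V P) {E : Subgroup Γ} (hE : E ≤ P) {N : ℕ} {ρ : ↥E →* Equiv.Perm (Fin N)}
    {lam : Γ → (Fin N → ZMod 2)} (h : PermCo N V E ρ lam) {d : ↥E} {a0 b0 : Fin N} (hab : a0 ≠ b0)
    (hd : ρ d = Equiv.swap a0 b0) (hc : ∀ v ∈ fixK V E (zpowers (d : Γ)), (d : Γ) * v = v * d) (γ : ↥E) {v : Γ}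
    (hv : v ∈ V) : (γ : Γ) * v * (γ : Γ)⁻¹ = v ↔ ∀ j, lam v (ρ γ j) = lam v j := by
  classical
  refine ⟨fun e j => ?_, fun hj => ?_⟩
  · have e1 := h.act γ v hv (ρ γ j)
    rwa [e, Equiv.Perm.coe_inv, Equiv.symm_apply_apply] at e1
  have hd2 : (d : Γ) * d = 1 := congrArg Subtype.val
    (show d * d = 1 from h.bij.1 (by rw [map_mul, hd, Equiv.swap_mul_self, map_one]))
  have hswap : ∀ a b, a ≠ b → ∀ γ : ↥E, ρ γ = Equiv.swap a b → ∀ u ∈ V, lam u a = lam u b →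
      (γ : Γ) * u * (γ : Γ)⁻¹ = u := by
    intro a b hne γ hγ u hu hue
    obtain ⟨σ, hσ⟩ : ∃ σ, σ = Equiv.swap (Equiv.swap a0 a b0) b * Equiv.swap a0 a := ⟨_, rfl⟩
    have hσa : σ a0 = a := by
      rw [hσ, Equiv.Perm.mul_apply, Equiv.swap_apply_left]
      exact Equiv.swap_apply_of_ne_of_ne (fun e => hab ((Equiv.swap a0 a).injective
        ((Equiv.swap_apply_left a0 a).trans e))) hne
    have hσb : σ b0 = b := by rw [hσ, Equiv.Perm.mul_apply, Equiv.swap_apply_left]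
    obtain ⟨g, hg⟩ := h.bij.2 σ
    obtain rfl : γ = g * d * g⁻¹ := h.bij.1 (by
      rw [map_mul, map_mul, map_inv, hg, hd, ← Equiv.swap_apply_apply, hσa, hσb, hγ])
    obtain ⟨u', hu'⟩ : ∃ u', u' = (g : Γ)⁻¹ * u * g := ⟨_, rfl⟩
    have hgP : (g : Γ)⁻¹ ∈ P := inv_mem (hE g.2)
    have hu'V : u' ∈ V := by
      have := A.norm _ hgP u hu
      rw [inv_inv] at this
      rw [hu']; exact this
    have hlam : ∀ i, lam u' i = lam u (σ i) := fun i => by
      have e1 := h.act g⁻¹ u hu i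
      rw [coe_inv, inv_inv, map_inv, inv_inv, hg] at e1
      rw [hu']; exact e1
    have hfix : u' ∈ fixK V E (zpowers (d : Γ)) := by
      refine (h.toIsCoord.fix_iff A ((zpowers_le.mpr d.2).trans hE)).mpr ⟨hu'V, fun x hx => ?_⟩
      rcases zp_cases hd2 hx with rfl | rfl
      · rw [one_mul, inv_one, mul_one]
      · funext i
        rw [h.act d u' hu'V, hd, Equiv.swap_inv]
        rcases eq_or_ne i a0 with rfl | h1
        · rw [Equiv.swap_apply_left, hlam, hlam, hσa, hσb, hue]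
        rcases eq_or_ne i b0 with rfl | h2
        · rw [Equiv.swap_apply_right, hlam, hlam, hσa, hσb, hue]
        · rw [Equiv.swap_apply_of_ne_of_ne h1 h2]
    have e2 := hc u' hfix
    rw [coe_mul, coe_mul, coe_inv]
    calc (g : Γ) * d * (g : Γ)⁻¹ * u * ((g : Γ) * d * (g : Γ)⁻¹)⁻¹
        = (g : Γ) * (d * u') * (d : Γ)⁻¹ * (g : Γ)⁻¹ := by rw [hu']; group
      _ = (g : Γ) * (u' * d) * (d : Γ)⁻¹ * (g : Γ)⁻¹ := by rw [e2]
      _ = u := by rw [hu']; group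
  obtain ⟨σ, hσ⟩ : ∃ σ, σ = ρ γ := ⟨_, rfl⟩
  rw [← hσ] at hj
  induction hk : σ.support.card using Nat.strong_induction_on generalizing σ γ with
  | _ k ih =>
  by_cases hex : ∃ a, σ a ≠ a
  · obtain ⟨a, ha⟩ := hex
    obtain ⟨γ1, hγ1⟩ := h.bij.2 (Equiv.swap a (σ a))
    have hτ : Equiv.swap a (σ a) * σ = ρ (γ1 * γ) := by rw [map_mul, hγ1, hσ]
    have h1 := hswap a (σ a) (Ne.symm ha) γ1 hγ1 v hv (hj a).symm
    have h2 := ih _ (hk ▸ Equiv.Perm.card_support_swap_mul ha) (γ1 * γ) _ (fun j => by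
      rw [Equiv.Perm.mul_apply]
      rcases eq_or_ne (σ j) a with e | e1
      · rw [e, Equiv.swap_apply_left, hj a, ← e, hj j]
      rcases eq_or_ne (σ j) (σ a) with e | e2
      · rw [e, Equiv.swap_apply_right, ← hj a, ← e, hj j]
      · rw [Equiv.swap_apply_of_ne_of_ne e1 e2, hj j]) hτ rfl
    rw [coe_mul] at h2
    calc (γ : Γ) * v * (γ : Γ)⁻¹ = (γ1 : Γ)⁻¹ * ((γ1 : Γ) * γ * v * ((γ1 : Γ) * γ)⁻¹) * γ1 := by group
      _ = (γ1 : Γ)⁻¹ * ((γ1 : Γ) * v * (γ1 : Γ)⁻¹) * γ1 := by rw [h2, h1]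
      _ = v := by group
  · push Not at hex
    obtain rfl : γ = 1 := h.bij.1 (by rw [map_one, ← hσ]; exact Equiv.ext hex)
    rw [coe_one, one_mul, inv_one, mul_one]

variable {T : Subgroup Γ} {r : ℕ} {F : Fin r → Subgroup Γ} {XS : Set (Subgroup Γ)}

/-- The transposition, with exact fixed spaces. -/
theorem shape_fix_iff {C : Ctx 2 V P T F XS} {i : Fin r} {n : ℕ} {ρ : ↥(F i) →* Equiv.Perm (Fin (2 ^ n + 1))}
    {o : Fin (2 ^ n + 1)} (Sh : PermShape C i ρ o) {lam : Γ → (Fin (2 ^ n + 1) → ZMod 2)}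
    (h : PermCo (2 ^ n + 1) V (F i) ρ lam) (hn : 1 ≤ n) (γ : ↥(F i)) {v : Γ} (hv : v ∈ V) :
    (γ : Γ) * v * (γ : Γ)⁻¹ = v ↔ ∀ j, lam v (ρ γ j) = lam v j := by
  obtain ⟨a, ha⟩ : ∃ a : Fin (2 ^ n + 1), a ≠ o := by
    haveI : Nontrivial (Fin (2 ^ n + 1)) := Fin.nontrivial_iff_two_le.mpr (by have := Nat.two_pow_pos n; omega)
    exact exists_ne o
  obtain ⟨b, d, hba, -, hdT, hd⟩ := Sh.cover a ha
  exact perm_fix_iff C.vh (C.blk.le i) h hba.symm hd (Sh.cent d hdT ⟨a, b, hba.symm, hd⟩) γ hv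

/-- The data of a linear block in a fixed basis. -/
theorem sl_data (C : Ctx 2 V P T F XS) {i : Fin r} {K : Type} [Field K] [Fintype K] {n : ℕ} (hn : 1 ≤ n)
    (hK : Fintype.card K = 2 ^ n) {ρ : ↥(F i) →* Matrix.SpecialLinearGroup (Fin 2) K} {lam : Γ → (Fin 2 → K)}
    (h : SLCo K V (F i) ρ lam) :
    ∃ (k : Matrix.SpecialLinearGroup (Fin 2) K) (f : Γ → K),
      (∀ v ∈ V, ∀ w ∈ V, f (v * w) = f v + f w) ∧
      (∀ v ∈ V, f v = 0 → v ∈ centralizer ((T ⊓ F i : Subgroup Γ) : Set Γ)) ∧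
      (∀ c, ∃ s : ↥(F i), (s : Γ) ∈ T ∧ ρ s = k * Grp.SL2.up c * k⁻¹) ∧
      (∀ s : ↥(F i), (s : Γ) ∈ T → ∃ c, ρ s = k * Grp.SL2.up c * k⁻¹ ∧
        ∀ v ∈ V, f ((s : Γ) * v * (s : Γ)⁻¹) = f v ∧ ((s : Γ) * v * (s : Γ)⁻¹ = v → c * f v = 0)) := by
  haveI : Fact (Nat.Prime 2) := ⟨Nat.prime_two⟩
  obtain ⟨hcard, -, -, hfix⟩ := C.sl_shape hn hK h
  obtain ⟨R, hR⟩ : ∃ R, R = ((T ⊓ F i).subgroupOf (F i)).map ρ := ⟨_, rfl⟩
  have hRp : IsPGroup 2 R := hR ▸ ((C.sylF i).2.1.of_equiv (subgroupOfEquivOfLe inf_le_right).symm).map ρ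
  obtain ⟨v0, hv0, hv0f⟩ := exists_fixed_vec hn hK hRp
  obtain ⟨k, rfl⟩ := RootPair.exists_map hv0
  have hform : ∀ g ∈ R, ∃ c, g = k * Grp.SL2.up c * k⁻¹ := fun g hg => by
    have e : ((k⁻¹ * g * k : Matrix.SpecialLinearGroup (Fin 2) K) : Matrix (Fin 2) (Fin 2) K) *ᵥ ![1, 0] = ![1, 0] := by
      rw [Matrix.SpecialLinearGroup.coe_mul, Matrix.SpecialLinearGroup.coe_mul, ← Matrix.mulVec_mulVec,
        ← Matrix.mulVec_mulVec, hv0f g hg, Matrix.mulVec_mulVec, ← Matrix.SpecialLinearGroup.coe_mul, inv_mul_cancel]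
      simp
    obtain ⟨c, hc⟩ : ∃ c, k⁻¹ * g * k = Grp.SL2.up c := ⟨_, RootPair.eq_up_of_fix _ e⟩
    exact ⟨c, by rw [← hc]; group⟩
  have hRcard : Nat.card R = Fintype.card K := by
    rw [hR, card_map_of_injective h.bij.1, Nat.card_congr (subgroupOfEquivOfLe inf_le_right).toEquiv, hcard]
  choose cc hcc using hform
  have hinj : Function.Injective fun g : R => cc g g.2 := fun g g' e => Subtype.ext (by
    rw [hcc g g.2, hcc g' g'.2]; exact congrArg (fun c => k * Grp.SL2.up c * k⁻¹) e)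
  have hsur : Function.Surjective fun g : R => cc g g.2 := by
    refine ((Nat.bijective_iff_injective_and_card _).mpr ⟨hinj, ?_⟩).2
    rw [hRcard, Nat.card_eq_fintype_card]
  obtain ⟨f, hf⟩ : ∃ f : Γ → K, ∀ v, f v = (((k⁻¹ : Matrix.SpecialLinearGroup (Fin 2) K) : Matrix (Fin 2) (Fin 2) K) *ᵥ lam v) 1 :=
    ⟨_, fun _ => rfl⟩
  have hmv : ∀ (a b : Matrix.SpecialLinearGroup (Fin 2) K) (y : Fin 2 → K),
      ((a * b : Matrix.SpecialLinearGroup (Fin 2) K) : Matrix (Fin 2) (Fin 2) K) *ᵥ y =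
        (a : Matrix (Fin 2) (Fin 2) K) *ᵥ ((b : Matrix (Fin 2) (Fin 2) K) *ᵥ y) := fun a b y => by
    rw [Matrix.SpecialLinearGroup.coe_mul, Matrix.mulVec_mulVec]
  have hback : ∀ y, (k : Matrix (Fin 2) (Fin 2) K) *ᵥ
      (((k⁻¹ : Matrix.SpecialLinearGroup (Fin 2) K) : Matrix (Fin 2) (Fin 2) K) *ᵥ y) = y := fun y => by
    rw [← hmv, mul_inv_cancel, Matrix.SpecialLinearGroup.coe_one, Matrix.one_mulVec]
  have hforth : ∀ y, ((k⁻¹ : Matrix.SpecialLinearGroup (Fin 2) K) : Matrix (Fin 2) (Fin 2) K) *ᵥ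
      ((k : Matrix (Fin 2) (Fin 2) K) *ᵥ y) = y := fun y => by
    rw [← hmv, inv_mul_cancel, Matrix.SpecialLinearGroup.coe_one, Matrix.one_mulVec]
  refine ⟨k, f, fun v hv w hw => ?_, fun v hv h0 => ?_, fun c => ?_, fun s hs => ?_⟩
  · rw [hf, hf, hf, h.add v hv w hw, Matrix.mulVec_add]; rfl
  · refine hfix ((h.toIsCoord.fix_iff C.vh (inf_le_right.trans (C.blk.le i))).mpr ⟨hv, fun a ha => ?_⟩)
    obtain ⟨c, hc⟩ : ∃ c, ρ ⟨a, ha.2⟩ = k * Grp.SL2.up c * k⁻¹ :=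
      ⟨_, hcc _ (hR.ge (mem_map_of_mem ρ (mem_subgroupOf.mpr ha : (⟨a, ha.2⟩ : ↥(F i)) ∈ (T ⊓ F i).subgroupOf (F i))))⟩
    rw [h.act ⟨a, ha.2⟩ v hv, hc, hmv, hmv, RootPair.up_mulVec]
    rw [hf] at h0
    rw [h0, mul_zero, add_zero, ← h0]
    conv_rhs => rw [← hback (lam v)]
    congr 1
    funext j
    fin_cases j <;> rfl
  · obtain ⟨g, hg⟩ := hsur c
    obtain ⟨s, hs, e⟩ := hR.le g.2
    exact ⟨s, (mem_subgroupOf.mp hs).1, by rw [e, hcc g g.2]; exact congrArg (fun c => k * Grp.SL2.up c * k⁻¹) hg⟩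
  · obtain ⟨c, hc⟩ : ∃ c, ρ s = k * Grp.SL2.up c * k⁻¹ :=
      ⟨_, hcc _ (hR.ge (mem_map_of_mem ρ (mem_subgroupOf.mpr ⟨hs, s.2⟩)))⟩
    refine ⟨c, hc, fun v hv => ?_⟩
    have e1 : ((k⁻¹ : Matrix.SpecialLinearGroup (Fin 2) K) : Matrix (Fin 2) (Fin 2) K) *ᵥ lam ((s : Γ) * v * (s : Γ)⁻¹) =
        ![(((k⁻¹ : Matrix.SpecialLinearGroup (Fin 2) K) : Matrix (Fin 2) (Fin 2) K) *ᵥ lam v) 0 + c * f v, f v] := by
      rw [h.act s v hv, hc, hmv, hmv, hforth, RootPair.up_mulVec, hf]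
    refine ⟨?_, fun e => ?_⟩
    · rw [hf ((s : Γ) * v * (s : Γ)⁻¹), e1]; rfl
    · rw [e] at e1
      have := congrFun e1 0
      simpa using this

/-- The index of the fixed space of a block is below the index of the common fixed space of its generators. -/
theorem index_gens {ι : Type} {E : Subgroup Γ} (G : ι → Subgroup Γ) (hgen : E ≤ ⨆ j, G j) :
    (V ⊓ centralizer (E : Set Γ)).relIndex V ≤ (⨅ j, centralizer (G j : Set Γ)).relIndex V := by
  rw [← inf_relIndex_right (⨅ j, centralizer (G j : Set Γ)) V]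
  refine relIndex_le_of_le_left (fun v hv => ⟨hv.2, ?_⟩) (rel_ne _ _)
  have hle : (⨆ j, G j) ≤ centralizer ({v} : Set Γ) := iSup_le fun j x hx =>
    mem_centralizer_singleton_iff.mpr (mem_centralizer_iff.mp (mem_iInf.mp hv.1 j) x hx)
  exact mem_centralizer_iff.mpr fun x hx => mem_centralizer_singleton_iff.mp (hle (hgen hx))

/-- Generators of a block inside conjugates of offenders, with independent fixed spaces. -/
theorem block_gens (C : Ctx 2 V P T F XS) (i : Fin r) :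
    ∃ (ι : Type) (_ : Fintype ι) (G : ι → Subgroup Γ), F i ≤ ⨆ j, G j ∧
      (∀ j, G j ≤ F i ∧ ∃ g ∈ P, ∃ X ∈ XS, G j ≤ cjg g X) ∧
      ∀ w : ι → Γ, (∀ j, w j ∈ V) → ∃ v ∈ V, ∀ j, (w j)⁻¹ * v ∈ centralizer (G j : Set Γ) := by
  classical
  haveI : Fact (Nat.Prime 2) := ⟨Nat.prime_two⟩
  have hidx : Nat.card ↥(V ⊓ centralizer (F i : Set Γ)) * (V ⊓ centralizer (F i : Set Γ)).relIndex V = Nat.card V :=
    Grp.card_mul_relIndex inf_le_left
  obtain ⟨n, hn, ⟨K, iK, fK, ρ, lam, hK, h⟩ | ⟨-, ρ, lam, h⟩⟩ := models C.vh C.blk i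
  · obtain ⟨k, f, hfadd, hf0, hup, -⟩ := sl_data C hn hK h
    obtain ⟨-, -, ⟨X, hX, hSX⟩, -⟩ := C.sl_shape hn hK h
    have hdet : Matrix.det !![(0 : K), 1; -1, 0] = 1 := by simp [Matrix.det_fin_two]
    obtain ⟨w0, hw0⟩ : ∃ w : Matrix.SpecialLinearGroup (Fin 2) K,
        (w : Matrix (Fin 2) (Fin 2) K) = !![0, 1; -1, 0] := ⟨⟨_, hdet⟩, rfl⟩
    obtain ⟨g, hg⟩ := h.bij.2 (k * w0 * k⁻¹)
    obtain ⟨G, hG⟩ : ∃ G : Fin 2 → Subgroup Γ, G = ![T ⊓ F i, cjg (g : Γ) (T ⊓ F i)] := ⟨_, rfl⟩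
    have hGF : ∀ j, G j ≤ F i := fun j => by
      fin_cases j
      · simpa [hG] using (inf_le_right : T ⊓ F i ≤ F i)
      · simpa [hG] using (cjg_le (Y := F i)).mpr fun x (hx : x ∈ T ⊓ F i) => mul_mem (mul_mem g.2 hx.2) (inv_mem g.2)
    have hgen : F i ≤ ⨆ j, G j := by
      obtain ⟨H', hH'⟩ : ∃ H', H' = (((⨆ j, G j).subgroupOf (F i)).map ρ).comap (MulAut.conj k).toMonoidHom := ⟨_, rfl⟩
      have hmem : ∀ s : ↥(F i), (s : Γ) ∈ T → ρ s ∈ ((⨆ j, G j).subgroupOf (F i)).map ρ ∧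
          ρ (g * s * g⁻¹) ∈ ((⨆ j, G j).subgroupOf (F i)).map ρ := fun s hs =>
        ⟨mem_map_of_mem ρ (mem_subgroupOf.mpr (mem_iSup_of_mem 0 (hG ▸ ⟨hs, s.2⟩))),
          mem_map_of_mem ρ (mem_subgroupOf.mpr (mem_iSup_of_mem 1 (hG ▸ conj_mem_cjg (show (s : Γ) ∈ T ⊓ F i from ⟨hs, s.2⟩))))⟩
      have htop : H' = ⊤ := by
        refine AdjoinSL.eq_top_of_up_low (fun t => ?_) fun t => ?_
        · obtain ⟨s, hs, e⟩ := hup t
          rw [hH', mem_comap]
          show k * Grp.SL2.up t * k⁻¹ ∈ _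
          rw [← e]; exact (hmem s hs).1
        · obtain ⟨s, hs, e⟩ := hup (-t)
          rw [hH', mem_comap]
          show k * Grp.SL2.low t * k⁻¹ ∈ _
          have e2 : w0 * Grp.SL2.up (-t) = Grp.SL2.low t * w0 := Subtype.ext (by
            rw [Matrix.SpecialLinearGroup.coe_mul, Matrix.SpecialLinearGroup.coe_mul, hw0]
            ext a b
            fin_cases a <;> fin_cases b <;>
              simp [Grp.SL2.up, Grp.SL2.low, Matrix.mul_apply, Fin.sum_univ_two])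
          have e3 : ρ (g * s * g⁻¹) = k * Grp.SL2.low t * k⁻¹ := by
            rw [map_mul, map_mul, map_inv, hg, e]
            calc k * w0 * k⁻¹ * (k * Grp.SL2.up (-t) * k⁻¹) * (k * w0 * k⁻¹)⁻¹
                = k * (w0 * Grp.SL2.up (-t)) * w0⁻¹ * k⁻¹ := by group
              _ = _ := by rw [e2]; group
          rw [← e3]; exact (hmem s hs).2
      intro x hx
      have h1 : k⁻¹ * ρ ⟨x, hx⟩ * k ∈ H' := htop.ge (mem_top _)
      rw [hH', mem_comap] at h1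
      obtain ⟨y, hy, e⟩ := h1
      obtain rfl : y = ⟨x, hx⟩ := h.bij.1 (by rw [e]; simp [mul_assoc])
      exact mem_subgroupOf.mp hy
    refine ⟨Fin 2, inferInstance, G, hgen, fun j => ⟨hGF j, ?_⟩, fun w hw => economy C.vh.vcomm _ ?_ w hw⟩
    · fin_cases j
      · exact ⟨1, one_mem _, X, hX, by simpa [hG, cjg_one] using hSX⟩
      · exact ⟨g, C.blk.le i g.2, X, hX, by simpa [hG] using cjg_mono (g : Γ) hSX⟩
    refine le_trans ?_ (index_gens G hgen)
    have hq : (V ⊓ centralizer (F i : Set Γ)).relIndex V = Fintype.card K * Fintype.card K :=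
      Nat.eq_of_mul_eq_mul_left Nat.card_pos (hidx.trans (h.card_V.trans (mul_comm _ _)))
    have hb : ∀ j, (centralizer (G j : Set Γ)).relIndex V ≤ Fintype.card K := fun j => by
      rw [← Nat.card_eq_fintype_card]
      fin_cases j
      · exact index_le f hfadd fun v hv h0 => by simpa [hG] using hf0 v hv h0
      · refine index_le (fun v => f ((g : Γ)⁻¹ * v * g)) (fun v hv w hw => ?_) fun v hv h0 => ?_
        · have hgP := inv_mem (C.blk.le i g.2)
          have h1 := C.vh.norm _ hgP v hv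
          have h2 := C.vh.norm _ hgP w hw
          rw [inv_inv] at h1 h2
          rw [← hfadd _ h1 _ h2]; group
        · have h1 := C.vh.norm _ (inv_mem (C.blk.le i g.2)) v hv
          rw [inv_inv] at h1
          have h2 := (map_mem_centralizer (MulAut.conj (g : Γ)).toMonoidHom (MulAut.conj (g : Γ)).injective _).mpr (hf0 _ h1 h0)
          simp only [MulEquiv.coe_toMonoidHom, MulAut.conj_apply] at h2
          rw [show (g : Γ) * ((g : Γ)⁻¹ * v * g) * (g : Γ)⁻¹ = v by group] at h2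
          simpa [hG] using h2
    rw [hq, Fin.prod_univ_two]
    exact Nat.mul_le_mul (hb 0) (hb 1)
  · obtain ⟨o, Sh⟩ := C.perm_shape hn rfl h
    haveI : Nontrivial (Fin (2 ^ n + 1)) := Fin.nontrivial_iff_two_le.mpr (by have := Nat.two_pow_pos n; omega)
    obtain ⟨a0, ha0⟩ := exists_ne o
    obtain ⟨b0, d, hba, -, hdT, hd⟩ := Sh.cover a0 ha0
    obtain ⟨X, hX, hdX⟩ := Sh.mem d hdT ⟨a0, b0, hba.symm, hd⟩
    choose γ hγ using fun a : Fin (2 ^ n + 1) => h.bij.2 (Equiv.swap o a)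
    have hgen : F i ≤ ⨆ a : {a // a ≠ o}, zpowers (γ a : Γ) := by
      intro x hx
      have htop : ((⨆ a : {a // a ≠ o}, zpowers (γ a : Γ)).subgroupOf (F i)).map ρ = ⊤ := by
        have hsw : ∀ a, a ≠ o → Equiv.swap o a ∈ ((⨆ a : {a // a ≠ o}, zpowers (γ a : Γ)).subgroupOf (F i)).map ρ :=
          fun a ha => hγ a ▸ mem_map_of_mem ρ (mem_subgroupOf.mpr (mem_iSup_of_mem ⟨a, ha⟩ (mem_zpowers _)))
        rw [eq_top_iff, ← Equiv.Perm.closure_isSwap, closure_le]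
        rintro _ ⟨a, b, hab, rfl⟩
        rcases eq_or_ne a o with rfl | ha
        · exact hsw b hab.symm
        rcases eq_or_ne b o with rfl | hb
        · rw [Equiv.swap_comm]; exact hsw a hab
        have e : Equiv.swap a b = Equiv.swap o a * Equiv.swap o b * (Equiv.swap o a)⁻¹ := by
          rw [← Equiv.swap_apply_apply, Equiv.swap_apply_left, Equiv.swap_apply_of_ne_of_ne hb hab.symm]
        rw [e]
        exact mul_mem (mul_mem (hsw a ha) (hsw b hb)) (inv_mem (hsw a ha))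
      obtain ⟨y, hy, e⟩ := htop.ge (mem_top (ρ ⟨x, hx⟩))
      rw [h.bij.1 e] at hy
      exact mem_subgroupOf.mp hy
    refine ⟨{a : Fin (2 ^ n + 1) // a ≠ o}, inferInstance, fun a => zpowers (γ a : Γ), hgen,
      fun a => ⟨zpowers_le.mpr (γ a).2, ?_⟩, fun w hw => economy C.vh.vcomm _ (le_trans ?_ (index_gens _ hgen)) w hw⟩
    · obtain ⟨g, hg⟩ := isConj_iff.mp (Equiv.Perm.isConj_swap hba.symm (Ne.symm a.2))
      obtain ⟨g', hg'⟩ := h.bij.2 g
      refine ⟨g', C.blk.le i g'.2, X, hX, zpowers_le.mpr ?_⟩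
      have e : γ a = g' * d * g'⁻¹ := h.bij.1 (by rw [map_mul, map_mul, map_inv, hg', hd, hγ, hg])
      rw [e]
      exact conj_mem_cjg hdX
    have hb : ∀ a : {a : Fin (2 ^ n + 1) // a ≠ o}, (centralizer (zpowers (γ a : Γ) : Set Γ)).relIndex V ≤ 2 := fun a => by
      refine (index_le (fun v => lam v o + lam v a) (fun v hv w hw => ?_) fun v hv h0 => ?_).trans (Nat.card_zmod 2).le
      · rw [h.add v hv w hw, Pi.add_apply, Pi.add_apply]; ring
      · have e : lam v o = lam v a := CharTwo.add_eq_zero.mp h0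
        have h1 := (shape_fix_iff Sh h hn (γ a) hv).mpr fun j => by
          rw [hγ]
          rcases eq_or_ne j o with rfl | h1
          · rw [Equiv.swap_apply_left, e]
          rcases eq_or_ne j (a : Fin (2 ^ n + 1)) with rfl | h2
          · rw [Equiv.swap_apply_right, e]
          · rw [Equiv.swap_apply_of_ne_of_ne h1 h2]
        have h2 : zpowers (γ a : Γ) ≤ centralizer ({v} : Set Γ) :=
          zpowers_le.mpr (mem_centralizer_singleton_iff.mpr (mul_inv_eq_iff_eq_mul.mp h1))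
        exact mem_centralizer_iff.mpr fun x hx => mem_centralizer_singleton_iff.mp (h2 hx)
    refine (Finset.prod_le_pow_card _ _ _ fun a _ => hb a).trans ?_
    have hN : Odd (2 ^ n + 1) := (Nat.even_pow.mpr ⟨even_two, by omega⟩).add_one
    rw [Nat.eq_of_mul_eq_mul_left Nat.card_pos (hidx.trans ((h.card_V hN).trans (mul_comm _ _)))]
    simp

end Cfsg.Agent.Transfer.QRC
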