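import Cfsg.Agent.Lib.Transfer.QRC.Stages
import Cfsg.Agent.Lib.Transfer.QRC.BlockFix

/-!
# An offender on the span gives a quadratic witness or a centralising residual

With an offender the span is `[U, E] C_U(E)`, and the part of the Sylow subgroup in the residual centralises `A`
unless a block yields a witness.
-/

set_option autoImplicit false
set_option linter.unusedSectionVars false
set_option linter.style.haveILetI false

open scoped commutatorElement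

namespace Cfsg.Agent.Transfer.QRC

open Subgroup Cfsg.Agent.Fus Cfsg.Agent.Fus.PushBlocks
open Cfsg.Agent.Fus.CharTransfer (act modW Amb)
open Cfsg.Agent.Fus.MinModule (VHyp)

universe u

variable {G : Type u} [Group G] [Finite G] {H T M A U B U1 : Subgroup G}
  {Γ : Type u} [Group Γ] {φ : ↥H →* Γ} {Vb : Subgroup Γ} {j : ↥U1 →* Γ}

/-- A faithful copy of the action of `H` on a normal subgroup. -/
structure Emb (H U1 : Subgroup G) (φ : ↥H →* Γ) (Vb : Subgroup Γ) (j : ↥U1 →* Γ) : Prop where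
  nml : Nml H U1
  mem : ∀ x, j x ∈ Vb
  surj : ∀ v ∈ Vb, ∃ x, j x = v
  inj : Function.Injective j
  conj : ∀ (h : ↥H) (x : ↥U1) (hx : (h : G) * x * (h : G)⁻¹ ∈ U1),
    φ h * j x * (φ h)⁻¹ = j ⟨(h : G) * x * (h : G)⁻¹, hx⟩
  ker : ∀ h : ↥H, φ h = 1 ↔ (h : G) ∈ centralizer (U1 : Set G)

theorem exists_emb (hle : U1 ≤ H) (hn : Nml H U1) :
    ∃ (Γ : Type u) (_ : Group Γ) (_ : Finite Γ) (φ : ↥H →* Γ) (Vb : Subgroup Γ) (j : ↥U1 →* Γ), Emb H U1 φ Vb j := by
  haveI : (U1.subgroupOf H).Normal := ⟨fun n hn' g => mem_subgroupOf.mpr (hn g g.2 n (mem_subgroupOf.mp hn'))⟩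
  obtain ⟨e, he⟩ : ∃ e : ↥U1 →* ↥(U1.subgroupOf H), ∀ x, ((e x : ↥H) : G) = x :=
    ⟨(subgroupOfEquivOfLe hle).symm.toMonoidHom, fun x => rfl⟩
  refine ⟨Amb (U1.subgroupOf H), inferInstance, inferInstance, act (U1.subgroupOf H), modW (U1.subgroupOf H),
    SemidirectProduct.inl.comp e, hn, fun x => ⟨e x, rfl⟩, ?_, ?_, fun h x hx => ?_, fun h => ?_⟩
  · rintro _ ⟨w, rfl⟩
    refine ⟨⟨((w : ↥H) : G), mem_subgroupOf.mp w.2⟩, ?_⟩
    rw [MonoidHom.comp_apply]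
    exact congrArg _ (Subtype.ext (Subtype.ext (he _)))
  · intro x y hxy
    have := SemidirectProduct.inl_injective hxy
    exact Subtype.ext (by rw [← he x, ← he y, this])
  · rw [MonoidHom.comp_apply, MonoidHom.comp_apply, CharTransfer.act_inl]
    refine congrArg _ (Subtype.ext (Subtype.ext ?_))
    rw [he]
    simp [he]
  · rw [CharTransfer.act_one_iff, mem_centralizer_iff, mem_centralizer_iff]
    constructor
    · intro hc x hx
      exact congrArg Subtype.val (hc ⟨x, hle hx⟩ (mem_subgroupOf.mpr hx))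
    · intro hc y hy
      exact Subtype.ext (hc y (mem_subgroupOf.mp hy))

theorem Emb.fix_iff (Em : Emb H U1 φ Vb j) (h : ↥H) (x : ↥U1) :
    φ h * j x * (φ h)⁻¹ = j x ↔ (h : G) * x * (h : G)⁻¹ = x := by
  rw [Em.conj h x (Em.nml h h.2 x x.2), Em.inj.eq_iff, Subtype.ext_iff]

/-- The subgroup of `H` fixing an element. -/
abbrev stab (H : Subgroup G) (u : G) : Subgroup ↥H := (centralizer ({u} : Set G)).subgroupOf H

theorem mem_stab {u : G} {h : ↥H} : h ∈ stab H u ↔ (h : G) * u * (h : G)⁻¹ = u := by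
  rw [stab, mem_subgroupOf, mem_centralizer_singleton_iff, mul_inv_eq_iff_eq_mul]

theorem Emb.mem_cent (Em : Emb H U1 φ Vb j) {X : Subgroup G} (hX : X ≤ U1) (h : ↥H) :
    φ h ∈ centralizer (((X.subgroupOf U1).map j : Subgroup Γ) : Set Γ) ↔ (h : G) ∈ centralizer (X : Set G) := by
  constructor
  · intro hc
    refine mem_centralizer_iff.mpr fun x hx => (mul_inv_eq_iff_eq_mul.mp ((Em.fix_iff h ⟨x, hX hx⟩).mp ?_)).symm
    rw [mul_inv_eq_iff_eq_mul]
    exact (mem_centralizer_iff.mp hc _ (mem_map_of_mem j (mem_subgroupOf.mpr hx : (⟨x, hX hx⟩ : ↥U1) ∈ X.subgroupOf U1))).symm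
  · intro hc
    refine mem_centralizer_iff.mpr ?_
    rintro _ ⟨x, hx, rfl⟩
    refine (mul_inv_eq_iff_eq_mul.mp ((Em.fix_iff h x).mpr ?_)).symm
    rw [mul_inv_eq_iff_eq_mul]
    exact (mem_centralizer_iff.mp hc x (mem_subgroupOf.mp hx)).symm

variable [Finite Γ] {P Tb : Subgroup Γ} {r : ℕ} {F : Fin r → Subgroup Γ} {XS : Set (Subgroup Γ)}

/-- Every vector is moved by `U₁` to one fixed by lifts of the blocks. -/
theorem block_cover (Em : Emb H U1 φ Vb j) (C : Ctx 2 Vb φ.range Tb F XS)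
    (hUc : ∀ u ∈ U, ∀ v ∈ U, u * v = v * u) (hUn : Nml H U) (hU1U : U1 ≤ U) (hBH : B ≤ H)
    (hcov : U ≤ U1 ⊔ (U ⊓ centralizer (B : Set G)))
    (hXS : ∀ X ∈ XS, ∃ h : ↥H, X ≤ cjg (φ h) ((B.subgroupOf H).map φ)) :
    ∃ Xt : Subgroup ↥H, Xt ≤ (⨆ i, F i).comap φ ∧ (⨆ i, F i) ≤ Xt.map φ ∧
      ∀ u ∈ U, ∃ w : ↥U1, Xt ≤ stab H (u * w) := by
  classical
  have key : ∀ s : Finset (Fin r), ∃ Xt : Subgroup ↥H, Xt ≤ (⨆ i, F i).comap φ ∧ (∀ i ∈ s, F i ≤ Xt.map φ) ∧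
      (∀ k, k ∉ s → Xt ≤ (centralizer ((⁅Vb, F k⁆ : Subgroup Γ) : Set Γ)).comap φ) ∧
      ∀ u ∈ U, ∃ w : ↥U1, Xt ≤ stab H (u * w) := by
    intro s
    induction s using Finset.induction_on with
    | empty => exact ⟨⊥, bot_le, fun i hi => absurd hi (Finset.notMem_empty i), fun _ _ => bot_le,
        fun u _ => ⟨1, bot_le⟩⟩
    | insert k s hk ih =>
      obtain ⟨Xt, hX1, hX2, hX3, hX4⟩ := ih
      obtain ⟨ι, iι, Gs, hgen, hG, heco⟩ := block_gens C k
      have hlift : ∀ i, ∃ Bl : Subgroup ↥H, Gs i ≤ Bl.map φ ∧ ∀ u ∈ U, ∃ w : ↥U1, Bl ≤ stab H (u * w) := by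
        intro i
        obtain ⟨-, g, ⟨h1, rfl⟩, X, hX, hle⟩ := hG i
        obtain ⟨h2, hh2⟩ := hXS X hX
        refine ⟨cjg (h1 * h2) (B.subgroupOf H), hle.trans ((cjg_mono _ hh2).trans ?_), fun u hu => ?_⟩
        · rw [← cjg_mul, ← map_mul, cjg, cjg, Subgroup.map_map, Subgroup.map_map]
          refine le_of_eq (congrArg (fun f => (B.subgroupOf H).map f) ?_)
          ext x
          simp
        · obtain ⟨h, hh⟩ : ∃ h, h = h1 * h2 := ⟨_, rfl⟩
          rw [← hh]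
          have hu' : (h : G)⁻¹ * u * h ∈ U := by
            have := hUn _ (inv_mem h.2) u hu
            rwa [inv_inv] at this
          obtain ⟨w, hw, c, hc, e⟩ := Grp.OffenderSL2.exists_mul_of_comm
            (fun w hw c hc => hUc w (hU1U hw) c (mem_inf.mp hc).1) (hcov hu')
          refine ⟨(⟨(h : G) * w * (h : G)⁻¹, Em.nml h h.2 w hw⟩ : ↥U1)⁻¹, ?_⟩
          have e1 : u * (((⟨(h : G) * w * (h : G)⁻¹, Em.nml h h.2 w hw⟩ : ↥U1)⁻¹ : ↥U1) : G) =
              (h : G) * c * (h : G)⁻¹ := by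
            rw [coe_inv]
            calc u * ((h : G) * w * (h : G)⁻¹)⁻¹ = (h : G) * ((h : G)⁻¹ * u * h) * w⁻¹ * (h : G)⁻¹ := by group
              _ = (h : G) * (w * c) * w⁻¹ * (h : G)⁻¹ := by rw [← e]
              _ = (h : G) * (c * w) * w⁻¹ * (h : G)⁻¹ := by rw [hUc w (hU1U hw) c hc.1]
              _ = _ := by group
          rw [e1]
          rintro _ ⟨b, hb, rfl⟩
          refine mem_stab.mpr ?_
          have e2 : (b : G) * c = c * b := mem_centralizer_iff.mp hc.2 _ (mem_subgroupOf.mp hb)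
          show ((h * b * h⁻¹ : ↥H) : G) * _ * ((h * b * h⁻¹ : ↥H) : G)⁻¹ = _
          rw [coe_mul, coe_mul, coe_inv]
          calc (h : G) * b * (h : G)⁻¹ * ((h : G) * c * (h : G)⁻¹) * ((h : G) * b * (h : G)⁻¹)⁻¹
              = (h : G) * ((b : G) * c) * (b : G)⁻¹ * (h : G)⁻¹ := by group
            _ = _ := by rw [e2]; group
      choose Bl hBl hBlfix using hlift
      obtain ⟨Y, hY⟩ : ∃ Y, Y = ⨆ i, Bl i ⊓ (Gs i).comap φ := ⟨_, rfl⟩
      have hYF : Y ≤ (F k).comap φ := hY ▸ iSup_le fun i => inf_le_right.trans (comap_mono (hG i).1)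
      have hYmap : F k ≤ Y.map φ := hgen.trans (iSup_le fun i γ hγ => by
        obtain ⟨b, hb, e⟩ := hBl i hγ
        exact ⟨b, hY ▸ mem_iSup_of_mem i ⟨hb, mem_comap.mpr (e ▸ hγ)⟩, e⟩)
      have hYfix : ∀ u ∈ U, ∃ w : ↥U1, j w ∈ ⁅Vb, F k⁆ ∧ Y ≤ stab H (u * w) := by
        intro u hu
        choose wj hwj using fun i => hBlfix i u hu
        obtain ⟨v, hv, hvj⟩ := heco (fun i => j (wj i)) fun i => Em.mem _
        obtain ⟨v1, hv1, c, hc, rfl⟩ := Grp.OffenderSL2.exists_mul_of_comm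
          (fun a ha c hc => C.vh.vcomm a (commutator_le_V C.vh (C.blk.le k) ha) c (mem_inf.mp hc).1)
          (full C.vh C.blk k hv)
        obtain ⟨w, rfl⟩ := Em.surj v1 (commutator_le_V C.vh (C.blk.le k) hv1)
        refine ⟨w, hv1, hY ▸ iSup_le fun i x hx => mem_stab.mpr ?_⟩
        have h1 := mem_stab.mp (hwj i hx.1)
        have hcG : c⁻¹ ∈ centralizer (Gs i : Set Γ) := inv_mem (centralizer_le (SetLike.coe_subset_coe.mpr (hG i).1) hc.2)
        have h2 : (j (wj i))⁻¹ * j w ∈ centralizer (Gs i : Set Γ) := by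
          have := mul_mem (hvj i) hcG
          rwa [mul_assoc, mul_assoc, mul_inv_cancel, mul_one] at this
        have h3 : (x : G) * (((wj i)⁻¹ * w : ↥U1) : G) * (x : G)⁻¹ = (((wj i)⁻¹ * w : ↥U1) : G) := by
          refine (Em.fix_iff x _).mp ?_
          rw [map_mul, map_inv, mul_inv_eq_iff_eq_mul]
          exact mem_centralizer_iff.mp h2 _ hx.2
        rw [coe_mul, coe_inv] at h3
        calc (x : G) * (u * w) * (x : G)⁻¹
            = ((x : G) * (u * wj i) * (x : G)⁻¹) * ((x : G) * ((wj i : G)⁻¹ * w) * (x : G)⁻¹) := by group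
          _ = (u * wj i) * ((wj i : G)⁻¹ * w) := by rw [h1, h3]
          _ = _ := by group
      refine ⟨Xt ⊔ Y, sup_le hX1 (hYF.trans (comap_mono (le_iSup F k))), fun i hi => ?_, fun i hi => ?_, fun u hu => ?_⟩
      · rcases Finset.mem_insert.mp hi with rfl | hi
        · exact hYmap.trans (map_mono le_sup_right)
        · exact (hX2 i hi).trans (map_mono le_sup_left)
      · rw [Finset.mem_insert, not_or] at hi
        refine sup_le (hX3 i hi.2) (hYF.trans (comap_mono ?_))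
        exact le_centralizer_iff.mp (fix_other C.blk hi.1)
      · obtain ⟨w0, hw0⟩ := hX4 u hu
        obtain ⟨w1, hw1F, hw1⟩ := hYfix (u * w0) (mul_mem hu (hU1U w0.2))
        refine ⟨w0 * w1, ?_⟩
        rw [coe_mul, ← mul_assoc]
        refine sup_le (fun x hx => mem_stab.mpr ?_) hw1
        have h1 := mem_stab.mp (hw0 hx)
        have h2 := (Em.fix_iff x w1).mp (mul_inv_eq_iff_eq_mul.mpr (mem_centralizer_iff.mp (hX3 k hk hx) _ hw1F).symm)
        calc (x : G) * (u * w0 * w1) * (x : G)⁻¹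
            = ((x : G) * (u * w0) * (x : G)⁻¹) * ((x : G) * w1 * (x : G)⁻¹) := by group
          _ = _ := by rw [h1, h2]
  obtain ⟨Xt, h1, h2, -, h4⟩ := key Finset.univ
  exact ⟨Xt, h1, iSup_le fun i => h2 i (Finset.mem_univ i), h4⟩

/-- An element lies in a subgroup with two coprime powers. -/
theorem mem_of_pows {K : Subgroup G} {g : G} {m n : ℕ} (h : m.Coprime n) (h1 : g ^ m ∈ K) (h2 : g ^ n ∈ K) :
    g ∈ K := by
  obtain ⟨x, y, hxy⟩ := (Nat.isCoprime_iff_coprime.mpr h : IsCoprime (m : ℤ) (n : ℤ))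
  have e : g = (g ^ m) ^ x * (g ^ n) ^ y := by
    rw [← zpow_natCast g m, ← zpow_natCast g n, ← zpow_mul, ← zpow_mul, ← zpow_add, mul_comm (m : ℤ),
      mul_comm (n : ℤ), hxy, zpow_one]
  rw [e]
  exact mul_mem (zpow_mem h1 x) (zpow_mem h2 y)

/-- An element of odd order moves nothing by an involution that it fixes. -/
theorem odd_move_eq_one {e c z : G} (he : Odd (orderOf e)) (hz : e * c * e⁻¹ = z * c) (hfix : e * z * e⁻¹ = z)
    (hz2 : z * z = 1) : z = 1 := by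
  have key : ∀ n : ℕ, e ^ n * c * (e ^ n)⁻¹ = z ^ n * c := by
    intro n
    induction n with
    | zero => simp
    | succ n ih =>
      calc e ^ (n + 1) * c * (e ^ (n + 1))⁻¹ = e * (e ^ n * c * (e ^ n)⁻¹) * e⁻¹ := by rw [pow_succ']; group
        _ = e * (z ^ n * c) * e⁻¹ := by rw [ih]
        _ = (e * z * e⁻¹) ^ n * (e * c * e⁻¹) := by rw [conj_pow]; group
        _ = z ^ (n + 1) * c := by rw [hfix, hz, pow_succ, mul_assoc]
  have h := key (orderOf e)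
  rw [pow_orderOf_eq_one, one_mul, inv_one, mul_one] at h
  obtain ⟨k, hk⟩ := he
  rw [hk, pow_succ, pow_mul, pow_two, hz2, one_pow, one_mul] at h
  exact right_eq_mul.mp h

/-- An offender on the span gives a witness or the residual part of the Sylow subgroup centralises `A`. -/
theorem Sit.blocks (S : Sit H T M A U) (hB : Off1 U T B) :
    QTarget A ∨ T ⊓ odd H ≤ centralizer (A : Set G) := by
  haveI : Fact (Nat.Prime 2) := ⟨Nat.prime_two⟩
  rcases S.conseq hB with h | hc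
  · exact .inl h
  obtain ⟨E, hE⟩ : ∃ E, E = odd H := ⟨_, rfl⟩
  obtain ⟨U1, hU1⟩ : ∃ U1, U1 = ⁅U, E⁆ := ⟨_, rfl⟩
  have hU1' : U1 = ⁅U, odd H⁆ := hU1.trans (by rw [hE])
  have hU1U : U1 ≤ U := hU1' ▸ S.U1_le
  have hU1n : Nml H U1 := hU1' ▸ S.U1_nml
  have hU1H : U1 ≤ H := hU1U.trans S.U_le_H
  have hEH : E ≤ H := hE ▸ oddGenerated_le H
  have hBH : B ≤ H := hB.le.trans S.TH
  obtain ⟨Γ, iΓ, fΓ, φ, Vb, j, Em⟩ := exists_emb hU1H hU1n
  have hVc : ∀ v ∈ Vb, ∀ w ∈ Vb, v * w = w * v := fun v hv w hw => by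
    obtain ⟨x, rfl⟩ := Em.surj v hv
    obtain ⟨y, rfl⟩ := Em.surj w hw
    rw [← map_mul, ← map_mul]
    exact congrArg j (Subtype.ext (S.comm x (hU1U x.2) y (hU1U y.2)))
  obtain ⟨PH, VH, -, hkO⟩ := image_hyps S.umax φ Vb hVc
    (fun v hv => by
      obtain ⟨x, rfl⟩ := Em.surj v hv
      rw [← map_mul, ← map_one j]
      exact congrArg j (Subtype.ext (S.sq x (hU1U x.2))))
    (fun h v hv => by
      obtain ⟨x, rfl⟩ := Em.surj v hv
      rw [Em.conj h x (hU1n h h.2 x x.2)]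
      exact Em.mem _)
    (fun h hh => (Em.ker h).mpr (mem_centralizer_iff.mpr fun x hx =>
      (mul_inv_eq_iff_eq_mul.mp ((Em.fix_iff h ⟨x, hx⟩).mp
        (mul_inv_eq_iff_eq_mul.mpr (mem_centralizer_iff.mp hh _ (Em.mem _)).symm))).symm))
    (fun hall => S.U1_ne ((S.U1_idem).symm.trans (commutator_eq_bot_iff_le_centralizer.mpr
      (le_centralizer_iff.mp fun e he => hU1' ▸ (Em.ker ⟨e, oddGenerated_le H he⟩).mp (hall _ he)))))
    (fun h hh => (Em.ker h).mpr ((commutator_eq_bot_iff_le_centralizer.mp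
      (show ⁅core2 H, U1⁆ = ⊥ by rw [commutator_comm, hU1', hc.U1core])) hh))
  obtain ⟨a, ha⟩ : ∃ a, a = (B ⊓ core2 H).relIndex B := ⟨_, rfl⟩
  obtain ⟨XB, hXB⟩ : ∃ XB, XB = (B.subgroupOf H).map φ := ⟨_, rfl⟩
  have hker : φ.ker = (centralizer (U1 : Set G)).subgroupOf H := by
    ext h; rw [MonoidHom.mem_ker, Em.ker, mem_subgroupOf]
  have haX : a ≤ Nat.card XB := by
    rw [hXB, ← relIndex_ker, hker, relIndex_subgroupOf hBH, ha, ← inf_relIndex_right (centralizer (U1 : Set G))]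
    refine relIndex_le_of_le_left (le_inf inf_le_right ?_) (rel_ne _ _)
    intro b hb
    refine hkO ⟨hB.le hb.2, ?_⟩
    exact ⟨⟨b, hBH hb.2⟩, (Em.ker _).mpr hb.1, rfl⟩
  have hXBT : XB ≤ (T.subgroupOf H).map φ :=
    hXB ▸ map_mono fun x hx => mem_subgroupOf.mpr (hB.le (mem_subgroupOf.mp hx))
  have hXBc : ∀ x ∈ XB, ∀ y ∈ XB, x * y = y * x := by
    rw [hXB]
    rintro _ ⟨b, hb, rfl⟩ _ ⟨b', hb', rfl⟩
    rw [← commutatorElement_eq_one_iff_mul_comm, ← map_commutatorElement, Em.ker]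
    exact centralizer_le (SetLike.coe_subset_coe.mpr hU1U) (hB.el.comm b hb b' hb')
  have hXBs : ∀ x ∈ XB, x * x = 1 := by
    rw [hXB]
    rintro _ ⟨b, hb, rfl⟩
    rw [← map_mul, Em.ker, coe_mul, ← pow_two]
    exact centralizer_le (SetLike.coe_subset_coe.mpr hU1U) (hB.el.sq b hb)
  have hVcard : Nat.card Vb = Nat.card U1 := by
    rw [show Vb = j.range from le_antisymm (fun v hv => Em.surj v hv) (by rintro _ ⟨x, rfl⟩; exact Em.mem x)]
    exact Nat.card_congr (MonoidHom.ofInjective Em.inj).toEquiv.symm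
  have hoff : Nat.card Vb ≤ Nat.card XB * Nat.card ↥(Vb ⊓ centralizer (XB : Set Γ)) := by
    have h1 : (centralizer (B : Set G)).relIndex U1 ≤ a := by
      refine le_trans (le_trans ?_ (relIndex_le_of_le_right hU1U (rel_ne _ _))) (ha ▸ hc.bound)
      rw [← inf_relIndex_right, ← inf_relIndex_right (U ⊓ centralizer (B : Set G)) U1]
      exact le_of_eq (congrArg (fun K : Subgroup G => K.relIndex U1) (by rw [inf_comm U, inf_assoc, inf_eq_right.mpr hU1U]))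
    obtain ⟨J, hJ⟩ : ∃ J, J = ((centralizer (B : Set G)).subgroupOf U1).map j := ⟨_, rfl⟩
    have hJle : J ≤ Vb ⊓ centralizer (XB : Set Γ) := by
      rw [hJ, hXB]
      rintro _ ⟨x, hx, rfl⟩
      refine ⟨Em.mem x, mem_centralizer_iff.mpr ?_⟩
      rintro _ ⟨b, hb, rfl⟩
      refine mul_inv_eq_iff_eq_mul.mp ((Em.fix_iff b x).mpr (mul_inv_eq_iff_eq_mul.mpr ?_))
      exact mem_centralizer_iff.mp (mem_subgroupOf.mp hx) b (mem_subgroupOf.mp hb)
    calc Nat.card Vb = Nat.card U1 := hVcard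
      _ = (centralizer (B : Set G)).relIndex U1 * Nat.card ↥((centralizer (B : Set G)).subgroupOf U1) := by
        rw [mul_comm]; exact (card_mul_index _).symm
      _ ≤ Nat.card XB * Nat.card J := by
        rw [hJ, card_map_of_injective Em.inj]
        exact Nat.mul_le_mul_right _ (h1.trans haX)
      _ ≤ _ := Nat.mul_le_mul_left _ (Subgroup.card_le_of_le hJle)
  have hXBne : XB ≠ ⊥ := fun h => by
    rw [h, card_bot] at haX
    have h1 : a = 1 := le_antisymm haX (ha ▸ Nat.pos_of_ne_zero (rel_ne _ _))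
    exact hB.move (((relIndex_eq_one.mp (ha ▸ h1)) : B ≤ B ⊓ core2 H).trans hc.kernel)
  obtain ⟨⟨r, F, hF⟩, -⟩ := MinModule.main PH VH (hXBT.trans PH.syl.1) hXBne (PH.syl.2.1.to_le hXBT) hXBc hoff
  obtain ⟨Tb, hTb⟩ : ∃ Tb, Tb = (T.subgroupOf H).map φ := ⟨_, rfl⟩
  rw [← hTb] at PH hF hXBT
  obtain ⟨XS, hXS⟩ : ∃ XS : Set (Subgroup Γ), ∀ X, X ∈ XS ↔ ∃ t ∈ Tb, X = cjg t XB :=
    ⟨{X | ∃ t ∈ Tb, X = cjg t XB}, fun _ => Iff.rfl⟩
  have C : Ctx 2 Vb φ.range Tb F XS := by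
    refine ⟨VH, hF, PH.syl, fun X hX => ?_, fun t ht X hX => ?_, ⟨XB, (hXS _).mpr ⟨1, one_mem _, (cjg_one _).symm⟩, hXBne⟩⟩
    · obtain ⟨t, ht, rfl⟩ := (hXS X).mp hX
      refine ⟨cjg_le.mpr fun x hx => mul_mem (mul_mem ht (hXBT hx)) (inv_mem ht), ?_, ?_⟩
      · rintro _ ⟨x, hx, rfl⟩ _ ⟨y, hy, rfl⟩
        rw [← map_mul, ← map_mul, hXBc x hx y hy]
      · have hV : cjg t Vb = Vb :=
          cjg_of_norm (norm_of_conj (fun g hg v hv => VH.norm g hg v hv) (PH.syl.1 ht))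
        rw [cjg, card_map_of_injective (MulAut.conj t).injective]
        refine hoff.trans (Nat.mul_le_mul_left _ (le_of_eq ?_))
        conv_rhs => rw [← hV]
        rw [← cjg_centralizer, cjg, card_map_of_injective (MulAut.conj t).injective]
    · obtain ⟨s, hs, rfl⟩ := (hXS X).mp hX
      exact (hXS _).mpr ⟨t * s, mul_mem ht hs, (cjg_mul t s XB).symm⟩
  have hXsq : ∀ X ∈ XS, ∀ x ∈ X, x * x = 1 := fun X hX x hx => by
    obtain ⟨t, -, rfl⟩ := (hXS X).mp hX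
    obtain ⟨y, hy, rfl⟩ := hx
    rw [← map_mul, hXBs y hy, map_one]
  obtain ⟨Xt, hXtF, hFXt, hcov⟩ := block_cover (U := U) (B := B) Em C S.comm S.U_nml hU1U hBH
    (hU1' ▸ hc.cover) fun X hX => by
      obtain ⟨t, ht, rfl⟩ := (hXS X).mp hX
      obtain ⟨h, -, rfl⟩ := hTb.le ht
      exact ⟨h, hXB ▸ le_rfl⟩
  have hoddF : ∀ e : ↥H, Odd (orderOf (e : G)) → φ e ∈ ⨆ i, F i := fun e he =>
    PH.res_le_of (fun g hg n hn => (mem_normalizer_iff.mp (C.sup_normal hg) n).mp hn) (iSup_le hF.le) hF.sup.ge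
      (MinModule.mem_res ⟨e, rfl⟩ (Nat.Coprime.coprime_dvd_left ((orderOf_map_dvd φ e).trans (by rw [orderOf_coe]))
        (Nat.coprime_two_right.mpr he)))
  -- the vectors fixed by the lifts are fixed by the residual
  have hCEn : Nml H (centralizer (E : Set G)) := hE ▸ (odd_nml H).centralizer
  have hker_move : ∀ k ∈ H, k ∈ centralizer (U1 : Set G) → ∀ c ∈ U, ⁅k, c⁆ ∈ centralizer (E : Set G) := by
    obtain ⟨K, hK⟩ : ∃ K : Subgroup G, ∀ k, k ∈ K ↔ k ∈ H ∧ ∀ c ∈ U, ⁅k, c⁆ ∈ centralizer (E : Set G) :=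
      ⟨{ carrier := {k | k ∈ H ∧ ∀ c ∈ U, ⁅k, c⁆ ∈ centralizer (E : Set G)}
         one_mem' := ⟨one_mem _, fun c _ => by rw [commutatorElement_one_left]; exact one_mem _⟩
         mul_mem' := fun {x y} hx hy => ⟨mul_mem hx.1 hy.1, fun c hc => by
           rw [show ⁅x * y, c⁆ = x * ⁅y, c⁆ * x⁻¹ * ⁅x, c⁆ by simp only [commutatorElement_def]; group]
           exact mul_mem (hCEn x hx.1 _ (hy.2 c hc)) (hx.2 c hc)⟩
         inv_mem' := fun {x} hx => ⟨inv_mem hx.1, fun c hc => by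
           rw [show ⁅x⁻¹, c⁆ = x⁻¹ * ⁅x, c⁆⁻¹ * x⁻¹⁻¹ by simp only [commutatorElement_def]; group]
           exact hCEn _ (inv_mem hx.1) _ (inv_mem (hx.2 c hc))⟩ }, fun _ => Iff.rfl⟩
    intro k hk hkc
    suffices hkK : k ∈ K from ((hK k).mp hkK).2
    obtain ⟨n, m, hm, hnm⟩ := Nat.exists_eq_pow_mul_and_not_dvd (orderOf_pos k).ne' 2 (by norm_num)
    have hmo : Odd m := Nat.not_even_iff_odd.mp fun he => hm he.two_dvd
    refine mem_of_pows ((Nat.coprime_two_right.mpr hmo).pow_right n) ?_ ?_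
    · have h2 : IsPGroup 2 ↥(zpowers (k ^ m)) := IsPGroup.of_card (n := n) (by
        rw [Nat.card_zpowers, orderOf_pow, hnm, Nat.gcd_mul_left_left, Nat.mul_div_cancel _ hmo.pos])
      obtain ⟨h, hh, hle⟩ := S.umax.into (zpowers_le.mpr (H.pow_mem hk m)) h2
      have h3 : h * k ^ m * h⁻¹ ∈ core2 H := hkO ⟨hle (conj_mem_cjg (mem_zpowers _)),
        ⟨⟨h * k ^ m * h⁻¹, mul_mem (mul_mem hh (pow_mem hk m)) (inv_mem hh)⟩,
          (Em.ker _).mpr (hU1n.centralizer h hh _ (pow_mem hkc m)), rfl⟩⟩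
      have h4 : k ^ m ∈ core2 H := by
        have h5 := core2_norm H h⁻¹ (inv_mem hh) _ h3
        rwa [inv_inv, show h⁻¹ * (h * k ^ m * h⁻¹) * h = k ^ m by group] at h5
      refine (hK _).mpr ⟨pow_mem hk m, fun c hcU => ?_⟩
      have h6 := commutator_eq_bot_iff_le_centralizer.mp hc.coreE
      rw [← commutatorElement_inv]
      exact inv_mem (hE ▸ h6 (commutator_mem_commutator hcU h4))
    · obtain ⟨e, he⟩ : ∃ e, e = k ^ 2 ^ n := ⟨_, rfl⟩
      rw [← he]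
      have heH : e ∈ H := he ▸ pow_mem hk _
      have heo : Odd (orderOf e) := by
        rw [he, orderOf_pow, hnm, Nat.gcd_mul_right_left, Nat.mul_div_cancel_left _ (Nat.two_pow_pos n)]
        exact hmo
      have heE : e ∈ odd H := subset_closure ⟨heH, heo⟩
      refine (hK _).mpr ⟨heH, fun c hcU => ?_⟩
      have hz : ⁅e, c⁆ ∈ U1 := by
        rw [← commutatorElement_inv]; exact inv_mem (hU1' ▸ commutator_mem_commutator hcU heE)
      rw [odd_move_eq_one (c := c) heo (z := ⁅e, c⁆) (by rw [commutatorElement_def]; group)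
        (mul_inv_eq_iff_eq_mul.mpr (mem_centralizer_iff.mp (he ▸ pow_mem hkc _) _ hz).symm) (S.sq _ (hU1U hz))]
      exact one_mem _
  have hfixE : ∀ c ∈ U, Xt ≤ stab H c → c ∈ centralizer (E : Set G) := by
    intro c hcU hfix
    have hle : odd H ≤ centralizer ({c} : Set G) := (closure_le _).mpr fun e ⟨heH, heo⟩ => by
      refine mem_centralizer_singleton_iff.mpr ?_
      have heE : e ∈ odd H := subset_closure ⟨heH, heo⟩
      obtain ⟨x, hx, hxe⟩ := hFXt (hoddF ⟨e, heH⟩ heo)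
      have hk : x⁻¹ * ⟨e, heH⟩ ∈ φ.ker := by rw [MonoidHom.mem_ker, map_mul, map_inv, hxe, inv_mul_cancel]
      rw [MonoidHom.mem_ker, Em.ker, coe_mul, coe_inv] at hk
      obtain ⟨k, hk'⟩ : ∃ k, k = (x : G)⁻¹ * e := ⟨_, rfl⟩
      rw [← hk'] at hk
      have hkH : k ∈ H := hk' ▸ mul_mem (inv_mem x.2) heH
      have h1 := hker_move k hkH hk c hcU
      have hxc := mem_stab.mp (hfix hx)
      have hz1 : e * c * e⁻¹ * c⁻¹ ∈ U1 := by
        rw [show e * c * e⁻¹ * c⁻¹ = ⁅e, c⁆ from (commutatorElement_def e c).symm, ← commutatorElement_inv]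
        exact inv_mem (hU1' ▸ commutator_mem_commutator hcU heE)
      have hz2 : e * c * e⁻¹ * c⁻¹ ∈ centralizer (E : Set G) := by
        have e1 : e * c * e⁻¹ * c⁻¹ = (x : G) * ⁅k, c⁆ * (x : G)⁻¹ := by
          calc e * c * e⁻¹ * c⁻¹ = e * c * e⁻¹ * ((x : G) * c * (x : G)⁻¹)⁻¹ := by rw [hxc]
            _ = _ := by rw [hk', commutatorElement_def]; group
        rw [e1]; exact hCEn x x.2 _ h1
      have h0 := odd_move_eq_one (c := c) heo (z := e * c * e⁻¹ * c⁻¹) (by group)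
        (mul_inv_eq_iff_eq_mul.mpr (mem_centralizer_iff.mp hz2 e (hE ▸ heE))) (S.sq _ (hU1U hz1))
      rw [← mul_inv_eq_iff_eq_mul]
      exact mul_inv_eq_one.mp h0
    exact mem_centralizer_iff.mpr fun e he => mem_centralizer_singleton_iff.mp (hle (hE ▸ he))
  obtain ⟨C0, hC0⟩ : ∃ C0, C0 = U ⊓ centralizer (E : Set G) := ⟨_, rfl⟩
  have hC0n : Nml H C0 := hC0 ▸ S.U_nml.inf hCEn
  have hC0U : C0 ≤ U := hC0 ▸ inf_le_left
  have hUC : U ≤ U1 ⊔ C0 := fun u hu => by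
    obtain ⟨w, hw⟩ := hcov u hu
    have huw := mul_mem hu (hU1U w.2)
    have h1 : u * (w : G) ∈ C0 := hC0.ge ⟨huw, hfixE _ huw hw⟩
    rw [show u = u * (w : G) * (w : G)⁻¹ by group]
    exact mul_mem (mem_sup_right h1) (mem_sup_left (inv_mem w.2))
  have hZfix : ∀ z : ↥U1, (z : G) ∈ centralizer (E : Set G) → Xt ≤ stab H (z : G) := by
    intro z hz x hx
    refine mem_stab.mpr ((Em.fix_iff x z).mp (mul_inv_eq_iff_eq_mul.mpr ?_))
    have hle : (⨆ i, F i) ≤ centralizer ({j z} : Set Γ) := iSup_le fun i γ hγ => by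
      refine mem_centralizer_singleton_iff.mpr (mem_centralizer_iff.mp (block_odd_fix C i (Em.mem z) fun δ hδ hδo => ?_) γ hγ)
      obtain ⟨h, rfl⟩ := hF.le i hδ
      obtain ⟨n, m, hm, hnm⟩ := Nat.exists_eq_pow_mul_and_not_dvd (orderOf_pos (h : G)).ne' 2 (by norm_num)
      have hmo : Odd m := Nat.not_even_iff_odd.mp fun he => hm he.two_dvd
      have hE' : ((h ^ 2 ^ n : ↥H) : G) ∈ E := hE ▸ subset_closure ⟨(h ^ 2 ^ n).2, by
        rw [coe_pow, orderOf_pow, hnm, Nat.gcd_mul_right_left, Nat.mul_div_cancel_left _ (Nat.two_pow_pos n)]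
        exact hmo⟩
      have h1 : φ h ^ 2 ^ n ∈ centralizer ({j z} : Set Γ) := by
        rw [← map_pow]
        exact mem_centralizer_singleton_iff.mpr (mul_inv_eq_iff_eq_mul.mp ((Em.fix_iff _ z).mpr
          (mul_inv_eq_iff_eq_mul.mpr (mem_centralizer_iff.mp hz _ hE'))))
      have h2 := mem_of_pows ((Nat.coprime_two_left.mpr hδo).pow_left n) h1
        (by rw [pow_orderOf_eq_one]; exact one_mem _)
      exact mul_inv_eq_iff_eq_mul.mpr (mem_centralizer_singleton_iff.mp h2)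
    exact mem_centralizer_singleton_iff.mp (hle (hXtF hx))
  obtain ⟨K2, hK2⟩ : ∃ K2, K2 = H ⊓ centralizer (C0 : Set G) := ⟨_, rfl⟩
  have hK2n : Nml H K2 := hK2 ▸ (nml_self H).inf hC0n.centralizer
  have hK2H : K2 ≤ H := hK2 ▸ inf_le_left
  have hEK2 : E ≤ K2 := hK2 ▸ le_inf hEH (le_centralizer_iff.mp (hC0 ▸ inf_le_right))
  have hFK2 : (⨆ i, F i) ≤ (K2.subgroupOf H).map φ := hFXt.trans (map_mono fun x hx => mem_subgroupOf.mpr
    (hK2.ge ⟨x.2, mem_centralizer_iff.mpr fun c hc' => by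
      obtain ⟨w, hw⟩ := hcov c (hC0U hc')
      have hcw := mul_mem (hC0U hc') (hU1U w.2)
      have hwE : (w : G) ∈ centralizer (E : Set G) := by
        have := mul_mem (inv_mem (mem_inf.mp (hC0.le hc')).2) (hfixE _ hcw hw)
        rwa [inv_mul_cancel_left] at this
      have h1 := mem_stab.mp (hw hx)
      have h2 := mem_stab.mp (hZfix w hwE hx)
      have h3 : (x : G) * c * (x : G)⁻¹ = c := by
        calc (x : G) * c * (x : G)⁻¹ = (x : G) * (c * w) * (x : G)⁻¹ * ((x : G) * w * (x : G)⁻¹)⁻¹ := by group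
          _ = _ := by rw [h1, h2]; group
      exact (mul_inv_eq_iff_eq_mul.mp h3).symm⟩))
  have hlift : ∀ i, Tb ⊓ F i ≤ ((T ⊓ K2).subgroupOf H).map φ := by
    intro i
    obtain ⟨Y, hY⟩ : ∃ Y, Y = Tb ⊓ (K2.subgroupOf H).map φ := ⟨_, rfl⟩
    refine le_trans (hY ▸ inf_le_inf_left _ ((le_iSup F i).trans hFK2) : Tb ⊓ F i ≤ Y) ?_
    refine eq_of_odd_index (PH.syl.2.1.to_le (hY ▸ inf_le_left)) fun hd => ?_
    have hsyl := Fail.sylow_inf_normal S.umax.syl hK2H hK2n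
    have hsub : ((T ⊓ K2).subgroupOf H).map φ ≤ Y := by
      rw [hY, hTb]
      exact le_inf (map_mono fun x hx => mem_subgroupOf.mpr (mem_subgroupOf.mp hx).1)
        (map_mono fun x hx => mem_subgroupOf.mpr (mem_subgroupOf.mp hx).2)
    have hd2 : 2 ∣ (((T ⊓ K2).subgroupOf H).map φ).relIndex ((K2.subgroupOf H).map φ) := by
      rw [← relIndex_mul_relIndex _ _ _ hsub (hY ▸ inf_le_right)]
      exact hd.mul_right _
    rw [← relIndex_comap] at hd2
    have hd3 := hd2.trans (relIndex_dvd_of_le_left _ (le_comap_map φ ((T ⊓ K2).subgroupOf H)))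
    rw [relIndex_subgroupOf hK2H] at hd3
    exact hsyl.2.2 hd3
  obtain ⟨A1, hA1⟩ : ∃ A1, A1 = (A ⊔ C0) ⊓ U1 := ⟨_, rfl⟩
  have hA1U : A1 ≤ U1 := hA1 ▸ inf_le_right
  have hA1T : Nml T A1 := hA1 ▸ ((Nml.of_norm S.TA).sup (hC0n.mono S.TH)).inf (hU1n.mono S.TH)
  have hsplit : ∀ x ∈ A, ∃ w ∈ A1, ∃ c ∈ C0, w * c = x := fun x hx => by
    obtain ⟨w, hw, c, hc', e⟩ := Grp.OffenderSL2.exists_mul_of_comm
      (fun w hw c hc' => S.comm w (hU1U hw) c (hC0U hc')) (hUC (S.A_le_U hx))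
    refine ⟨w, hA1 ▸ ⟨?_, hw⟩, c, hc', e⟩
    rw [show w = x * c⁻¹ by rw [← e]; group]
    exact mul_mem (mem_sup_left hx) (mem_sup_right (inv_mem hc'))
  have hcentA : ∀ g : G, g ∈ centralizer (C0 : Set G) → g ∈ centralizer (A1 : Set G) → g ∈ centralizer (A : Set G) :=
    fun g h1 h2 => mem_centralizer_iff.mpr fun x hx => by
      obtain ⟨w, hw, c, hc', rfl⟩ := hsplit x hx
      rw [mul_assoc, mem_centralizer_iff.mp h1 c hc', ← mul_assoc, mem_centralizer_iff.mp h2 w hw, mul_assoc]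
  obtain ⟨Wb, hWb⟩ : ∃ Wb, Wb = (A1.subgroupOf U1).map j := ⟨_, rfl⟩
  have hWV : Wb ≤ Vb := by rw [hWb]; rintro _ ⟨x, -, rfl⟩; exact Em.mem x
  have hWT : ∀ t ∈ Tb, ∀ w ∈ Wb, t * w * t⁻¹ ∈ Wb := by
    rw [hTb, hWb]
    rintro _ ⟨t, ht, rfl⟩ _ ⟨x, hx, rfl⟩
    rw [Em.conj t x (hU1n t t.2 x x.2)]
    exact mem_map_of_mem j (mem_subgroupOf.mpr (hA1T t (mem_subgroupOf.mp ht) x (mem_subgroupOf.mp hx)))
  by_cases hall : ∀ i, Tb ⊓ F i ≤ centralizer (Wb : Set Γ)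
  · right
    intro t ht
    have htH : t ∈ H := S.TH ht.1
    have hEF : E ≤ ((⨆ i, F i).comap φ).map H.subtype :=
      hE ▸ (closure_le _).mpr fun e he => ⟨⟨e, he.1⟩, hoddF ⟨e, he.1⟩ he.2, rfl⟩
    obtain ⟨t', ht', hte⟩ := hEF (hE ▸ ht.2)
    obtain rfl : t' = ⟨t, htH⟩ := Subtype.ext hte
    have h1 : φ ⟨t, htH⟩ ∈ centralizer (Wb : Set Γ) := iSup_le hall (inf_sup_le C
      (mem_inf.mpr ⟨hTb ▸ mem_map_of_mem φ (mem_subgroupOf.mpr ht.1), ht'⟩))
    rw [hWb] at h1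
    exact hcentA t (hK2.le (hEK2 (hE ▸ ht.2))).2 ((Em.mem_cent hA1U _).mp h1)
  left
  push Not at hall
  obtain ⟨i, hi⟩ := hall
  obtain ⟨Sb, hSb, hSc, hSs, hSne, hSq, hSfx⟩ := (block_witness C hXsq i hWV hWT).resolve_left hi
  obtain ⟨B', hB'⟩ : ∃ B', B' = (T ⊓ K2) ⊓ (Sb.comap φ).map H.subtype := ⟨_, rfl⟩
  have hB'H : B' ≤ H := hB' ▸ inf_le_right.trans (map_subtype_le _)
  have hmapB : (B'.subgroupOf H).map φ = Sb := by
    refine le_antisymm ?_ fun γ hγ => ?_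
    · rintro _ ⟨b, hb, rfl⟩
      obtain ⟨b', hb', e⟩ := (hB'.le (mem_subgroupOf.mp hb)).2
      rw [← show b' = b from Subtype.ext e]
      exact hb'
    · obtain ⟨t, ht, e⟩ := hlift i (hSb hγ)
      exact ⟨t, mem_subgroupOf.mpr (hB'.ge ⟨mem_subgroupOf.mp ht, ⟨t, mem_comap.mpr (e ▸ hγ), rfl⟩⟩), e⟩
  have hφB : ∀ b (hb : b ∈ B'), φ ⟨b, hB'H hb⟩ ∈ Sb := fun b hb =>
    hmapB.le (mem_map_of_mem φ (mem_subgroupOf.mpr hb : (⟨b, hB'H hb⟩ : ↥H) ∈ B'.subgroupOf H))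
  have hB'C : B' ≤ centralizer (C0 : Set G) := fun b hb => (hK2.le (hB'.le hb).1.2).2
  have hB'T : B' ≤ T := hB' ▸ inf_le_left.trans inf_le_left
  have hkerU : ∀ b : ↥H, (b : G) ∈ centralizer (C0 : Set G) → φ b = 1 → (b : G) ∈ centralizer (U : Set G) :=
    fun b h1 h2 => mem_centralizer_iff.mpr fun u hu => by
      obtain ⟨w, hw, c, hc', rfl⟩ := Grp.OffenderSL2.exists_mul_of_comm
        (fun w hw c hc' => S.comm w (hU1U hw) c (hC0U hc')) (hUC hu)
      rw [mul_assoc, mem_centralizer_iff.mp h1 c hc', ← mul_assoc, mem_centralizer_iff.mp ((Em.ker b).mp h2) w hw,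
        mul_assoc]
  have hAC : A ⊔ C0 = A1 ⊔ C0 := le_antisymm
    (sup_le (fun x hx => by
      obtain ⟨w, hw, c, hc', rfl⟩ := hsplit x hx
      exact mul_mem (mem_sup_left hw) (mem_sup_right hc')) le_sup_right)
    (sup_le (hA1 ▸ inf_le_left) le_sup_right)
  refine ⟨B', S.pT.to_le hB'T, hB'T.trans S.TA, fun h => hSne ?_, ⟨fun b hb => ?_, fun b hb b' hb' => ?_⟩, ?_, ?_⟩
  · rw [← hmapB, hWb]
    rintro _ ⟨b, hb, rfl⟩
    refine (Em.mem_cent hA1U b).mpr (mem_centralizer_iff.mpr fun x hx => ?_)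
    have hle : A ⊔ C0 ≤ centralizer ({(b : G)} : Set G) := sup_le
      (fun y hy => mem_centralizer_singleton_iff.mpr (mem_centralizer_iff.mp (h (mem_subgroupOf.mp hb)) y hy))
      fun y hy => mem_centralizer_singleton_iff.mpr (mem_centralizer_iff.mp (hB'C (mem_subgroupOf.mp hb)) y hy)
    exact mem_centralizer_singleton_iff.mp (hle (hA1.le hx).1)
  · refine centralizer_le (SetLike.coe_subset_coe.mpr S.A_le_U)
      (hkerU (⟨b, hB'H hb⟩ ^ 2) (pow_mem (hB'C hb) 2) ?_)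
    rw [map_pow, pow_two]; exact hSs _ (hφB b hb)
  · refine centralizer_le (SetLike.coe_subset_coe.mpr S.A_le_U) (hkerU ⁅(⟨b, hB'H hb⟩ : ↥H), ⟨b', hB'H hb'⟩⁆
      (mul_mem (mul_mem (mul_mem (hB'C hb) (hB'C hb')) (inv_mem (hB'C hb))) (inv_mem (hB'C hb'))) ?_)
    rw [map_commutatorElement, commutatorElement_eq_one_iff_mul_comm]
    exact hSc _ (hφB b hb) _ (hφB b' hb')
  · refine commutator_eq_bot_iff_le_centralizer.mpr (commutator_le.mpr fun x hx b hb => mem_centralizer_iff.mpr fun b' hb' => ?_)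
    obtain ⟨w, hw, c, hc', rfl⟩ := hsplit x hx
    have hcb : ⁅c, b⁆ = 1 := commutatorElement_eq_one_iff_mul_comm.mpr (mem_centralizer_iff.mp (hB'C hb) c hc')
    rw [show ⁅w * c, b⁆ = w * ⁅c, b⁆ * w⁻¹ * ⁅w, b⁆ by simp only [commutatorElement_def]; group, hcb, mul_one,
      mul_inv_cancel, one_mul]
    have hwU := hA1U hw
    have hwb : b * w⁻¹ * b⁻¹ ∈ U1 := hU1n b (hB'H hb) _ (inv_mem hwU)
    have e1 : ⁅w, b⁆ = w * (b * w⁻¹ * b⁻¹) := by rw [commutatorElement_def]; group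
    rw [e1]
    refine mul_inv_eq_iff_eq_mul.mp ((Em.fix_iff ⟨b', hB'H hb'⟩ (⟨w, hwU⟩ * ⟨b * w⁻¹ * b⁻¹, hwb⟩)).mp ?_)
    have hjb : j ⟨b * w⁻¹ * b⁻¹, hwb⟩ = φ ⟨b, hB'H hb⟩ * (j ⟨w, hwU⟩)⁻¹ * (φ ⟨b, hB'H hb⟩)⁻¹ := by
      rw [← map_inv]
      exact (Em.conj ⟨b, hB'H hb⟩ (⟨w, hwU⟩ : ↥U1)⁻¹ hwb).symm
    have e2 : j (⟨w, hwU⟩ * ⟨b * w⁻¹ * b⁻¹, hwb⟩) = ⁅j ⟨w, hwU⟩, φ ⟨b, hB'H hb⟩⁆ := by
      rw [map_mul, hjb, commutatorElement_def]; group
    rw [e2]
    exact hSq _ (hWb ▸ mem_map_of_mem j (mem_subgroupOf.mpr hw : (⟨w, hwU⟩ : ↥U1) ∈ A1.subgroupOf U1)) _ (hφB b hb) _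
      (hφB b' hb')
  · obtain ⟨K, hK⟩ : ∃ K, K = centralizer (B' : Set G) ⊓ (A1 ⊔ C0) := ⟨_, rfl⟩
    have hKU : K ≤ U := hK ▸ inf_le_right.trans (sup_le (hA1U.trans hU1U) hC0U)
    have hC0K : C0 ≤ K := hK ▸ le_inf (le_centralizer_iff.mp hB'C) le_sup_right
    have hfx : fx A B' ≤ fx Wb Sb := by
      have hKn : K ≤ normalizer (A1 : Set G) := fun x hx => mem_normalizer_fintype fun y hy => by
        rw [S.comm x (hKU hx) y (hU1U (hA1U hy)), mul_inv_cancel_right]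
        exact hy
      have hAK : A1 ⊔ K = A1 ⊔ C0 :=
        le_antisymm (sup_le le_sup_left (hK ▸ inf_le_right)) (sup_le le_sup_left (hC0K.trans le_sup_right))
      have e1 : (centralizer (B' : Set G)).relIndex A1 = fx Wb Sb := by
        have e : Wb ⊓ centralizer (Sb : Set Γ) = ((centralizer (B' : Set G) ⊓ A1).subgroupOf U1).map j := by
          refine le_antisymm ?_ ?_
          · rintro _ ⟨hw, hc'⟩
            obtain ⟨x, hx, rfl⟩ := hWb.le hw
            refine mem_map_of_mem j (mem_subgroupOf.mpr ⟨mem_centralizer_iff.mpr fun b hb => ?_, mem_subgroupOf.mp hx⟩)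
            exact mul_inv_eq_iff_eq_mul.mp ((Em.fix_iff ⟨b, hB'H hb⟩ x).mp
              (mul_inv_eq_iff_eq_mul.mpr (mem_centralizer_iff.mp hc' _ (hφB b hb))))
          · rintro _ ⟨x, hx, rfl⟩
            obtain ⟨hx1, hx2⟩ := mem_subgroupOf.mp hx
            refine ⟨hWb ▸ mem_map_of_mem j (mem_subgroupOf.mpr hx2), mem_centralizer_iff.mpr ?_⟩
            intro γ hγ
            obtain ⟨b, hb, rfl⟩ := hmapB.ge hγ
            exact mul_inv_eq_iff_eq_mul.mp ((Em.fix_iff b x).mpr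
              (mul_inv_eq_iff_eq_mul.mpr (mem_centralizer_iff.mp hx1 _ (mem_subgroupOf.mp hb))))
        rw [fx, e, hWb, relIndex_map_map_of_injective _ _ Em.inj, relIndex_subgroupOf hA1U, inf_relIndex_right]
      calc fx A B' = (centralizer (B' : Set G)).relIndex A := by rw [fx, inf_comm, inf_relIndex_right]
        _ ≤ (centralizer (B' : Set G)).relIndex (A1 ⊔ C0) :=
          relIndex_le_of_le_right (le_sup_left.trans hAC.le) (rel_ne _ _)
        _ = K.relIndex (A1 ⊔ K) := by rw [hAK, hK, inf_relIndex_right]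
        _ = K.relIndex A1 := relIndex_sup_eq hKn
        _ = (centralizer (B' : Set G)).relIndex A1 := by
          rw [hK, ← inf_relIndex_right, inf_assoc, inf_eq_right.mpr (le_sup_left : A1 ≤ A1 ⊔ C0),
            inf_relIndex_right]
        _ = _ := e1
    have hcx : cx Wb Sb ≤ cx A B' := by
      have e : (centralizer (Wb : Set Γ)).comap φ = (centralizer (A1 : Set G)).subgroupOf H := by
        ext h; rw [mem_comap, hWb, Em.mem_cent hA1U, mem_subgroupOf]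
      rw [cx, ← hmapB, ← relIndex_comap, e, relIndex_subgroupOf hB'H, cx, ← inf_relIndex_right (centralizer (A1 : Set G)),
        ← inf_relIndex_right (centralizer (A : Set G))]
      refine relIndex_le_of_le_left (le_inf ?_ inf_le_right) (rel_ne _ _)
      intro b hb
      have hle : A ⊔ C0 ≤ centralizer ({b} : Set G) := sup_le
        (fun y hy => mem_centralizer_singleton_iff.mpr (mem_centralizer_iff.mp hb.1 y hy))
        fun y hy => mem_centralizer_singleton_iff.mpr (mem_centralizer_iff.mp (hB'C hb.2) y hy)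
      exact mem_centralizer_iff.mpr fun x hx => mem_centralizer_singleton_iff.mp (hle (hA1.le hx).1)
    exact hfx.trans (hSfx.trans (Nat.pow_le_pow_left hcx 2))

end Cfsg.Agent.Transfer.QRC
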