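import Cfsg.Agent.Lib.Transfer.QRC.Escape

/-!
# The case `V` outside the core

Descending through groups with one maximal overgroup of a Sylow 2-subgroup gives a quadratic or cubic witness on a
conjugate of `V`.
-/

set_option autoImplicit false
set_option linter.unusedSectionVars false
set_option linter.style.haveILetI false

open scoped commutatorElement

namespace Cfsg.Agent.Transfer.QRC

open Subgroup

universe u

variable {G : Type u} [Group G] [Finite G]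

/-- A proper subgroup of a 2-group grows inside its normalizer. -/
theorem exists_grow {P D : Subgroup G} (hP : IsPGroup 2 P) (hDP : D ≤ P) (hne : D ≠ P) :
    ∃ e ∈ P, e ∉ D ∧ e ∈ normalizer (D : Set G) := by
  haveI : Fact (Nat.Prime 2) := ⟨Nat.prime_two⟩
  haveI := hP.isNilpotent
  have hlt : D.subgroupOf P < ⊤ := lt_top_iff_ne_top.mpr fun h => hne (le_antisymm hDP (subgroupOf_eq_top.mp h))
  obtain ⟨⟨e, he⟩, hen, heD⟩ := SetLike.exists_of_lt (Group.normalizerCondition_of_isNilpotent _ hlt)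
  refine ⟨e, he, fun h => heD (mem_subgroupOf.mpr h), mem_normalizer_fintype fun x hx => ?_⟩
  exact mem_subgroupOf.mp ((mem_normalizer_iff.mp hen ⟨x, hDP hx⟩).mp (mem_subgroupOf.mpr hx))

/-- The involutions of `Z(O₂(H))` are fixed by the residual, or `V` has a quadratic witness. -/
theorem omega_fixed {T : Sylow 2 G} {H Mc V : Subgroup G} (Um : UMax H (T : Subgroup G) Mc)
    (hTV : (T : Subgroup G) ≤ normalizer (V : Set G)) (hVT : V ≤ (T : Subgroup G))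
    (hVc : ∀ a ∈ V, ∀ b ∈ V, a * b = b * a) (hVO : ¬ V ≤ core2 H) :
    QTarget V ∨ ∀ x ∈ core2 H, x ∈ centralizer (core2 H : Set G) → x * x = 1 → x ∈ centralizer (odd H : Set G) := by
  obtain ⟨O, hO⟩ : ∃ O, O = core2 H := ⟨_, rfl⟩
  have hOH : O ≤ H := hO ▸ core2_le H
  have hOn : Nml H O := hO ▸ core2_norm H
  have hOc : ∀ a ∈ O ⊓ centralizer (O : Set G), ∀ b ∈ O ⊓ centralizer (O : Set G), a * b = b * a := fun a ha b hb =>
    (mem_centralizer_iff.mp ha.2 b hb.1).symm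
  obtain ⟨X, hX⟩ : ∃ X : Subgroup G, ∀ x, x ∈ X ↔ x ∈ O ⊓ centralizer (O : Set G) ∧ x * x = 1 :=
    ⟨{ carrier := {x | x ∈ O ⊓ centralizer (O : Set G) ∧ x * x = 1}
       one_mem' := ⟨one_mem _, one_mul 1⟩
       mul_mem' := fun {a b} ha hb => ⟨mul_mem ha.1 hb.1, by
         rw [mul_assoc, ← mul_assoc b, hOc b hb.1 a ha.1, mul_assoc, hb.2, mul_one, ha.2]⟩
       inv_mem' := fun {a} ha => ⟨inv_mem ha.1, by rw [← mul_inv_rev, ha.2, inv_one]⟩ }, fun _ => Iff.rfl⟩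
  have hXn : Nml H X := fun h hh x hx => (hX _).mpr ⟨(hOn.inf hOn.centralizer) h hh x ((hX x).mp hx).1, by
    rw [show h * x * h⁻¹ * (h * x * h⁻¹) = h * (x * x) * h⁻¹ by group, ((hX x).mp hx).2, mul_one, mul_inv_cancel]⟩
  have hXO : X ≤ O := fun x hx => ((hX x).mp hx).1.1
  have hXc : ∀ a ∈ X, ∀ b ∈ X, a * b = b * a := fun a ha b hb => hOc a ((hX a).mp ha).1 b ((hX b).mp hb).1
  have hXs : ∀ a ∈ X, a * a = 1 := fun a ha => ((hX a).mp ha).2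
  rw [← hO] at hVO ⊢
  by_cases hfix : ⁅X, odd H⁆ ≤ ⊥
  · exact .inr fun x hx hxc hxs => commutator_eq_bot_iff_le_centralizer.mp (le_bot_iff.mp hfix)
      ((hX x).mpr ⟨⟨hx, hxc⟩, hxs⟩)
  left
  have hOX : ⁅X, O⁆ = ⊥ := commutator_eq_bot_iff_le_centralizer.mpr fun x hx => ((hX x).mp hx).1.2
  have hub := upper_bound Um (W := ⊥) (X := X) (B := V) bot_le (hXO.trans hOH)
    (fun h _ x hx => by rw [mem_bot.mp hx]; simp) hXn
    (fun x hx y hy => mem_bot.mpr (commutatorElement_eq_one_iff_mul_comm.mpr (hXc x hx y hy)))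
    (fun x hx => mem_bot.mpr (hXs x hx)) (hO ▸ hOX.le) hfix hVT
    (fun b hb b' hb' x _ => mem_bot.mpr (by
      rw [commutatorElement_eq_one_iff_mul_comm.mpr (hVc b hb b' hb'), commutatorElement_one_left]))
  rw [sup_bot_eq, ← hO] at hub
  have hfx : fx V X ≤ (V ⊓ O).relIndex V :=
    relIndex_le_of_le_left (inf_le_inf_left _ (commutator_eq_bot_iff_le_centralizer.mp (commutator_comm O X ▸ hOX)))
      (rel_ne _ _)
  have hcx : cx V X = fx X V := by rw [cx_eq]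
  refine ⟨X, (hO ▸ core2_isPGroup H : IsPGroup 2 O).to_le hXO, (hXO.trans (hO ▸ Um.core_le)).trans hTV,
    fun hle => hVO ?_, .of_comm hXc hXs, ?_, hfx.trans (hub.trans (hcx ▸ Nat.le_self_pow two_ne_zero _))⟩
  · have h1 : fx X V = 1 := by rw [← hcx]; exact relIndex_eq_one.mpr hle
    have h2 := relIndex_eq_one.mp (le_antisymm (hub.trans h1.le) (Nat.pos_of_ne_zero (rel_ne _ _)))
    exact h2.trans inf_le_right
  · refine commutator_eq_bot_iff_le_centralizer.mpr (commutator_le.mpr fun v hv x hx => mem_centralizer_iff.mpr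
      fun x' hx' => hXc x' hx' _ ?_)
    rw [commutatorElement_def, show v * x * v⁻¹ * x⁻¹ = (v * x * v⁻¹) * x⁻¹ by group]
    exact mul_mem (hXn v (Um.TH (hVT hv)) x hx) (inv_mem hx)

/-- The fixed setting. -/
structure Hat (T : Sylow 2 G) (H Mc V Vh : Subgroup G) : Prop where
  even : Cfsg.IsOfEvenCharacteristic G
  um : UMax H (T : Subgroup G) Mc
  core_ne : core2 H ≠ ⊥
  TV : (T : Subgroup G) ≤ normalizer (V : Set G)
  le : ∀ m ∈ Mc, cjg m V ≤ Vh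
  vT : Vh ≤ (T : Subgroup G)
  nml : Nml Mc Vh
  comm : ∀ a ∈ Vh, ∀ b ∈ Vh, a * b = b * a
  sq : ∀ a ∈ Vh, a * a = 1
  omega : ∀ x ∈ core2 H, x ∈ centralizer (core2 H : Set G) → x * x = 1 → x ∈ centralizer (odd H : Set G)

/-- A group on the way down. -/
structure CX (T : Sylow 2 G) (H Mc V Vh X TX MX : Subgroup G) (m : G) : Prop where
  um : UMax X TX MX
  XH : X ≤ H
  OX : core2 H ≤ X
  vTX : Vh ≤ TX
  MMc : MX ≤ Mc
  hm : m ∈ Mc
  Tm : TX ≤ cjg m (T : Subgroup G)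
  out : ¬ cjg m V ≤ core2 X

variable {T : Sylow 2 G} {H Mc V Vh X TX MX : Subgroup G} {m : G}

theorem CX.core_le (C : CX T H Mc V Vh X TX MX m) : core2 H ≤ core2 X :=
  le_core2 C.OX (core2_isPGroup H) fun g hg => core2_norm H g (C.XH hg)

theorem CX.TX_norm (Ht : Hat T H Mc V Vh) (C : CX T H Mc V Vh X TX MX m) :
    TX ≤ normalizer ((cjg m V : Subgroup G) : Set G) := C.Tm.trans (le_normalizer_cjg Ht.TV)

theorem CX.A_le (Ht : Hat T H Mc V Vh) (C : CX T H Mc V Vh X TX MX m) : cjg m V ≤ TX :=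
  (Ht.le m C.hm).trans C.vTX

/-- The bottom: every proper subgroup over `Vh O₂(H)` lies in `MX`. -/
theorem CX.base (Ht : Hat T H Mc V Vh) (C : CX T H Mc V Vh X TX MX m)
    (hall : ∀ Y : Subgroup G, Vh ⊔ core2 H ≤ Y → Y < X → Y ≤ MX) : CTarget (cjg m V) := by
  classical
  obtain ⟨A, hA⟩ : ∃ A, A = cjg m V := ⟨_, rfl⟩
  obtain ⟨R, hR⟩ : ∃ R, R = core2 X := ⟨_, rfl⟩
  obtain ⟨O, hO⟩ : ∃ O, O = core2 H := ⟨_, rfl⟩
  have hTXn : TX ≤ normalizer (A : Set G) := hA ▸ C.TX_norm Ht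
  have hout : ¬ A ≤ R := hA ▸ hR ▸ C.out
  have hAV : A ≤ Vh := hA ▸ Ht.le m C.hm
  have hOR : O ≤ R := hO ▸ hR ▸ C.core_le
  have hRT : R ≤ TX := hR ▸ C.um.core_le
  have hRX : R ≤ X := hR ▸ core2_le X
  have hRn : Nml X R := hR ▸ core2_norm X
  have hVX : Vh ≤ X := C.vTX.trans C.um.TH
  have hMXn : ¬ Nml X MX := fun hn => hout ((hA ▸ C.A_le Ht : A ≤ TX).trans
    ((le_inf le_rfl C.um.TM).trans (hR ▸ C.um.inf_le_core le_rfl hn)))
  rw [← hA]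
  rw [← hO] at hall
  have hgen : ∀ y ∈ X, y ∉ MX → Vh ⊔ cjg y Vh ⊔ O = X := by
    intro y hy hyM
    have hle : Vh ⊔ cjg y Vh ⊔ O ≤ X :=
      sup_le (sup_le hVX (cjg_le.mpr fun x hx => mul_mem (mul_mem hy (hVX hx)) (inv_mem hy))) (hO ▸ C.OX)
    by_contra hne
    have h1 : cjg y Vh ≤ MX := (le_sup_right.trans le_sup_left).trans
      (hall _ (sup_le_sup_right le_sup_left _) (lt_of_le_of_ne hle hne))
    have hOc : cjg y⁻¹ O = O :=
      cjg_of_norm ((hO ▸ core2_norm H : Nml H O).le_norm (inv_mem (C.XH hy)))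
    have h2 : Vh ⊔ O ≤ cjg y⁻¹ MX := by
      refine sup_le ?_ (hOc.ge.trans (cjg_mono _ ((hOR.trans hRT).trans C.um.TM)))
      have := cjg_mono y⁻¹ h1
      rwa [cjg_inv_cjg] at this
    have h3 : cjg y⁻¹ MX ≤ MX := by
      refine hall _ h2 (lt_of_le_of_ne (cjg_le.mpr fun x hx => mul_mem (mul_mem (inv_mem hy) (C.um.MH.le hx))
        (inv_mem (inv_mem hy))) fun e => C.um.MH.ne ?_)
      refine eq_of_le_of_card_ge C.um.MH.le (le_of_eq ?_)
      rw [← e, cjg, card_map_of_injective (MulAut.conj y⁻¹).injective]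
    have h4 : y⁻¹ ∈ normalizer (MX : Set G) := mem_normalizer_fintype fun x hx => h3 (conj_mem_cjg hx)
    have h5 : X ⊓ normalizer (MX : Set G) ≤ MX := by
      refine C.um.uniq _ (le_inf C.um.TH (C.um.TM.trans le_normalizer)) (lt_of_le_of_ne inf_le_left fun e => hMXn ?_)
      exact Nml.of_norm (e.ge.trans inf_le_right)
    exact hyM (by simpa using MX.inv_mem (h5 (mem_inf.mpr ⟨X.inv_mem hy, h4⟩)))
  have hEM : ¬ odd X ≤ MX := C.um.not_odd_le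
  have hmovO : ¬ ⁅O, odd X⁆ ≤ ⊥ := fun h => hEM ((closure_le _).mpr fun x hx => by
    have h1 : x ∈ H ⊓ centralizer (O : Set G) :=
      ⟨C.XH hx.1, (le_centralizer_iff.mp (commutator_eq_bot_iff_le_centralizer.mp (le_bot_iff.mp h))) (subset_closure hx)⟩
    have h2 : x ∈ O := hO ▸ charTwo_over Ht.even T Ht.um.TH Ht.core_ne (hO ▸ h1)
    exact C.um.TM (hRT (hOR h2)))
  obtain ⟨W0, Xl, -, hW0X, hXlO, hW0n, hXln, hW0R, hW0E, hmin⟩ :=
    exists_layer (P := R) (X := O) (W := ⊥) (hR ▸ core2_isPGroup X) hRX hRn hOR bot_le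
      (fun h _ x hx => by rw [mem_bot.mp hx]; simp) ((hO ▸ core2_norm H : Nml H O).mono C.XH) hmovO
  have hXlX : Xl ≤ X := (hXlO.trans hOR).trans hRX
  have hXlp : IsPGroup 2 Xl := (hO ▸ core2_isPGroup H : IsPGroup 2 O).to_le hXlO
  obtain ⟨W, hW⟩ : ∃ W : Subgroup G, ∀ x, x ∈ W ↔ x ∈ Xl ∧ ∀ e ∈ odd X, ⁅x, e⁆ ∈ W0 :=
    ⟨{ carrier := {x | x ∈ Xl ∧ ∀ e ∈ odd X, ⁅x, e⁆ ∈ W0}
       one_mem' := ⟨one_mem _, fun e _ => by rw [commutatorElement_one_left]; exact one_mem _⟩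
       mul_mem' := fun {a b} ha hb => ⟨mul_mem ha.1 hb.1, fun e he => by
         rw [show ⁅a * b, e⁆ = a * ⁅b, e⁆ * a⁻¹ * ⁅a, e⁆ by simp only [commutatorElement_def]; group]
         exact mul_mem (hW0n a (hXlX ha.1) _ (hb.2 e he)) (ha.2 e he)⟩
       inv_mem' := fun {a} ha => ⟨inv_mem ha.1, fun e he => by
         rw [show ⁅a⁻¹, e⁆ = a⁻¹ * ⁅a, e⁆⁻¹ * a⁻¹⁻¹ by simp only [commutatorElement_def]; group]
         exact hW0n _ (inv_mem (hXlX ha.1)) _ (inv_mem (ha.2 e he))⟩ }, fun _ => Iff.rfl⟩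
  have hWX : W ≤ Xl := fun x hx => ((hW x).mp hx).1
  have hW0W : W0 ≤ W := fun x hx => (hW x).mpr ⟨hW0X hx, fun e he =>
    commutator_le_of_nml hW0n (oddGenerated_le X) (commutator_mem_commutator hx he)⟩
  have hWn : Nml X W := fun g hg x hx => (hW _).mpr ⟨hXln g hg x ((hW x).mp hx).1, fun e he => by
    rw [show ⁅g * x * g⁻¹, e⁆ = g * ⁅x, g⁻¹ * e * g⁻¹⁻¹⁆ * g⁻¹ by simp only [commutatorElement_def]; group]
    exact hW0n g hg _ (((hW x).mp hx).2 _ (odd_nml X _ (inv_mem hg) e he))⟩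
  have hWE : ⁅W, odd X⁆ ≤ W0 := commutator_le.mpr fun x hx e he => ((hW x).mp hx).2 e he
  have hWR : ⁅Xl, R⁆ ≤ W := hW0R.trans hW0W
  have hWmov : ¬ ⁅Xl, odd X⁆ ≤ W := fun h => hW0E (by
    rw [← comm_odd_idem hXln hXlp]; exact (commutator_mono h le_rfl).trans hWE)
  have hWrad : ∀ Y : Subgroup G, Y ≤ Xl → Nml X Y → ⁅Y, odd X⁆ ≤ W → Y ≤ W := fun Y hY hYn h x hx =>
    (hW x).mpr ⟨hY hx, fun e he => by
      have h2 : ⁅Y, odd X⁆ ≤ W0 := by
        rw [← comm_odd_idem hYn (hXlp.to_le hY)]; exact (commutator_mono h le_rfl).trans hWE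
      exact h2 (commutator_mem_commutator hx he)⟩
  -- conjugates of `Vh` act quadratically on the layer
  have hXlM : Xl ≤ Mc := ((hXlO.trans hOR).trans hRT).trans (C.um.TM.trans C.MMc)
  have hXV : ⁅Xl, Vh⁆ ≤ Vh := by
    rw [commutator_comm]; exact commutator_le_of_nml Ht.nml hXlM
  have hXVy : ∀ y ∈ X, ⁅Xl, cjg y Vh⁆ ≤ cjg y Vh := fun y hy => by
    have e : cjg y Xl = Xl := cjg_of_norm (hXln.le_norm hy)
    conv_lhs => rw [← e]
    rw [cjg, cjg, ← map_commutator]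
    exact map_mono hXV
  have hfixS : ∀ {Y : Subgroup G}, Y ≤ X → ∃ C1 : Subgroup G, ∀ x, x ∈ C1 ↔ x ∈ Xl ∧ ∀ v ∈ Y, ⁅x, v⁆ ∈ W :=
    fun {Y} _ =>
    ⟨{ carrier := {x | x ∈ Xl ∧ ∀ v ∈ Y, ⁅x, v⁆ ∈ W}
       one_mem' := ⟨one_mem _, fun e _ => by rw [commutatorElement_one_left]; exact one_mem _⟩
       mul_mem' := fun {a b} ha hb => ⟨mul_mem ha.1 hb.1, fun e he => by
         rw [show ⁅a * b, e⁆ = a * ⁅b, e⁆ * a⁻¹ * ⁅a, e⁆ by simp only [commutatorElement_def]; group]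
         exact mul_mem (hWn a (hXlX ha.1) _ (hb.2 e he)) (ha.2 e he)⟩
       inv_mem' := fun {a} ha => ⟨inv_mem ha.1, fun e he => by
         rw [show ⁅a⁻¹, e⁆ = a⁻¹ * ⁅a, e⁆⁻¹ * a⁻¹⁻¹ by simp only [commutatorElement_def]; group]
         exact hWn _ (inv_mem (hXlX ha.1)) _ (inv_mem (ha.2 e he))⟩ }, fun _ => Iff.rfl⟩
  -- an element fixed modulo `W` by generators is in `W`
  have hfixed : ∀ (w : G) (S : Subgroup G), w ∈ Xl → (∀ g ∈ S, g ∈ X → ⁅w, g⁆ ∈ W) →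
      ∀ Gen : Subgroup G, Gen ≤ X → (∀ g ∈ Gen, ⁅w, g⁆ ∈ W) → Gen = X → w ∈ W := by
    intro w S hw _ Gen _ hfix hGX
    subst hGX
    refine (hWrad (closure {z | ∃ g ∈ Gen, z = g * w * g⁻¹}) ((closure_le _).mpr ?_) ?_ ?_) ?_
    · rintro _ ⟨g, hg, rfl⟩; exact hXln g hg w hw
    · intro g hg z hz
      exact ((closure_le _).mpr (by
        rintro _ ⟨h, hh, rfl⟩
        exact subset_closure ⟨g * h, mul_mem hg hh, by simp [mul_assoc]⟩) :
        closure {z | ∃ g ∈ Gen, z = g * w * g⁻¹} ≤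
          (closure {z | ∃ g ∈ Gen, z = g * w * g⁻¹}).comap (MulAut.conj g).toMonoidHom) hz
    · refine commutator_le.mpr fun z hz e he => ?_
      obtain ⟨K, hK⟩ := hfixS (Y := odd Gen) (oddGenerated_le Gen)
      have hle : closure {z | ∃ g ∈ Gen, z = g * w * g⁻¹} ≤ K := (closure_le _).mpr (by
        rintro _ ⟨g, hg, rfl⟩
        refine (hK _).mpr ⟨hXln g hg w hw, fun e he => ?_⟩
        rw [show ⁅g * w * g⁻¹, e⁆ = g * ⁅w, g⁻¹ * e * g⁻¹⁻¹⁆ * g⁻¹ by simp only [commutatorElement_def]; group]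
        exact hWn g hg _ (hfix _ (oddGenerated_le Gen (odd_nml Gen _ (inv_mem hg) e he))))
      exact ((hK z).mp (hle hz)).2 e he
    · exact subset_closure ⟨1, one_mem _, by group⟩
  have hsupfix : ∀ (w : G), w ∈ Xl → ∀ P1 P2 : Subgroup G, P1 ≤ X → P2 ≤ X → (∀ g ∈ P1, ⁅w, g⁆ ∈ W) →
      (∀ g ∈ P2, ⁅w, g⁆ ∈ W) → ∀ g ∈ P1 ⊔ P2, ⁅w, g⁆ ∈ W := by
    intro w hw P1 P2 h1X h2X h1 h2
    obtain ⟨K, hK⟩ : ∃ K : Subgroup G, ∀ g, g ∈ K ↔ g ∈ X ∧ ⁅w, g⁆ ∈ W :=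
      ⟨{ carrier := {g | g ∈ X ∧ ⁅w, g⁆ ∈ W}
         one_mem' := ⟨one_mem _, by rw [commutatorElement_one_right]; exact one_mem _⟩
         mul_mem' := fun {a b} ha hb => ⟨mul_mem ha.1 hb.1, by
           rw [show ⁅w, a * b⁆ = ⁅w, a⁆ * (a * ⁅w, b⁆ * a⁻¹) by simp only [commutatorElement_def]; group]
           exact mul_mem ha.2 (hWn a ha.1 _ hb.2)⟩
         inv_mem' := fun {a} ha => ⟨inv_mem ha.1, by
           rw [show ⁅w, a⁻¹⁆ = a⁻¹ * ⁅w, a⁆⁻¹ * a⁻¹⁻¹ by simp only [commutatorElement_def]; group]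
           exact hWn _ (inv_mem ha.1) _ (inv_mem ha.2)⟩ }, fun _ => Iff.rfl⟩
    exact fun g hg => ((hK g).mp ((sup_le (fun a ha => (hK a).mpr ⟨h1X ha, h1 a ha⟩)
      (fun a ha => (hK a).mpr ⟨h2X ha, h2 a ha⟩) : P1 ⊔ P2 ≤ K) hg)).2
  have hOfix : ∀ w ∈ Xl, ∀ g ∈ O, ⁅w, g⁆ ∈ W := fun w hw g hg => hWR (commutator_mem_commutator hw (hOR hg))
  have hOX : O ≤ X := hOR.trans hRX
  have hcjX : ∀ y ∈ X, cjg y Vh ≤ X := fun y hy =>
    cjg_le.mpr fun x hx => mul_mem (mul_mem hy (hVX hx)) (inv_mem hy)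
  -- the layer is the product of the two fixed spaces
  have hcap : ∀ y ∈ X, y ∉ MX → ∀ w ∈ Xl, (∀ v ∈ Vh, ⁅w, v⁆ ∈ W) → (∀ v ∈ cjg y Vh, ⁅w, v⁆ ∈ W) → w ∈ W :=
    fun y hy hyM w hw h1 h2 => hfixed w ⊥ hw (fun g hg _ => by rw [mem_bot.mp hg, commutatorElement_one_right]; exact one_mem _)
      _ le_rfl (fun g hg => hsupfix w hw (Vh ⊔ cjg y Vh) O (sup_le hVX (hcjX y hy)) hOX
        (hsupfix w hw Vh (cjg y Vh) hVX (hcjX y hy) h1 h2) (hOfix w hw) g ((hgen y hy hyM).ge hg)) rfl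
  have hC1 : ∀ x ∈ ⁅Xl, Vh⁆, x ∈ Xl ∧ ∀ v ∈ Vh, ⁅x, v⁆ ∈ W := fun x hx =>
    ⟨commutator_le_of_nml hXln hVX hx, fun v hv => by
      rw [commutatorElement_eq_one_iff_mul_comm.mpr (Ht.comm x (hXV hx) v hv)]; exact one_mem _⟩
  have hC2 : ∀ y ∈ X, ∀ x ∈ ⁅Xl, cjg y Vh⁆, x ∈ Xl ∧ ∀ v ∈ cjg y Vh, ⁅x, v⁆ ∈ W := fun y hy x hx => by
    refine ⟨commutator_le_of_nml hXln (hcjX y hy) hx, fun v hv => ?_⟩
    obtain ⟨a, ha, e1⟩ := hXVy y hy hx
    obtain ⟨b, hb, e2⟩ := hv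
    rw [commutatorElement_eq_one_iff_mul_comm.mpr (by rw [← e1, ← e2, ← map_mul, ← map_mul, Ht.comm a ha b hb])]
    exact one_mem _
  have hsplit : ∀ y ∈ X, y ∉ MX → ∀ x ∈ Xl, ∃ c1 c2 : G, c1 * c2 = x ∧ (c1 ∈ Xl ∧ ∀ v ∈ Vh, ⁅c1, v⁆ ∈ W) ∧
      (c2 ∈ Xl ∧ ∀ v ∈ cjg y Vh, ⁅c2, v⁆ ∈ W) := by
    intro y hy hyM
    obtain ⟨C1, hC1'⟩ := hfixS (Y := Vh) hVX
    obtain ⟨C2, hC2'⟩ := hfixS (Y := cjg y Vh) (hcjX y hy)
    obtain ⟨N, hN⟩ : ∃ N, N = W ⊔ ⁅Xl, Vh⁆ ⊔ ⁅Xl, cjg y Vh⁆ := ⟨_, rfl⟩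
    have hNX : N ≤ Xl := hN ▸ sup_le (sup_le hWX (commutator_le_of_nml hXln hVX))
      (commutator_le_of_nml hXln (hcjX y hy))
    have hXN : ∀ g ∈ X, ∀ x ∈ Xl, ⁅x, g⁆ ∈ N := by
      obtain ⟨K, hK⟩ : ∃ K : Subgroup G, ∀ g, g ∈ K ↔ g ∈ X ∧ g ∈ normalizer (N : Set G) ∧ ∀ x ∈ Xl, ⁅x, g⁆ ∈ N :=
        ⟨{ carrier := {g | g ∈ X ∧ g ∈ normalizer (N : Set G) ∧ ∀ x ∈ Xl, ⁅x, g⁆ ∈ N}
           one_mem' := ⟨one_mem _, one_mem _, fun x _ => by rw [commutatorElement_one_right]; exact one_mem _⟩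
           mul_mem' := fun {a b} ha hb => ⟨mul_mem ha.1 hb.1, mul_mem ha.2.1 hb.2.1, fun x hx => by
             rw [show ⁅x, a * b⁆ = ⁅x, a⁆ * (a * ⁅x, b⁆ * a⁻¹) by simp only [commutatorElement_def]; group]
             exact mul_mem (ha.2.2 x hx) ((mem_normalizer_iff.mp ha.2.1 _).mp (hb.2.2 x hx))⟩
           inv_mem' := fun {a} ha => ⟨inv_mem ha.1, inv_mem ha.2.1, fun x hx => by
             rw [show ⁅x, a⁻¹⁆ = a⁻¹ * ⁅x, a⁆⁻¹ * a⁻¹⁻¹ by simp only [commutatorElement_def]; group]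
             exact (mem_normalizer_iff.mp (inv_mem ha.2.1) _).mp (inv_mem (ha.2.2 x hx))⟩ }, fun _ => Iff.rfl⟩
      have hone : ∀ g ∈ X, (∀ x ∈ Xl, ⁅x, g⁆ ∈ N) → g ∈ K := fun g hg h => by
        refine (hK g).mpr ⟨hg, mem_normalizer_fintype fun z hz => ?_, h⟩
        rw [show g * z * g⁻¹ = ⁅z, g⁆⁻¹ * z by simp only [commutatorElement_def]; group]
        exact mul_mem (inv_mem (h z (hNX hz))) hz
      have hX : X ≤ K := (hgen y hy hyM).ge.trans (sup_le (sup_le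
        (fun g hg => hone g (hVX hg) fun x hx =>
          hN ▸ mem_sup_left (mem_sup_right (commutator_mem_commutator hx hg)))
        (fun g hg => hone g (hcjX y hy hg) fun x hx => hN ▸ mem_sup_right (commutator_mem_commutator hx hg)))
        fun g hg => hone g (hOX hg) fun x hx => hN ▸ mem_sup_left (mem_sup_left (hOfix x hx g hg)))
      exact fun g hg => ((hK g).mp (hX hg)).2.2
    have hNeq : N = Xl := by
      by_contra hne
      have hNn : Nml X N := fun g hg z hz => by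
        rw [show g * z * g⁻¹ = ⁅z, g⁆⁻¹ * z by simp only [commutatorElement_def]; group]
        exact mul_mem (inv_mem (hXN g hg z (hNX hz))) hz
      refine hWmov ?_
      rw [← comm_odd_idem hXln hXlp]
      exact (commutator_mono (commutator_le.mpr fun x hx e he => hXN e (oddGenerated_le X he) x hx) le_rfl).trans
        ((hmin N bot_le hNX hne hNn).trans bot_le)
    have hle : Xl ≤ C1 ⊔ C2 := hNeq.ge.trans (hN.le.trans (sup_le (sup_le
      (fun x hx => mem_sup_left ((hC1' x).mpr ⟨hWX hx, fun v hv =>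
        commutator_le_of_nml hWn hVX (commutator_mem_commutator hx hv)⟩))
      (fun x hx => mem_sup_left ((hC1' x).mpr (hC1 x hx))))
      fun x hx => mem_sup_right ((hC2' x).mpr (hC2 y hy x hx))))
    have hnorm : C2 ≤ normalizer (C1 : Set G) := by
      intro c hc
      have hcX := ((hC2' c).mp hc).1
      refine mem_normalizer_fintype fun z hz => (hC1' _).mpr ⟨hXln c (hXlX hcX) z ((hC1' z).mp hz).1, fun v hv => ?_⟩
      have h1 : ⁅z, c⁆ ∈ W := hWR (commutator_mem_commutator ((hC1' z).mp hz).1 (hOR (hXlO hcX)))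
      have h2 : c * z * c⁻¹ = ⁅z, c⁆⁻¹ * z := by simp only [commutatorElement_def]; group
      obtain ⟨w, hw, hwe⟩ : ∃ w ∈ W, c * z * c⁻¹ = w * z := ⟨_, inv_mem h1, h2⟩
      rw [hwe, show ⁅w * z, v⁆ = w * ⁅z, v⁆ * w⁻¹ * ⁅w, v⁆ by simp only [commutatorElement_def]; group]
      exact mul_mem (mul_mem (mul_mem hw (((hC1' z).mp hz).2 v hv)) (inv_mem hw))
        (commutator_le_of_nml hWn hVX (commutator_mem_commutator hw hv))
    intro x hx
    have h1 : x ∈ ((C1 ⊔ C2 : Subgroup G) : Set G) := hle hx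
    rw [coe_mul_of_right_le_normalizer_left _ _ hnorm] at h1
    obtain ⟨c1, hc1, c2, hc2, e⟩ := h1
    exact ⟨c1, c2, e, (hC1' c1).mp hc1, (hC2' c2).mp hc2⟩
  -- an element of `Vh` outside the core is regular
  have hreg : ∀ y ∈ X, y ∉ MX → ∀ v ∈ Vh, ∀ w ∈ Xl, (∀ u ∈ cjg y Vh, ⁅w, u⁆ ∈ W) → ⁅w, v⁆ ∈ W → w ∉ W → v ∈ R := by
    intro y hy hyM v hv w hw hwy hwv hwW
    have hall' : ∀ z ∈ X, v ∈ cjg z MX := by
      intro z hz
      by_cases hzM : z ∈ MX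
      · rw [cjg_of_norm (le_normalizer hzM)]; exact C.um.TM (C.vTX hv)
      obtain ⟨c1, c2, e, hc1, hc2⟩ := hsplit z hz hzM w hw
      have hc2v : ⁅c2, v⁆ ∈ W := by
        have h1 : ⁅c1 * c2, v⁆ ∈ W := e.symm ▸ hwv
        rw [show ⁅c1 * c2, v⁆ = c1 * ⁅c2, v⁆ * c1⁻¹ * ⁅c1, v⁆ by simp only [commutatorElement_def]; group,
          mul_mem_cancel_right (hc1.2 v hv)] at h1
        have h2 := hWn c1⁻¹ (inv_mem (hXlX hc1.1)) _ h1
        rwa [inv_inv, show c1⁻¹ * (c1 * ⁅c2, v⁆ * c1⁻¹) * c1 = ⁅c2, v⁆ by group] at h2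
      have hc2W : c2 ∉ W := fun h => hwW (hcap y hy hyM w hw (fun u hu => by
        rw [← e, show ⁅c1 * c2, u⁆ = c1 * ⁅c2, u⁆ * c1⁻¹ * ⁅c1, u⁆ by simp only [commutatorElement_def]; group]
        exact mul_mem (hWn c1 (hXlX hc1.1) _ (commutator_le_of_nml hWn hVX (commutator_mem_commutator h hu)))
          (hc1.2 u hu)) hwy)
      obtain ⟨Y, hY⟩ : ∃ Y, Y = zpowers v ⊔ cjg z Vh ⊔ O := ⟨_, rfl⟩
      have hvX : zpowers v ≤ X := zpowers_le.mpr (hVX hv)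
      have hYX : Y ≤ X := hY ▸ sup_le (sup_le hvX (hcjX z hz)) hOX
      by_cases hYeq : Y = X
      · refine absurd (hfixed c2 ⊥ hc2.1 (fun g hg _ => by rw [mem_bot.mp hg, commutatorElement_one_right]; exact one_mem _)
          Y hYX (fun g hg => ?_) hYeq) hc2W
        refine hsupfix c2 hc2.1 (zpowers v ⊔ cjg z Vh) O (sup_le hvX (hcjX z hz)) hOX
          (hsupfix c2 hc2.1 (zpowers v) (cjg z Vh) hvX (hcjX z hz) (fun g hg => ?_) hc2.2) (hOfix c2 hc2.1) g (hY ▸ hg)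
        rcases (show g = 1 ∨ g = v by
          obtain ⟨k, rfl⟩ := mem_zpowers_iff.mp hg
          rcases Int.even_or_odd' k with ⟨j, rfl | rfl⟩
          · exact Or.inl (by rw [zpow_mul, zpow_two, Ht.sq v hv, one_zpow])
          · exact Or.inr (by rw [zpow_add, zpow_mul, zpow_two, Ht.sq v hv, one_zpow, one_mul, zpow_one])) with rfl | rfl
        · rw [commutatorElement_one_right]; exact one_mem _
        · exact hc2v
      · have hle : cjg z⁻¹ Y ≤ MX := by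
          refine hall _ (sup_le ?_ ?_) (lt_of_le_of_ne (cjg_le.mpr fun x hx =>
            mul_mem (mul_mem (inv_mem hz) (hYX hx)) (inv_mem (inv_mem hz))) fun e => hYeq ?_)
          · have := cjg_mono z⁻¹ (hY ▸ le_sup_right.trans le_sup_left : cjg z Vh ≤ Y)
            rwa [cjg_inv_cjg] at this
          · have := cjg_mono z⁻¹ (hY ▸ le_sup_right : O ≤ Y)
            rwa [cjg_of_norm ((hO ▸ core2_norm H : Nml H O).le_norm (inv_mem (C.XH hz)))] at this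
          · refine eq_of_le_of_card_ge hYX (le_of_eq ?_)
            rw [← e, cjg, card_map_of_injective (MulAut.conj z⁻¹).injective]
        have h1 := cjg_mono z hle
        rw [cjg_cjg_inv] at h1
        exact h1 (hY ▸ mem_sup_left (mem_sup_left (mem_zpowers v)))
    obtain ⟨K, hK⟩ : ∃ K : Subgroup G, K = ⨅ z : ↥X, cjg (z : G) MX := ⟨_, rfl⟩
    have hKM : K ≤ MX := by
      rw [hK]
      exact (iInf_le _ (1 : ↥X)).trans (by rw [coe_one, cjg_one])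
    have hKn : Nml X K := fun g hg k hk => by
      rw [hK, mem_iInf] at hk ⊢
      intro z
      have h1 := hk ⟨g⁻¹ * z, mul_mem (inv_mem hg) z.2⟩
      rw [mem_cjg] at h1 ⊢
      rwa [show ((g⁻¹ * (z : G))⁻¹) * k * (g⁻¹ * (z : G)) = (z : G)⁻¹ * (g * k * g⁻¹) * z by group] at h1
    exact hR ▸ C.um.inf_le_core hKM hKn ⟨C.vTX hv, hK ▸ mem_iInf.mpr fun z => hall' z z.2⟩
  -- the witness
  obtain ⟨A2, hA2⟩ : ∃ A2, A2 = A ⊓ R := ⟨_, rfl⟩
  have hyex : ∃ y ∈ X, y ∉ MX := SetLike.exists_of_lt C.um.MH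
  obtain ⟨y, hy, hyM, hef⟩ : ∃ y ∈ X, y ∉ MX ∧
      (centralizer ((cjg y A2 : Subgroup G) : Set G)).relIndex A2 ≤ (centralizer (A2 : Set G)).relIndex (cjg y A2) := by
    obtain ⟨y, hy, hyM⟩ := hyex
    by_cases h : (centralizer ((cjg y A2 : Subgroup G) : Set G)).relIndex A2 ≤
        (centralizer (A2 : Set G)).relIndex (cjg y A2)
    · exact ⟨y, hy, hyM, h⟩
    refine ⟨y⁻¹, inv_mem hy, fun h' => hyM (by simpa using MX.inv_mem h'), ?_⟩
    have h1 := cx_cjg y⁻¹ (cjg y A2) A2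
    have h2 := cx_cjg y⁻¹ A2 (cjg y A2)
    rw [cjg_inv_cjg] at h1 h2
    show cx (cjg y⁻¹ A2) A2 ≤ cx A2 (cjg y⁻¹ A2)
    rw [h2, h1]
    exact (Nat.lt_of_not_le h).le
  obtain ⟨w, hwX, hwy, hwW⟩ : ∃ w ∈ Xl, (∀ u ∈ cjg y Vh, ⁅w, u⁆ ∈ W) ∧ w ∉ W := by
    by_contra hno
    push Not at hno
    have h1 : ∀ x ∈ Xl, ∀ v ∈ Vh, ⁅x, v⁆ ∈ W := fun x hx v hv => by
      obtain ⟨c1, c2, e, hc1, hc2⟩ := hsplit y hy hyM x hx
      rw [← e, show ⁅c1 * c2, v⁆ = c1 * ⁅c2, v⁆ * c1⁻¹ * ⁅c1, v⁆ by simp only [commutatorElement_def]; group]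
      exact mul_mem (hWn c1 (hXlX hc1.1) _ (commutator_le_of_nml hWn hVX
        (commutator_mem_commutator (hno c2 hc2.1 hc2.2) hv))) (hc1.2 v hv)
    refine hWmov (commutator_le.mpr fun x hx e he => ?_)
    refine commutator_le_of_nml hWn (oddGenerated_le X) (commutator_mem_commutator (hcap y hy hyM x hx (h1 x hx) ?_) he)
    intro u hu
    obtain ⟨v, hv, rfl⟩ := hu
    have h2 := hWn y hy _ (h1 (y⁻¹ * x * y⁻¹⁻¹) (hXln _ (inv_mem hy) x hx) v hv)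
    rwa [show y * ⁅y⁻¹ * x * y⁻¹⁻¹, v⁆ * y⁻¹ = ⁅x, (MulAut.conj y).toMonoidHom v⁆ by
      simp only [commutatorElement_def, MulEquiv.coe_toMonoidHom, MulAut.conj_apply]; group] at h2
  obtain ⟨Y1, hY1⟩ : ∃ Y1, Y1 = A ⊓ Xl := ⟨_, rfl⟩
  have hXlA : Xl ≤ normalizer (A : Set G) := ((hXlO.trans hOR).trans hRT).trans hTXn
  have hwA : ∀ v ∈ A, ⁅w, v⁆ ∈ Y1 := fun v hv => hY1 ▸ ⟨by
    rw [commutatorElement_def]
    exact A.mul_mem ((mem_normalizer_iff.mp (hXlA hwX) v).mp hv) (A.inv_mem hv),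
    commutator_le_of_nml hXln hVX (commutator_mem_commutator hwX (hAV hv))⟩
  have hwhom : ∀ v ∈ A, ∀ v' ∈ A, ⁅w, v * v'⁆ = ⁅w, v⁆ * ⁅w, v'⁆ := fun v hv v' hv' => by
    rw [show ⁅w, v * v'⁆ = ⁅w, v⁆ * (v * ⁅w, v'⁆ * v⁻¹) by simp only [commutatorElement_def]; group,
      Ht.comm v (hAV hv) _ (hAV (hY1.le (hwA v' hv')).1), mul_inv_cancel_right]
  have hq : R.relIndex A ≤ W.relIndex Y1 := by
    haveI : (W.subgroupOf Y1).Normal := ⟨fun z hz g => mem_subgroupOf.mpr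
      (hWn g (hXlX (hY1.le g.2).2) z (mem_subgroupOf.mp hz))⟩
    obtain ⟨π, hπ⟩ : ∃ π : ↥A →* ↥Y1 ⧸ W.subgroupOf Y1,
        ∀ v : ↥A, π v = ((⟨⁅w, (v : G)⁆, hwA v v.2⟩ : ↥Y1) : ↥Y1 ⧸ W.subgroupOf Y1) :=
      ⟨MonoidHom.mk' (fun v => ((⟨⁅w, (v : G)⁆, hwA v v.2⟩ : ↥Y1) : ↥Y1 ⧸ W.subgroupOf Y1)) fun a b => by
        rw [← QuotientGroup.mk_mul]
        exact congrArg _ (Subtype.ext (hwhom a a.2 b b.2)), fun _ => rfl⟩
    have hker : π.ker ≤ R.subgroupOf A := fun v hv => mem_subgroupOf.mpr (hreg y hy hyM v (hAV v.2) w hwX hwy (by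
      rw [MonoidHom.mem_ker, hπ, QuotientGroup.eq_one_iff] at hv
      exact mem_subgroupOf.mp hv) hwW)
    refine (Nat.le_of_dvd (Nat.pos_of_ne_zero index_ne_zero_of_finite) (index_dvd_of_le hker)).trans ?_
    rw [Subgroup.index_ker]
    exact (Subgroup.card_le_card_group _).trans (le_of_eq rfl)
  obtain ⟨B, hB⟩ : ∃ B, B = cjg y A2 := ⟨_, rfl⟩
  have hcR : cjg y R = R := cjg_of_norm (hRn.le_norm hy)
  have hBR : B ≤ R := hB ▸ ((cjg_mono y (hA2 ▸ inf_le_right)).trans hcR.le)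
  have hBy : B ≤ cjg y A := hB ▸ cjg_mono y (hA2 ▸ inf_le_left)
  obtain ⟨v0, hv0, hv0R⟩ := SetLike.not_le_iff_exists.mp hout
  have hb : W.relIndex Y1 ≤ cx A B := by
    have e : W.relIndex Y1 = W.relIndex (cjg y Y1) := by
      conv_rhs => rw [← cjg_of_norm (hWn.le_norm hy)]
      exact (relIndex_map_map_of_injective _ _ (MulAut.conj y).injective).symm
    rw [e]
    refine le_trans ?_ (relIndex_le_of_le_right (hB ▸ cjg_mono y (hA2.ge.trans' (hY1.le.trans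
      (inf_le_inf_left _ (hXlO.trans hOR)))) : cjg y Y1 ≤ B) (rel_ne _ _))
    rw [← inf_relIndex_right (centralizer (A : Set G))]
    refine relIndex_le_of_le_left (fun x hx => ?_) (rel_ne _ _)
    obtain ⟨x0, hx0, rfl⟩ := hx.2
    obtain ⟨hx0A, hx0X⟩ := hY1.le hx0
    by_contra hxW
    refine hv0R (hreg y hy hyM v0 (hAV hv0) _ (by
      simpa using hXln y hy x0 hx0X) (fun u hu => ?_) ?_ hxW)
    · obtain ⟨u0, hu0, rfl⟩ := hu
      rw [commutatorElement_eq_one_iff_mul_comm.mpr (by rw [← map_mul, ← map_mul, Ht.comm x0 (hAV hx0A) u0 hu0])]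
      exact one_mem _
    · rw [commutatorElement_eq_one_iff_mul_comm.mpr (mem_centralizer_iff.mp hx.1 v0 hv0).symm]
      exact one_mem _
  have hqb : R.relIndex A ≤ cx A B := hq.trans hb
  have hAB : ∀ a ∈ A, ∀ b ∈ A, a * b = b * a := fun a ha b hb => Ht.comm a (hAV ha) b (hAV hb)
  refine ⟨B, (hR ▸ core2_isPGroup X : IsPGroup 2 R).to_le hBR, (hBR.trans hRT).trans hTXn, fun hle => hv0R ?_,
    .of_comm ?_ ?_, ?_, ?_⟩
  · have h1 : cx A B = 1 := relIndex_eq_one.mpr hle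
    exact relIndex_eq_one.mp (le_antisymm (hqb.trans h1.le) (Nat.pos_of_ne_zero (rel_ne _ _))) hv0
  · intro a ha b hb'
    obtain ⟨a0, ha0, rfl⟩ := hBy ha
    obtain ⟨b0, hb0, rfl⟩ := hBy hb'
    rw [← map_mul, ← map_mul, hAB a0 ha0 b0 hb0]
  · intro a ha
    obtain ⟨a0, ha0, rfl⟩ := hBy ha
    rw [← map_mul, Ht.sq a0 (hAV ha0), map_one]
  · have h1 : ⁅A, B⁆ ≤ A2 := commutator_le.mpr fun a ha b hb' => hA2 ▸ ⟨by
      rw [commutatorElement_def, show a * b * a⁻¹ * b⁻¹ = a * (b * a⁻¹ * b⁻¹) by group]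
      exact A.mul_mem ha ((mem_normalizer_iff.mp ((hBR.trans hRT).trans hTXn hb') _).mp (A.inv_mem ha)), by
      rw [commutatorElement_def]
      exact R.mul_mem (hRn a (hVX (hAV ha)) b (hBR hb')) (R.inv_mem (hBR hb'))⟩
    have hRy : R ≤ normalizer ((cjg y A : Subgroup G) : Set G) :=
      hcR.ge.trans (le_normalizer_cjg (hRT.trans hTXn))
    have h2 : ⁅A2, B⁆ ≤ cjg y A := commutator_le.mpr fun a ha b hb' => by
      rw [commutatorElement_def]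
      exact Subgroup.mul_mem _ ((mem_normalizer_iff.mp (hRy (hA2.le ha).2) b).mp (hBy hb')) (inv_mem (hBy hb'))
    refine commutator_eq_bot_iff_le_centralizer.mpr (((commutator_mono h1 le_rfl).trans h2).trans ?_)
    rintro _ ⟨a0, ha0, rfl⟩
    refine mem_centralizer_iff.mpr fun b hb' => ?_
    obtain ⟨b0, hb0, rfl⟩ := hBy hb'
    rw [← map_mul, ← map_mul, hAB b0 hb0 a0 ha0]
  · calc fx A B = (centralizer (B : Set G)).relIndex A := by rw [fx, inf_comm, inf_relIndex_right]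
      _ ≤ (A2 ⊓ centralizer (B : Set G)).relIndex A := relIndex_le_of_le_left inf_le_right (rel_ne _ _)
      _ = (A2 ⊓ centralizer (B : Set G)).relIndex A2 * A2.relIndex A :=
        (relIndex_mul_relIndex _ _ _ inf_le_left (hA2 ▸ inf_le_left)).symm
      _ ≤ cx A B * cx A B := by
        refine Nat.mul_le_mul ?_ ?_
        · rw [inf_relIndex_left, hB]
          exact hef.trans (hB ▸ relIndex_le_of_le_left (centralizer_le (SetLike.coe_subset_coe.mpr (hA2 ▸ inf_le_left)))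
            (rel_ne _ _))
        · rw [hA2, inf_relIndex_left]; exact hqb
      _ = _ := (pow_two _).symm

theorem CX.target_aux (Ht : Hat T H Mc V Vh) : ∀ (n : ℕ) (X TX MX : Subgroup G) (m : G),
    CX T H Mc V Vh X TX MX m → Nat.card X = n → ∃ g, QTarget (cjg g V) ∨ CTarget (cjg g V) := by
  intro n
  induction n using Nat.strong_induction_on with
  | _ n ih =>
  intro X TX MX m C hn
  haveI : Fact (Nat.Prime 2) := ⟨Nat.prime_two⟩
  obtain ⟨O, hO⟩ : ∃ O, O = core2 H := ⟨_, rfl⟩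
  by_cases hall : ∀ Y : Subgroup G, Vh ⊔ core2 H ≤ Y → Y < X → Y ≤ MX
  · exact ⟨m, .inr (C.base Ht hall)⟩
  push Not at hall
  obtain ⟨Y0, hY0, hY0X, hY0M⟩ := hall
  obtain ⟨A, hA⟩ : ∃ A, A = cjg m V := ⟨_, rfl⟩
  have hVO : Vh ⊔ core2 H ≤ TX := sup_le C.vTX (C.core_le.trans C.um.core_le)
  obtain ⟨D, ⟨hDp, hDV, hDM, N, hDN, hNX, hNM⟩, hDmax⟩ := Set.exists_max_image
    {D : Subgroup G | IsPGroup 2 D ∧ Vh ⊔ core2 H ≤ D ∧ D ≤ MX ∧ ∃ N, D ≤ N ∧ N < X ∧ ¬ N ≤ MX}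
    (fun D => Nat.card D) (Set.toFinite _)
    ⟨_, C.um.pT.to_le hVO, le_rfl, hVO.trans C.um.TM, Y0, hY0, hY0X, hY0M⟩
  have hbig : ∀ D' N' : Subgroup G, IsPGroup 2 D' → D ≤ D' → D ≠ D' → D' ≤ MX → D' ≤ N' → N' < X → N' ≤ MX := by
    intro D' N' hp hle hne hM hN hX
    by_contra h
    exact hne (eq_of_le_of_card_ge hle (hDmax D' ⟨hp, hDV.trans hle, hM, N', hN, hX, h⟩))
  have hMX : MX ≤ X := C.um.MH.le
  have hsylM : Grp.IsSylowIn 2 TX MX := ⟨C.um.TM, C.um.pT, fun hd => C.um.idx (hd.trans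
    (Dvd.intro _ (relIndex_mul_relIndex _ _ _ C.um.TM hMX)))⟩
  obtain ⟨x0, hx0, hx0D⟩ := Fus.Fail.conj_into hsylM hDM hDp
  have hx0D' : cjg x0 D ≤ TX := hx0D
  obtain ⟨x1, hx1⟩ : ∃ x1, x1 = x0⁻¹ := ⟨_, rfl⟩
  have hx1M : x1 ∈ MX := hx1 ▸ inv_mem hx0
  obtain ⟨T1, hT1⟩ : ∃ T1, T1 = cjg x1 TX := ⟨_, rfl⟩
  have hT1M : T1 ≤ MX := hT1 ▸ cjg_le.mpr fun x hx => mul_mem (mul_mem hx1M (C.um.TM hx)) (inv_mem hx1M)
  have hDT : D ≤ T1 := by
    rw [hT1, hx1]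
    have := cjg_mono x0⁻¹ hx0D'
    rwa [cjg_inv_cjg] at this
  have hT1p : IsPGroup 2 T1 := hT1 ▸ C.um.pT.map _
  have hDT1 : D ≠ T1 := fun e => hNM (by
    have h1 : cjg x0 N ≤ MX := by
      refine C.um.uniq _ ?_ (lt_of_le_of_ne (cjg_le.mpr fun x hx => mul_mem (mul_mem (hMX hx0) (hNX.le hx))
        (inv_mem (hMX hx0))) fun e' => hNX.ne ?_)
      · have h2 := cjg_mono x0 (e.ge.trans hDN)
        rwa [hT1, hx1, cjg_cjg_inv] at h2
      · refine eq_of_le_of_card_ge hNX.le (le_of_eq ?_)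
        rw [← e', cjg, card_map_of_injective (MulAut.conj x0).injective]
    intro x hx
    have h2 := h1 (conj_mem_cjg (m := x0) hx)
    simpa [mul_assoc] using MX.mul_mem (MX.mul_mem (MX.inv_mem hx0) h2) hx0)
  obtain ⟨e, heT, heD, hen⟩ := exists_grow hT1p hDT hDT1
  obtain ⟨Dp, hDp'⟩ : ∃ Dp, Dp = D ⊔ zpowers e := ⟨_, rfl⟩
  have hDpT : Dp ≤ T1 := hDp' ▸ sup_le hDT (zpowers_le.mpr heT)
  have hDpne : D ≠ Dp := fun e' => heD (e'.ge (hDp' ▸ mem_sup_right (mem_zpowers e)))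
  have hDDp : D ≤ Dp := hDp' ▸ le_sup_left
  have hDpn : Dp ≤ normalizer (D : Set G) := hDp' ▸ sup_le le_normalizer (zpowers_le.mpr hen)
  have hbigp : ∀ N' : Subgroup G, Dp ≤ N' → N' < X → N' ≤ MX := fun N' =>
    hbig Dp N' (hT1p.to_le hDpT) hDDp hDpne (hDpT.trans hT1M)
  have hout : ∀ S : Subgroup G, cjg x1 A ≤ S → IsPGroup 2 S → X ≤ normalizer (S : Set G) → S ≤ X → False := by
    intro S hS hSp hSn hSX
    refine C.out ?_
    rw [← hA]
    have h1 : cjg x1 A ≤ core2 X := hS.trans (le_core2 hSX hSp (Nml.of_norm hSn))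
    have h2 := cjg_mono x0 h1
    rw [hx1, cjg_cjg_inv, cjg_of_norm ((Nml.le_norm (core2_norm X)) (hMX hx0))] at h2
    exact h2
  have hA'D : cjg x1 A ≤ D := by
    rw [hA, ← cjg_mul]
    exact (Ht.le _ (mul_mem (C.MMc hx1M) C.hm)).trans (le_sup_left.trans hDV)
  have hDX : D ≤ X := hDM.trans hMX
  have hND : X ⊓ normalizer (D : Set G) ≤ MX :=
    hbigp _ (le_inf ((hDpT.trans hT1M).trans hMX) hDpn)
      (lt_of_le_of_ne inf_le_left fun e' => hout D hA'D hDp (e'.ge.trans inf_le_right) hDX)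
  have hDsyl : ¬ 2 ∣ D.relIndex N := by
    intro hd
    obtain ⟨P, hP⟩ := (hDp.comap_subtype (K := N)).exists_le_sylow
    obtain ⟨P', hP'⟩ : ∃ P', P' = (P : Subgroup ↥N).map N.subtype := ⟨_, rfl⟩
    have hDP : D ≤ P' := fun x hx => hP' ▸ ⟨⟨x, hDN hx⟩, hP (show _ ∈ D from hx), rfl⟩
    have hne : D ≠ P' := fun e' => P.not_dvd_index (by
      rw [e', hP', Subgroup.relIndex, Subgroup.subgroupOf, comap_map_eq_self_of_injective N.subtype_injective] at hd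
      exact hd)
    obtain ⟨f, hfP, hfD, hfn⟩ := exists_grow (hP' ▸ P.isPGroup'.map _) hDP hne
    obtain ⟨Df, hDf⟩ : ∃ Df, Df = D ⊔ zpowers f := ⟨_, rfl⟩
    have hPN : P' ≤ N := hP' ▸ map_subtype_le _
    have hDfM : Df ≤ MX := hDf ▸ sup_le hDM (zpowers_le.mpr (hND ⟨hNX.le (hPN hfP), hfn⟩))
    exact hNM (hbig Df N ((hP' ▸ P.isPGroup'.map _).to_le (hDf ▸ sup_le hDP (zpowers_le.mpr hfP)))
      (hDf ▸ le_sup_left) (fun e' => hfD (e'.ge (hDf ▸ mem_sup_right (mem_zpowers f)))) hDfM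
      (hDf ▸ sup_le hDN (zpowers_le.mpr (hPN hfP))) hNX)
  obtain ⟨Z, ⟨hDZ, hZN, hZM⟩, hZmin⟩ := Set.exists_min_image {Z : Subgroup G | D ≤ Z ∧ Z ≤ N ∧ ¬ Z ≤ MX}
    (fun Z => Nat.card Z) (Set.toFinite _) ⟨N, hDN, le_rfl, hNM⟩
  have hZX : Z < X := lt_of_le_of_lt hZN hNX
  have Um : UMax Z D (Z ⊓ MX) := ⟨hDp, hDZ,
    fun hd => hDsyl (hd.trans (Dvd.intro _ (relIndex_mul_relIndex _ _ _ hDZ hZN))), le_inf hDZ hDM,
    lt_of_le_of_ne inf_le_left fun e' => hZM (e'.ge.trans inf_le_right), fun Y hDY hYZ => by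
      refine le_inf hYZ.le ?_
      by_contra h
      exact hYZ.ne (eq_of_le_of_card_ge hYZ.le (hZmin Y ⟨hDY, hYZ.le.trans hZN, h⟩))⟩
  have hOD : core2 H ≤ D := le_sup_right.trans hDV
  have hx1m : x1 * m ∈ Mc := mul_mem (C.MMc hx1M) C.hm
  have hA' : cjg (x1 * m) V = cjg x1 A := by rw [hA, cjg_mul]
  have hDA : T1 ≤ normalizer ((cjg x1 A : Subgroup G) : Set G) := hT1 ▸ le_normalizer_cjg (hA ▸ C.TX_norm Ht)
  by_cases hAZ : cjg x1 A ≤ core2 Z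
  swap
  · refine ih _ ?_ Z D (Z ⊓ MX) (x1 * m) ⟨Um, hZX.le.trans C.XH, hOD.trans hDZ, le_sup_left.trans hDV,
      inf_le_right.trans C.MMc, hx1m, ?_, hA' ▸ hAZ⟩ rfl
    · exact hn ▸ Set.Finite.card_lt_card (Set.toFinite _) hZX
    · rw [cjg_mul]; exact hDT.trans (hT1.le.trans (cjg_mono x1 C.Tm))
  by_cases hqt : QTarget (cjg x1 A)
  · exact ⟨x1 * m, .inl (hA' ▸ hqt)⟩
  exfalso
  obtain ⟨A', hA''⟩ : ∃ A', A' = cjg x1 A := ⟨_, rfl⟩
  rw [← hA''] at hout hA'D hDA hAZ hqt hA'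
  have hA'V : A' ≤ Vh := hA' ▸ Ht.le _ hx1m
  have hA'p : IsPGroup 2 A' := hDp.to_le hA'D
  have hcore : core2 Z ≤ D := Um.core_le
  have hmove : ¬ Z ≤ normalizer (A' : Set G) := by
    intro h
    refine hZM ((le_inf hZX.le h).trans (hbigp _ (le_inf ((hDpT.trans hT1M).trans hMX) (hDpT.trans hDA))
      (lt_of_le_of_ne inf_le_left fun e' => hout A' le_rfl hA'p (e'.ge.trans inf_le_right) (hA'D.trans hDX))))
  have hcc : ∀ h ∈ Z, ∀ a ∈ A', ∀ b ∈ cjg h A', a * b = b * a := by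
    intro h hh a ha b hb
    by_contra hne
    have hhc : cjg h (core2 Z) = core2 Z := cjg_of_norm ((Nml.le_norm (core2_norm Z)) hh)
    refine hqt (mutual_target hA'p (fun a ha a' ha' => Ht.comm a (hA'V ha) a' (hA'V ha'))
      (fun a ha => Ht.sq a (hA'V ha)) h ?_ ?_ fun hle => hne (mem_centralizer_iff.mp (hle hb) a ha))
    · exact hAZ.trans (hhc.ge.trans (le_normalizer_cjg ((hcore.trans hDT).trans hDA)))
    · exact ((cjg_mono h hAZ).trans hhc.le).trans ((hcore.trans hDT).trans hDA)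
  rcases escape (N := Dp) Um (hDT.trans hDA) hAZ hmove (fun a ha => Ht.sq a (hA'V ha)) hcc
    (fun j hj n hn' l hl => by
      rw [cjg_mul]
      exact (cjg_mono n ((hj l hl).trans hcore)).trans (cjg_of_norm (hDpn hn')).le) with hall' | ⟨B, hB⟩
  · obtain ⟨R0, hAR0, hR0Z, hZR0, hDR0, -⟩ := alt_closure hAZ hall'
    refine hZM ((le_inf hZX.le hZR0).trans (hbigp _ (le_inf ((hDpT.trans hT1M).trans hMX) hDR0)
      (lt_of_le_of_ne inf_le_left fun e' => hout R0 hAR0 ((core2_isPGroup Z).to_le hR0Z) (e'.ge.trans inf_le_right)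
        (hR0Z.trans ((core2_le Z).trans hZX.le)))))
  · obtain ⟨hcomm, hsq⟩ := span_el (fun a ha => Ht.sq a (hA'V ha)) hcc
    have S : Sit Z D (Z ⊓ MX) A' (span A' Z) := ⟨Um, hDT.trans hDA, hAZ, hmove, rfl, hcomm, hsq⟩
    rcases S.conseq hB with h | h
    · exact hqt h
    have hOZ : core2 H ≤ core2 Z := le_core2 (hOD.trans hDZ) (core2_isPGroup H) fun g hg =>
      core2_norm H g (C.XH (hZX.le hg))
    obtain ⟨U1, hU1⟩ : ∃ U1, U1 = ⁅span A' Z, odd Z⁆ := ⟨_, rfl⟩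
    refine S.U1_ne ?_
    rw [← S.U1_idem, ← hU1]
    refine commutator_eq_bot_iff_le_centralizer.mpr fun x hx => ?_
    have hx' : x ∈ ⁅span A' Z, odd Z⁆ := hU1.le hx
    have hxc : x ∈ centralizer (core2 H : Set G) :=
      centralizer_le (SetLike.coe_subset_coe.mpr hOZ) (commutator_eq_bot_iff_le_centralizer.mp h.U1core hx')
    have hxH : x ∈ H := C.XH (hZX.le (S.U_le_H (S.U1_le hx')))
    have hxO : x ∈ core2 H := charTwo_over Ht.even T Ht.um.TH Ht.core_ne ⟨hxH, hxc⟩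
    exact centralizer_le (SetLike.coe_subset_coe.mpr
      (closure_mono fun z hz => ⟨C.XH (hZX.le hz.1), hz.2⟩ : odd Z ≤ odd H))
      (Ht.omega x hxO hxc (hsq x (S.U1_le hx')))

/-- A conjugate of `V` has a witness. -/
theorem Hat.target (Ht : Hat T H Mc V Vh) (hVO : ¬ V ≤ core2 H) : ∃ g, QTarget (cjg g V) ∨ CTarget (cjg g V) :=
  CX.target_aux Ht _ H (T : Subgroup G) Mc 1
    ⟨Ht.um, le_rfl, core2_le H, Ht.vT, le_rfl, one_mem _, (cjg_one _).ge, by rw [cjg_one]; exact hVO⟩ rfl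

end Cfsg.Agent.Transfer.QRC
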