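import Cfsg.Agent.Lib.Transfer.QRC.Stages

/-!
# The first level of conjugates leaving the core

Conjugates of `A` by alternating products in `N` and `H` stay in the core of `H`, or the first that leaves yields an
offender on the span of the conjugates in `H`.
-/

set_option autoImplicit false
set_option linter.unusedSectionVars false
set_option linter.style.haveILetI false

open scoped commutatorElement

namespace Cfsg.Agent.Transfer.QRC

open Subgroup

universe u

variable {G : Type u} [Group G]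

/-- The alternating products with `j` factors from `N`. -/
def Alt (N H : Subgroup G) : ℕ → Set G
  | 0 => H
  | j + 1 => {x | ∃ h ∈ H, ∃ n ∈ N, ∃ l ∈ Alt N H j, x = h * n * l}

variable {N H : Subgroup G}

theorem alt_left {j : ℕ} {h l : G} (hh : h ∈ H) (hl : l ∈ Alt N H j) : h * l ∈ Alt N H j := by
  cases j with
  | zero => exact H.mul_mem hh hl
  | succ j =>
    obtain ⟨h', hh', n, hn, l', hl', rfl⟩ := hl
    exact ⟨h * h', mul_mem hh hh', n, hn, l', hl', by group⟩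

theorem alt_right {j : ℕ} {h l : G} (hl : l ∈ Alt N H j) (hh : h ∈ H) : l * h ∈ Alt N H j := by
  induction j generalizing l with
  | zero => exact H.mul_mem hl hh
  | succ j ih =>
    obtain ⟨h', hh', n, hn, l', hl', rfl⟩ := hl
    exact ⟨h', hh', n, hn, l' * h, ih hl', by group⟩

theorem alt_snoc {j : ℕ} {l n h : G} (hl : l ∈ Alt N H j) (hn : n ∈ N) (hh : h ∈ H) :
    l * n * h ∈ Alt N H (j + 1) := by
  induction j generalizing l with
  | zero => exact ⟨l, hl, n, hn, h, hh, rfl⟩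
  | succ j ih =>
    obtain ⟨h', hh', n', hn', l', hl', rfl⟩ := hl
    exact ⟨h', hh', n', hn', l' * n * h, ih hl', by group⟩

theorem alt_inv {j : ℕ} {l : G} (hl : l ∈ Alt N H j) : l⁻¹ ∈ Alt N H j := by
  induction j generalizing l with
  | zero => exact H.inv_mem hl
  | succ j ih =>
    obtain ⟨h', hh', n', hn', l', hl', rfl⟩ := hl
    rw [show (h' * n' * l')⁻¹ = l'⁻¹ * n'⁻¹ * h'⁻¹ by group]
    exact alt_snoc (ih hl') (inv_mem hn') (inv_mem hh')

variable [Finite G] {T M A : Subgroup G}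

/-- A 2-subgroup of `T` normalised by `U` is an offender. -/
theorem off_of_mutual {U B : Subgroup G} (hB : B ≤ T) (hn : U ≤ normalizer (B : Set G))
    (hc : ∀ b ∈ B, ∀ b' ∈ B, b * b' = b' * b) (hs : ∀ b ∈ B, b * b = 1) (hne : ¬ B ≤ centralizer (U : Set G))
    (hb : fx U B ≤ cx U B) : Off1 U T B := by
  refine ⟨hB, commutator_eq_bot_iff_le_centralizer.mpr (commutator_le.mpr fun u hu b hb' => ?_), .of_comm hc hs, hne, hb⟩
  refine mem_centralizer_iff.mpr fun b' hb'' => hc b' hb'' _ ?_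
  rw [commutatorElement_def]
  exact B.mul_mem ((mem_normalizer_iff.mp (hn hu) b).mp hb') (B.inv_mem hb')

/-- Either every alternating conjugate lies in the core or there is an offender on the span. -/
theorem escape (Um : UMax H T M) (hTA : T ≤ normalizer (A : Set G)) (hAO : A ≤ core2 H)
    (hmove : ¬ H ≤ normalizer (A : Set G)) (hs : ∀ a ∈ A, a * a = 1)
    (hc : ∀ h ∈ H, ∀ a ∈ A, ∀ b ∈ cjg h A, a * b = b * a)
    (Hin : ∀ j, (∀ l ∈ Alt N H j, cjg l A ≤ core2 H) → ∀ n ∈ N, ∀ l ∈ Alt N H j, cjg (n * l) A ≤ T) :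
    (∀ j, ∀ l ∈ Alt N H j, cjg l A ≤ core2 H) ∨ ∃ B, Off1 (span A H) T B := by
  refine or_iff_not_imp_right.mpr fun hno j => ?_
  induction j with
  | zero => exact fun l hl => cjg_le.mpr fun a ha => core2_norm H l hl a (hAO ha)
  | succ j ih =>
    rintro _ ⟨h, hh, n, hn, l, hl, rfl⟩
    suffices hnl : cjg (n * l) A ≤ core2 H by
      rw [mul_assoc, cjg_mul]
      exact (cjg_mono h hnl).trans (cjg_le.mpr fun a ha => core2_norm H h hh a ha)
    by_contra hout
    obtain ⟨hcomm, hsq⟩ := span_el hs hc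
    obtain ⟨U, hU⟩ : ∃ U, U = span A H := ⟨_, rfl⟩
    rw [← hU] at hcomm hsq hno
    have S : Sit H T M A U := ⟨Um, hTA, hAO, hmove, hU, hcomm, hsq⟩
    obtain ⟨g, hg⟩ : ∃ g, g = n * l := ⟨_, rfl⟩
    rw [← hg] at hout
    have hU'T : cjg g U ≤ T := by
      rw [cjg, Subgroup.map_le_iff_le_comap, hU]
      refine span_le fun h' hh' => Subgroup.map_le_iff_le_comap.mp (show cjg g (cjg h' A) ≤ T from ?_)
      rw [← cjg_mul, hg, mul_assoc]
      exact Hin j ih n hn _ (alt_right hl hh')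
    have hback : cjg g⁻¹ U ≤ H := by
      rw [cjg, Subgroup.map_le_iff_le_comap, hU]
      refine span_le fun h' hh' => Subgroup.map_le_iff_le_comap.mp (show cjg g⁻¹ (cjg h' A) ≤ H from ?_)
      have hm : g⁻¹ * h' ∈ Alt N H (j + 1) := by
        rw [hg, show (n * l)⁻¹ = l⁻¹ * n⁻¹ by group]
        exact alt_snoc (alt_inv hl) (inv_mem hn) hh'
      obtain ⟨h2, hh2, n2, hn2, l2, hl2, e⟩ := hm
      rw [← cjg_mul, e, mul_assoc, cjg_mul]
      exact (cjg_mono h2 ((Hin j ih n2 hn2 l2 hl2).trans Um.TH)).trans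
        (cjg_le.mpr fun x hx => mul_mem (mul_mem hh2 hx) (inv_mem hh2))
    have hn1 : cjg g U ≤ normalizer (U : Set G) := (hU'T.trans Um.TH).trans S.U_nml.le_norm
    have hn2 : U ≤ normalizer ((cjg g U : Subgroup G) : Set G) := by
      have h1 := le_normalizer_cjg (m := g) (hback.trans S.U_nml.le_norm)
      rwa [cjg_cjg_inv] at h1
    have hne : ¬ cjg g U ≤ centralizer (U : Set G) := fun hle =>
      hout ((cjg_mono g S.A_le_U).trans ((le_inf hU'T hle).trans S.cent_T))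
    have hprop : ∀ x : G, (∀ a ∈ cjg x U, ∀ b ∈ cjg x U, a * b = b * a) ∧ ∀ a ∈ cjg x U, a * a = 1 := by
      refine fun x => ⟨?_, ?_⟩
      · rintro _ ⟨a, ha, rfl⟩ _ ⟨b, hb, rfl⟩
        rw [← map_mul, ← map_mul, hcomm a ha b hb]
      · rintro _ ⟨a, ha, rfl⟩
        rw [← map_mul, hsq a ha, map_one]
    have e1 : fx U (cjg g U) = cx (cjg g U) U := by rw [cx_eq]
    have e2 : fx (cjg g U) U = cx U (cjg g U) := by rw [cx_eq]
    by_cases hb : fx U (cjg g U) ≤ cx U (cjg g U)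
    · exact hno ⟨_, off_of_mutual hU'T hn2 (hprop g).1 (hprop g).2 hne hb⟩
    have hb' : fx (cjg g U) U ≤ cx (cjg g U) U := by
      rw [e2, ← e1]; exact (Nat.lt_of_not_le hb).le
    rw [← fx_cjg g⁻¹, ← cx_cjg g⁻¹, cjg_inv_cjg] at hb'
    have hne' : ¬ cjg g⁻¹ U ≤ centralizer (U : Set G) := fun hle => hne (le_centralizer_iff.mp (by
      have h1 := le_centralizer_cjg (m := g).mpr hle
      rwa [cjg_cjg_inv] at h1))
    have hn3 : U ≤ normalizer ((cjg g⁻¹ U : Subgroup G) : Set G) := by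
      have h1 := le_normalizer_cjg (m := g⁻¹) hn1
      rwa [cjg_inv_cjg] at h1
    obtain ⟨x, hx, hxT⟩ := Um.into hback (S.U_pgroup.map _)
    have hxU : cjg x U = U := cjg_of_norm (S.U_nml.le_norm hx)
    have e3 : cjg x (cjg g⁻¹ U) = cjg (x * g⁻¹) U := (cjg_mul _ _ _).symm
    refine hno ⟨_, off_of_mutual hxT ?_ (fun a ha b hb => (hprop (x * g⁻¹)).1 a (e3 ▸ ha) b (e3 ▸ hb))
      (fun a ha => (hprop (x * g⁻¹)).2 a (e3 ▸ ha)) (fun hle => hne' ?_) ?_⟩
    · have h1 := le_normalizer_cjg (m := x) hn3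
      rwa [hxU] at h1
    · rw [← le_centralizer_cjg (m := x), hxU]; exact hle
    · calc fx U (cjg x (cjg g⁻¹ U)) = fx (cjg x U) (cjg x (cjg g⁻¹ U)) := by rw [hxU]
        _ = fx U (cjg g⁻¹ U) := fx_cjg _ _ _
        _ ≤ cx U (cjg g⁻¹ U) := hb'
        _ = cx (cjg x U) (cjg x (cjg g⁻¹ U)) := (cx_cjg _ _ _).symm
        _ = _ := by rw [hxU]

/-- The subgroup generated by the alternating conjugates is normalised by `H` and `N`. -/
theorem alt_closure (hA : A ≤ core2 H) (hall : ∀ j, ∀ l ∈ Alt N H j, cjg l A ≤ core2 H) :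
    ∃ R0 : Subgroup G, A ≤ R0 ∧ R0 ≤ core2 H ∧ H ≤ normalizer (R0 : Set G) ∧ N ≤ normalizer (R0 : Set G) ∧
      ∀ X : Subgroup G, (∀ j, ∀ l ∈ Alt N H j, cjg l A ≤ X) → R0 ≤ X := by
  obtain ⟨R0, hR0⟩ : ∃ R0, R0 = closure {x | ∃ j, ∃ l ∈ Alt N H j, x ∈ cjg l A} := ⟨_, rfl⟩
  have hmem : ∀ {j l}, l ∈ Alt N H j → cjg l A ≤ R0 := fun {j l} hl x hx => hR0 ▸ subset_closure ⟨j, l, hl, hx⟩
  have hle : ∀ X : Subgroup G, (∀ j, ∀ l ∈ Alt N H j, cjg l A ≤ X) → R0 ≤ X := fun X h =>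
    hR0 ▸ (closure_le _).mpr fun x ⟨j, l, hl, hx⟩ => h j l hl hx
  have hnorm : ∀ g : G, (∀ j, ∀ l ∈ Alt N H j, ∃ i, g * l ∈ Alt N H i) → g ∈ normalizer (R0 : Set G) := fun g hg =>
    mem_normalizer_fintype fun x hx => (hle (R0.comap (MulAut.conj g).toMonoidHom) fun j l hl y hy => by
      obtain ⟨i, hi⟩ := hg j l hl
      refine hmem hi ?_
      rw [cjg_mul]
      exact conj_mem_cjg hy) hx
  refine ⟨R0, ?_, hle _ hall, fun h hh => hnorm h fun j l hl => ⟨j, alt_left hh hl⟩,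
    fun n hn => hnorm n fun j l hl => ⟨j + 1, 1, one_mem _, n, hn, l, hl, by rw [one_mul]⟩, hle⟩
  have := hmem (j := 0) (l := 1) (one_mem H)
  rwa [cjg_one] at this

end Cfsg.Agent.Transfer.QRC
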