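import Cfsg.Agent.Lib.Transfer.QRC.Sit
import Cfsg.Agent.Lib.Fus.PushBlocks.Exact
import Cfsg.Agent.Lib.Fus.CharTransferModule
import Cfsg.Agent.Lib.Fus.PMinFF.Main

/-!
# An abelian layer moved by the odd residual has no over-offender
-/

set_option autoImplicit false
set_option linter.unusedSectionVars false
set_option linter.style.haveILetI false

open scoped commutatorElement

namespace Cfsg.Agent.Transfer.QRC

open Subgroup Cfsg.Agent.Fus
open Cfsg.Agent.Fus.CharTransfer (act modW Amb)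

universe u

variable {G : Type u} [Group G] [Finite G] {H T M : Subgroup G}

/-- The hypotheses of the block theory for a faithful image of `H`. -/
theorem image_hyps (U : UMax H T M) {Γ : Type u} [Group Γ] [Finite Γ] (φ : ↥H →* Γ) (V : Subgroup Γ)
    (hVc : ∀ v ∈ V, ∀ w ∈ V, v * w = w * v) (hVs : ∀ v ∈ V, v * v = 1)
    (hVn : ∀ h, ∀ v ∈ V, φ h * v * (φ h)⁻¹ ∈ V)
    (hfaith : ∀ h, φ h ∈ centralizer (V : Set Γ) → φ h = 1)
    (hE : ¬ ∀ h : ↥H, (h : G) ∈ odd H → φ h = 1) (hO : ∀ h : ↥H, (h : G) ∈ core2 H → φ h = 1) :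
    MinModule.PHyp 2 φ.range ((T.subgroupOf H).map φ) ((M.subgroupOf H).map φ) ∧ MinModule.VHyp 2 V φ.range ∧
      φ.ker.map H.subtype ≤ M ∧ T ⊓ φ.ker.map H.subtype ≤ core2 H := by
  haveI : Fact (Nat.Prime 2) := ⟨Nat.prime_two⟩
  have hnml : ∀ N : Subgroup ↥H, N.Normal → Nml H (N.map H.subtype) := fun N hN h hh _ ⟨n, hn, e⟩ =>
    ⟨⟨h, hh⟩ * n * ⟨h, hh⟩⁻¹, hN.conj_mem n hn _, by rw [← e]; rfl⟩
  have hkM : φ.ker.map H.subtype ≤ M := by
    by_contra h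
    refine hE fun e he => ?_
    obtain ⟨k, hk, hke⟩ := U.odd_le_of_normal (map_subtype_le _) (hnml _ inferInstance) h he
    rw [← show k = e from Subtype.ext hke]
    exact hk
  have hkM' : φ.ker ≤ M.subgroupOf H := fun k hk => mem_subgroupOf.mpr (hkM (mem_map_of_mem _ hk))
  obtain ⟨S, hS⟩ : ∃ S, S = (T.subgroupOf H).map φ := ⟨_, rfl⟩
  rw [← hS]
  have hSp : IsPGroup 2 S := hS ▸ (U.pT.of_equiv (subgroupOfEquivOfLe U.TH).symm).map φ
  refine ⟨⟨⟨hS ▸ map_le_range _ _, hSp, fun hd => U.idx (hd.trans ?_)⟩, hS ▸ map_mono fun x hx =>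
    mem_subgroupOf.mpr (U.TM (mem_subgroupOf.mp hx)), map_le_range _ _, fun h => ?_, fun K hK1 hK2 hK3 => ?_,
    fun Q hQ hQp hQn => ?_⟩, ⟨hVc, fun v hv => by rw [pow_two]; exact hVs v hv, ?_, ?_⟩, hkM,
    U.inf_le_core hkM (hnml _ inferInstance)⟩
  · rw [hS, MonoidHom.range_eq_map, relIndex_map_map, top_sup_eq, relIndex_top_right]
    exact index_dvd_of_le le_sup_left
  · have h1 := congrArg (fun K => comap φ K) h
    simp only [MonoidHom.range_eq_map, comap_map_eq, top_sup_eq] at h1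
    rw [sup_eq_left.mpr hkM'] at h1
    exact U.MH.not_ge (subgroupOf_eq_top.mp h1)
  · intro k hk
    obtain ⟨g, rfl⟩ := hK2 hk
    refine ⟨g, mem_subgroupOf.mpr (U.uniq ((K.comap φ).map H.subtype) (fun t ht => ?_)
      (lt_of_le_of_ne (map_subtype_le _) fun e => hK3 (le_antisymm hK2 ?_)) ⟨g, hk, rfl⟩), rfl⟩
    · exact ⟨⟨t, U.TH ht⟩, hK1 (hS ▸ mem_map_of_mem φ (mem_subgroupOf.mpr ht)), rfl⟩
    · rintro _ ⟨x, rfl⟩
      exact (mem_map_iff_mem H.subtype_injective).mp (e.ge x.2)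
  · obtain ⟨N, hN⟩ : ∃ N, N = Q.comap φ := ⟨_, rfl⟩
    haveI hNn : N.Normal := ⟨fun n hn x => by
      rw [hN, mem_comap] at hn ⊢
      rw [map_mul, map_mul, map_inv]
      exact (mem_normalizer_iff.mp (hQn ⟨x, rfl⟩) _).mp hn⟩
    have hNM : N.map H.subtype ≤ M := by
      by_contra h
      -- the odd elements of `H` lie in `N`, so their images are trivial
      have hsub : odd H ≤ (φ.ker).map H.subtype := (closure_le _).mpr fun y ⟨hy, hyo⟩ => by
        refine ⟨⟨y, hy⟩, ?_, rfl⟩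
        obtain ⟨n, hn', hne⟩ := U.odd_le_of_normal (map_subtype_le _) (hnml _ hNn) h
          (subset_closure ⟨hy, hyo⟩ : y ∈ odd H)
        rw [show n = ⟨y, hy⟩ from Subtype.ext hne, hN] at hn'
        obtain ⟨k, hk⟩ := hQp ⟨φ ⟨y, hy⟩, hn'⟩
        exact orderOf_eq_one_iff.mp (Nat.eq_one_of_dvd_coprimes ((Nat.coprime_two_right.mpr hyo).pow_right k)
          ((orderOf_map_dvd φ ⟨y, hy⟩).trans (by rw [← orderOf_coe]))
          (orderOf_dvd_of_pow_eq_one (congrArg Subtype.val hk : φ ⟨y, hy⟩ ^ 2 ^ k = 1)))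
      exact hE fun e he => (mem_map_iff_mem H.subtype_injective).mp (hsub he)
    refine eq_bot_iff.mpr fun q hq => mem_bot.mpr ?_
    obtain ⟨n, rfl⟩ := hQ hq
    obtain ⟨a, m, hm, hnm⟩ := Nat.exists_eq_pow_mul_and_not_dvd (orderOf_pos n).ne' 2 (by norm_num)
    have h2 : IsPGroup 2 ↥(zpowers ((n : G) ^ m)) := IsPGroup.of_card (n := a) (by
      rw [Nat.card_zpowers, orderOf_pow, orderOf_coe, hnm, Nat.gcd_mul_left_left,
        Nat.mul_div_cancel _ (Nat.pos_of_ne_zero (by rintro rfl; simp at hm))])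
    obtain ⟨h, hh, hle⟩ := U.into (zpowers_le.mpr (H.pow_mem n.2 m)) h2
    have hnN : n ∈ N := hN ▸ hq
    have h3 : h * (n : G) ^ m * h⁻¹ ∈ core2 H := U.inf_le_core hNM (hnml _ hNn)
      ⟨hle (conj_mem_cjg (mem_zpowers _)), hnml _ hNn h hh _ (pow_mem (mem_map_of_mem H.subtype hnN) m)⟩
    have h4 : (n : G) ^ m ∈ core2 H := by
      have h5 := core2_norm H h⁻¹ (inv_mem hh) _ h3
      rwa [inv_inv, show h⁻¹ * (h * (n : G) ^ m * h⁻¹) * h = (n : G) ^ m by group] at h5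
    have h6 : φ n ^ m = 1 := by rw [← map_pow]; exact hO _ h4
    obtain ⟨k, hk⟩ := hQp ⟨φ n, hq⟩
    exact orderOf_eq_one_iff.mp (Nat.eq_one_of_dvd_coprimes
      ((Nat.coprime_pow_left_iff (Nat.succ_pos k) _ _).mpr ((Nat.Prime.coprime_iff_not_dvd Nat.prime_two).mpr hm))
      (orderOf_dvd_of_pow_eq_one (by
        rw [pow_succ, pow_mul, show φ n ^ 2 ^ k = 1 from congrArg Subtype.val hk, one_pow]))
      (orderOf_dvd_of_pow_eq_one h6))
  · rintro _ ⟨h, rfl⟩ v hv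
    exact hVn h v hv
  · refine eq_bot_iff.mpr ?_
    rintro _ ⟨⟨h, rfl⟩, hc⟩
    exact mem_bot.mpr (hfaith h hc)

/-- No over-offender on an abelian layer. -/
theorem upper_bound (U : UMax H T M) {W X B : Subgroup G} (hWX : W ≤ X) (hXH : X ≤ H) (hWn : Nml H W) (hXn : Nml H X)
    (hXc : ∀ x ∈ X, ∀ y ∈ X, ⁅x, y⁆ ∈ W) (hXs : ∀ x ∈ X, x * x ∈ W) (hO : ⁅X, core2 H⁆ ≤ W)
    (hE : ¬ ⁅X, odd H⁆ ≤ W) (hB : B ≤ T) (hBc : ∀ b ∈ B, ∀ b' ∈ B, ∀ x ∈ X, ⁅⁅b, b'⁆, x⁆ ∈ W) :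
    (B ⊓ core2 H).relIndex B ≤ ((X ⊓ centralizer (B : Set G)) ⊔ W).relIndex X := by
  haveI : Fact (Nat.Prime 2) := ⟨Nat.prime_two⟩
  haveI : (W.subgroupOf H).Normal := ⟨fun n hn g => mem_subgroupOf.mpr (hWn g g.2 n (mem_subgroupOf.mp hn))⟩
  haveI hXN : (X.subgroupOf H).Normal := ⟨fun n hn g => mem_subgroupOf.mpr (hXn g g.2 n (mem_subgroupOf.mp hn))⟩
  obtain ⟨π, hπ⟩ : ∃ π, π = QuotientGroup.mk' (W.subgroupOf H) := ⟨_, rfl⟩
  have hπs : Function.Surjective π := hπ ▸ QuotientGroup.mk'_surjective _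
  have hπ1 : ∀ {z : G} (hz : z ∈ H), π ⟨z, hz⟩ = 1 ↔ z ∈ W := fun hz => by
    rw [hπ, QuotientGroup.mk'_apply, QuotientGroup.eq_one_iff, mem_subgroupOf]
  obtain ⟨X', hX'⟩ : ∃ X', X' = (X.subgroupOf H).map π := ⟨_, rfl⟩
  haveI : X'.Normal := hX' ▸ hXN.map π hπs
  obtain ⟨φ, hφ⟩ : ∃ φ : ↥H →* Amb X', φ = (act X').comp π := ⟨_, rfl⟩
  have hφ1 : ∀ h : ↥H, φ h = 1 ↔ ∀ x ∈ X, ⁅(h : G), x⁆ ∈ W := fun h => by
    rw [hφ, MonoidHom.comp_apply, CharTransfer.act_one_iff, mem_centralizer_iff]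
    constructor
    · intro hc x hx
      refine (hπ1 (H.mul_mem (H.mul_mem (H.mul_mem h.2 (hXH hx)) (H.inv_mem h.2)) (H.inv_mem (hXH hx)))).mp ?_
      have e := hc (π ⟨x, hXH hx⟩) (hX' ▸ mem_map_of_mem π (mem_subgroupOf.mpr hx))
      show π ⁅h, ⟨x, hXH hx⟩⁆ = 1
      rw [map_commutatorElement, commutatorElement_eq_one_iff_mul_comm]
      exact e.symm
    · intro hc _ hy
      rw [hX'] at hy
      obtain ⟨x, hx, rfl⟩ := hy
      have e : π ⁅h, x⁆ = 1 := (hπ1 (⁅h, x⁆).2).mpr (hc x hx)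
      rw [map_commutatorElement, commutatorElement_eq_one_iff_mul_comm] at e
      exact e.symm
  have hV : ∀ v ∈ modW X', ∃ x : ↥H, (x : G) ∈ X ∧ ∃ hx : π x ∈ X', v = SemidirectProduct.inl ⟨π x, hx⟩ := by
    rintro _ ⟨⟨w, hw⟩, rfl⟩
    obtain ⟨x, hx, e⟩ := hX'.le hw
    exact ⟨x, hx, e.symm ▸ hw, congrArg _ (Subtype.ext e.symm)⟩
  obtain ⟨PH, VH, hkM, hkO⟩ := image_hyps U φ (modW X')
    (fun v hv w hw => by
      obtain ⟨x, hx, hx', rfl⟩ := hV v hv
      obtain ⟨y, hy, hy', rfl⟩ := hV w hw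
      rw [← map_mul, ← map_mul]
      congr 1
      refine Subtype.ext (commutatorElement_eq_one_iff_mul_comm.mp ?_)
      rw [← map_commutatorElement]
      exact (hπ1 (⁅x, y⁆).2).mpr (hXc x hx y hy))
    (fun v hv => by
      obtain ⟨x, hx, hx', rfl⟩ := hV v hv
      rw [← map_mul, ← map_one (SemidirectProduct.inl : ↥X' →* Amb X')]
      congr 1
      refine Subtype.ext ?_
      show π x * π x = 1
      rw [← map_mul]
      exact (hπ1 (x * x).2).mpr (hXs x hx))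
    (fun h v ⟨w, e⟩ => by
      rw [← e, hφ, MonoidHom.comp_apply, CharTransfer.act_inl]
      exact ⟨_, rfl⟩)
    (fun h hc => by
      rw [hφ, MonoidHom.comp_apply] at hc ⊢
      rw [CharTransfer.act_one_iff, mem_centralizer_iff]
      intro w hw
      exact ((CharTransfer.act_eq_iff X' (π h) ⟨w, hw⟩).mp
        (mul_inv_eq_iff_eq_mul.mpr (mem_centralizer_iff.mp hc _ ⟨_, rfl⟩).symm)).symm)
    (fun hall => hE (commutator_le.mpr fun x hx e he => by
      rw [← commutatorElement_inv]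
      exact W.inv_mem ((hφ1 ⟨e, oddGenerated_le H he⟩).mp (hall _ he) x hx)))
    (fun h hh => (hφ1 h).mpr fun x hx => by
      rw [← commutatorElement_inv]
      exact W.inv_mem (hO (commutator_mem_commutator hx hh)))
  obtain ⟨XB, hXB⟩ : ∃ XB, XB = (B.subgroupOf H).map φ := ⟨_, rfl⟩
  have hBH : B ≤ H := hB.trans U.TH
  have hXT : XB ≤ (T.subgroupOf H).map φ :=
    hXB ▸ map_mono fun b hb => mem_subgroupOf.mpr (hB (mem_subgroupOf.mp hb))
  have hXcomm : ∀ a ∈ XB, ∀ b ∈ XB, a * b = b * a := by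
    rw [hXB]
    rintro _ ⟨a, ha, rfl⟩ _ ⟨b, hb, rfl⟩
    rw [← commutatorElement_eq_one_iff_mul_comm, ← map_commutatorElement, hφ1]
    exact hBc a ha b hb
  have hXp : IsPGroup 2 XB := hXB ▸ ((U.pT.to_le hB).of_equiv (subgroupOfEquivOfLe hBH).symm).map φ
  have hupper : Nat.card XB * Nat.card ↥(modW X' ⊓ centralizer (XB : Set (Amb X'))) ≤ Nat.card (modW X') := by
    by_contra hlt
    have hoff := (Nat.lt_of_not_le hlt).le
    by_cases hb : XB = ⊥
    · rw [hb, card_bot, one_mul] at hlt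
      exact hlt (Subgroup.card_le_of_le inf_le_left)
    · obtain ⟨⟨r, F, hF⟩, -⟩ := MinModule.main PH VH (hXT.trans PH.syl.1) hb hXp hXcomm hoff
      exact hlt (PushBlocks.offender_exact VH hF PH.syl.1 PH.syl.2.1 ⟨hXT, hXcomm, hoff⟩).upper
  -- the orders
  have hcard : (B ⊓ core2 H).relIndex B ≤ Nat.card XB := by
    rw [hXB, ← relIndex_ker]
    have e : φ.ker.relIndex (B.subgroupOf H) = (φ.ker.map H.subtype).relIndex B := by
      conv_rhs => rw [← map_subgroupOf_eq_of_le hBH]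
      rw [relIndex_map_map_of_injective _ _ H.subtype_injective]
    rw [e, ← inf_relIndex_right (φ.ker.map H.subtype)]
    exact relIndex_le_of_le_left (le_inf inf_le_right
      ((inf_comm _ B).le.trans (le_trans (le_inf (inf_le_left.trans hB) inf_le_right) hkO))) (rel_ne _ _)
  obtain ⟨J, hJ⟩ : ∃ J, J = ((X ⊓ centralizer (B : Set G)).subgroupOf H).map π := ⟨_, rfl⟩
  have hJX : J ≤ X' := hJ ▸ hX' ▸ map_mono (comap_mono inf_le_left)
  have hJc : Nat.card J ≤ Nat.card ↥(modW X' ⊓ centralizer (XB : Set (Amb X'))) := by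
    rw [hXB, hφ, ← Subgroup.map_map, CharTransfer.card_fix]
    refine Subgroup.card_le_of_le (le_inf hJX ?_)
    rw [hJ]
    rintro _ ⟨x, hx, rfl⟩
    refine mem_centralizer_iff.mpr ?_
    rintro _ ⟨b, hb, rfl⟩
    rw [← map_mul, ← map_mul]
    exact congrArg π (Subtype.ext (mem_centralizer_iff.mp (mem_subgroupOf.mp hx).2 b (mem_subgroupOf.mp hb)))
  have hidx : J.relIndex X' = ((X ⊓ centralizer (B : Set G)) ⊔ W).relIndex X := by
    rw [hJ, hX', relIndex_map_map, hπ, QuotientGroup.ker_mk', ← subgroupOf_sup (inf_le_left.trans hXH) (hWX.trans hXH),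
      ← subgroupOf_sup hXH (hWX.trans hXH), sup_eq_left.mpr hWX, relIndex_subgroupOf hXH]
  have hV' : Nat.card (modW X') = Nat.card J * J.relIndex X' := by
    rw [modW, ← Nat.card_congr (MonoidHom.ofInjective SemidirectProduct.inl_injective).toEquiv,
      Grp.card_mul_relIndex hJX]
  rw [← hidx]
  refine hcard.trans (Nat.le_of_mul_le_mul_right ?_ (Nat.card_pos (α := J)))
  rw [mul_comm (J.relIndex X'), ← hV']
  exact (Nat.mul_le_mul_left _ hJc).trans hupper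

end Cfsg.Agent.Transfer.QRC
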