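import Cfsg.Agent.Lib.Transfer.QRC.CaseA
import Cfsg.Agent.Lib.Transfer.QRC.Blocks

/-!
# The qrc-lemma
-/

set_option autoImplicit false
set_option linter.unusedSectionVars false
set_option linter.style.haveILetI false

open scoped commutatorElement

namespace Cfsg.Agent.Transfer.QRC

open Subgroup

universe u

variable {G : Type u} [Group G] [Finite G]

/-- The qrc-lemma. -/
theorem qrc (hE : Cfsg.IsOfEvenCharacteristic G) (T : Sylow 2 G) (M M₀ H V : Subgroup G)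
    (hM : M ∈ Cfsg.maxTwoLocalsContaining (T : Subgroup G))
    (hTM₀ : (T : Subgroup G) ≤ M₀) (hM₀M : M₀ ≤ M) (hH : H ∈ Cfsg.calHMin (T : Subgroup G) M)
    (hV : V ∈ Cfsg.calR2 M₀)
    (hR : (Cfsg.pCore 2 ↥M₀).map M₀.subtype = (T : Subgroup G) ⊓ Subgroup.centralizer (V : Set G))
    (hI : H ⊓ M ≤ Subgroup.normalizer (Cfsg.oddGenerated M₀ : Set G) ∨
      H ⊓ M ≤ Subgroup.normalizer (V : Set G)) :
    (∃ R₀ : Subgroup G, R₀ ≠ ⊥ ∧ R₀ ≤ (Cfsg.pCore 2 ↥M₀).map M₀.subtype ∧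
        M₀ ⊔ H ≤ Subgroup.normalizer (R₀ : Set G)) ∨
      (¬ V ≤ (Cfsg.pCore 2 ↥H).map H.subtype ∧ Cfsg.CubicParamLE M₀ V 2) ∨
      Cfsg.QuadParamLE M₀ V 2 := by
  haveI : Fact (Nat.Prime 2) := ⟨Nat.prime_two⟩
  obtain ⟨⟨⟨hHc, hTH⟩, hHM⟩, hHmin⟩ := hH
  have hcore_ne : core2 H ≠ ⊥ := fun h => hHc ((map_eq_bot_iff_of_injective _ H.subtype_injective).mp h)
  obtain ⟨Mc, hMc⟩ : ∃ Mc, Mc = H ⊓ M := ⟨_, rfl⟩
  have hTMc : (T : Subgroup G) ≤ Mc := hMc ▸ le_inf hTH hM.2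
  have hMcH : Mc < H := hMc ▸ lt_of_le_of_ne inf_le_left fun e => hHM (e.ge.trans inf_le_right)
  have huniq : ∀ Y : Subgroup G, (T : Subgroup G) ≤ Y → Y < H → Y ≤ Mc := fun Y hTY hYH => hMc ▸ le_inf hYH.le (by
    by_contra hYM
    have hY : core2 Y ≠ ⊥ := fun h => hcore_ne (le_bot_iff.mp ((le_core2 ((core2_le_sylow T hTH).trans hTY)
      (core2_isPGroup H) fun g hg => core2_norm H g (hYH.le hg)).trans h.le))
    exact hYH.ne (hHmin Y ⟨⟨fun h => hY (by rw [core2, h, Subgroup.map_bot]), hTY⟩, hYM⟩ hYH.le))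
  have Um : UMax H (T : Subgroup G) Mc := ⟨T.isPGroup', hTH,
    fun hd => T.not_dvd_index (hd.trans (relIndex_dvd_index_of_le hTH)), hTMc, hMcH, huniq⟩
  have hTV : (T : Subgroup G) ≤ normalizer (V : Set G) := hTM₀.trans hV.2.1
  have hVc : ∀ a ∈ V, ∀ b ∈ V, a * b = b * a := fun a ha b hb =>
    congrArg Subtype.val (hV.2.2.1.1.is_comm.comm (⟨a, ha⟩ : ↥V) ⟨b, hb⟩)
  have hVs : ∀ a ∈ V, a * a = 1 := fun a ha => by rw [← pow_two]; exact hV.2.2.1.2 a ha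
  have hVp : IsPGroup 2 V := fun a => ⟨1, Subtype.ext (by rw [coe_pow, coe_one, pow_one]; exact hV.2.2.1.2 a a.2)⟩
  obtain ⟨Q, hQ⟩ : ∃ Q, Q = core2 M₀ := ⟨_, rfl⟩
  have hQe : Q = (T : Subgroup G) ⊓ centralizer (V : Set G) := hQ.trans hR
  have hVQ : V ≤ Q := hQ ▸ le_core2 hV.1 hVp (Nml.of_norm hV.2.1)
  have hQT : Q ≤ (T : Subgroup G) := hQe ▸ inf_le_left
  have hM₀Q : M₀ ≤ normalizer (Q : Set G) := hQ ▸ norm_of_conj (core2_norm M₀)
  have hcn : Q ≠ ⊥ → ¬ 2 ∣ Q.relIndex (odd H ⊔ Q) →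
      ∃ R₀ : Subgroup G, R₀ ≠ ⊥ ∧ R₀ ≤ (Cfsg.pCore 2 ↥M₀).map M₀.subtype ∧
        M₀ ⊔ H ≤ Subgroup.normalizer (R₀ : Set G) := fun hQne hodd => by
    obtain ⟨R₀, h1, h2, h3⟩ :=
      common_normal hE T M₀ H hTM₀ hTH hcore_ne ⟨Mc, hTMc, hMcH, huniq⟩ Q hQne hQT hodd hM₀Q
    exact ⟨R₀, h1, h2.trans hQ.le, h3⟩
  by_cases hV0 : V = ⊥
  · have hTQ : (T : Subgroup G) ≤ Q := hQe ▸ le_inf le_rfl fun t _ => mem_centralizer_iff.mpr fun v hv => by
      rw [hV0] at hv; rw [mem_bot.mp hv]; simp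
    refine .inl (hcn (fun h => hcore_ne (le_bot_iff.mp ((core2_le_sylow T hTH).trans (hTQ.trans h.le)))) fun hd => ?_)
    rw [le_antisymm hQT hTQ] at hd
    exact T.not_dvd_index (hd.trans (relIndex_dvd_index_of_le le_sup_right))
  have hquad : ∀ {g : G}, QTarget (cjg g V) → Cfsg.QuadParamLE M₀ V 2 := fun h => h.quad T hTV hTM₀ rfl
  have hquad1 : QTarget V → Cfsg.QuadParamLE M₀ V 2 := fun h => h.quad T hTV hTM₀ (cjg_one V).symm
  by_cases hqt : QTarget V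
  · exact .inr (.inr (hquad1 hqt))
  by_cases hVO : V ≤ core2 H
  swap
  · -- `V` outside the core
    have hom := (omega_fixed Um hTV (hVQ.trans hQT) hVc hVO).resolve_left hqt
    obtain ⟨Vh, hle, hvT, hnml, hcomm, hsq⟩ : ∃ Vh : Subgroup G, (∀ m ∈ Mc, cjg m V ≤ Vh) ∧
        Vh ≤ (T : Subgroup G) ∧ Nml Mc Vh ∧ (∀ a ∈ Vh, ∀ b ∈ Vh, a * b = b * a) ∧ ∀ a ∈ Vh, a * a = 1 := by
      rcases hI with hN0 | hNV
      · obtain ⟨Mp, hMp⟩ : ∃ Mp, Mp = odd M₀ ⊔ Mc := ⟨_, rfl⟩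
        have hM₀p : M₀ ≤ Mp := (le_oddGenerated_sup T hTM₀).trans (hMp ▸ sup_le_sup_left hTMc _)
        have hTp : (T : Subgroup G) ≤ Mp := hTM₀.trans hM₀p
        have hpM : Mp ≤ M := hMp ▸ sup_le ((oddGenerated_le M₀).trans hM₀M) (hMc ▸ inf_le_right)
        obtain ⟨S0, hS0p, hS0, hMe⟩ := hM.1.1
        have hS0M : S0 ≤ core2 M := by
          rw [hMe]
          exact le_core2 le_normalizer hS0p (Nml.of_norm le_rfl)
        have hPne : core2 Mp ≠ ⊥ := fun h => hS0 (le_bot_iff.mp (hS0M.trans ((le_core2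
          ((core2_le_sylow T hM.2).trans hTp) (core2_isPGroup M) fun g hg => core2_norm M g (hpM hg)).trans h.le)))
        have hPQ : core2 Mp ≤ Q := hQ ▸ le_core2 ((core2_le_sylow T hTp).trans hTM₀) (core2_isPGroup Mp)
          fun g hg => core2_norm Mp g (hM₀p hg)
        have hVP : V ≤ core2 Mp := fun v hv => charTwo_over hE T hTp hPne
          ⟨hM₀p (hV.1 hv), centralizer_le (SetLike.coe_subset_coe.mpr hPQ)
            (le_centralizer_iff.mp (hQe.le.trans inf_le_right) hv)⟩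
        have hconj : ∀ m ∈ Mc, cjg m V ≤ core2 Mp := fun m hm =>
          cjg_le.mpr fun v hv => core2_norm Mp m (hMp ▸ mem_sup_right hm) v (hVP hv)
        obtain ⟨hc, hs⟩ := span_el (A := V) (H := Mc) hVs fun m hm a ha b hb =>
          ((mem_centralizer_iff.mp (hQe.le (hPQ (hconj m hm hb))).2) a ha)
        exact ⟨span V Mc, fun m hm => cjg_le_span hm, (span_le hconj).trans (core2_le_sylow T hTp), span_nml V Mc, hc, hs⟩
      · rw [← hMc] at hNV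
        exact ⟨V, fun m hm => (cjg_of_norm (hNV hm)).le, hVQ.trans hQT, .of_norm hNV, hVc, hVs⟩
    obtain ⟨g, hg | hg⟩ := (⟨hE, Um, hcore_ne, hTV, hle, hvT, hnml, hcomm, hsq, hom⟩ :
      Hat T H Mc V Vh).target hVO
    · exact .inr (.inr (hquad hg))
    · exact .inr (.inl ⟨hVO, hg.cubic T hTV hTM₀ rfl⟩)
  -- `V` inside the core
  by_cases hHV : H ≤ normalizer (V : Set G)
  · exact .inl ⟨V, hV0, hVQ.trans hQ.le, sup_le hV.2.1 hHV⟩
  have hOT : core2 H ≤ (T : Subgroup G) := Um.core_le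
  have hcomml : ∀ l : G, cjg l V ≤ core2 H → cjg l⁻¹ V ≤ core2 H → cjg l V ≤ centralizer (V : Set G) := by
    intro l h1 h2
    by_contra hne
    refine hqt (mutual_target hVp hVc hVs l ?_ ((h1.trans hOT).trans hTV) hne)
    have h3 := le_normalizer_cjg (m := l) ((h2.trans hOT).trans hTV)
    rwa [cjg_cjg_inv] at h3
  have hconjH : ∀ h ∈ H, cjg h V ≤ core2 H := fun h hh => cjg_le.mpr fun v hv => core2_norm H h hh v (hVO hv)
  have hc : ∀ h ∈ H, ∀ a ∈ V, ∀ b ∈ cjg h V, a * b = b * a := fun h hh a ha b hb =>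
    mem_centralizer_iff.mp (hcomml h (hconjH h hh) (hconjH h⁻¹ (inv_mem hh)) hb) a ha
  have hmem : ∀ j, (∀ l ∈ Alt M₀ H j, cjg l V ≤ core2 H) → ∀ l ∈ Alt M₀ H j, cjg l V ≤ Q := fun j hj l hl =>
    hQe ▸ le_inf ((hj l hl).trans hOT) (hcomml l (hj l hl) (hj _ (alt_inv hl)))
  rcases escape (N := M₀) Um hTV hVO hHV hVs hc (fun j hj n hn l hl => by
      rw [cjg_mul]
      exact ((cjg_mono n (hmem j hj l hl)).trans (cjg_of_norm (hM₀Q hn)).le).trans hQT) with hall | ⟨B, hB⟩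
  · obtain ⟨R0, hVR0, -, hHR0, hMR0, hle⟩ := alt_closure hVO hall
    exact .inl ⟨R0, fun h => hV0 (le_bot_iff.mp (hVR0.trans h.le)),
      (hle Q fun j l hl => hmem j (hall j) l hl).trans hQ.le, sup_le hMR0 hHR0⟩
  · obtain ⟨hcomm, hsq⟩ := span_el hVs hc
    have S : Sit H (T : Subgroup G) Mc V (span V H) := ⟨Um, hTV, hVO, hHV, rfl, hcomm, hsq⟩
    rcases S.blocks hB with h | h
    · exact absurd h hqt
    refine .inl (hcn (fun he => hV0 (le_bot_iff.mp (hVQ.trans he.le))) fun hd => ?_)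
    rw [relIndex_sup_eq ((hQT.trans hTH).trans (odd_nml H).le_norm)] at hd
    have hsyl := Fus.Fail.sylow_inf_normal Um.syl (oddGenerated_le H) (oddGenerated_norm H)
    refine hsyl.2.2 (hd.trans (relIndex_dvd_of_le_left _ ?_))
    exact hQe ▸ le_inf inf_le_left h

end Cfsg.Agent.Transfer.QRC
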