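import Mathlib
import Cfsg.Prelude.Def_Quasithin

/-!
# Nodes: rank one local subgroups over a fixed 2-subgroup, with their natural modules

A node over `B` is a module `W ≤ B` of a subgroup `L ≥ B` in which `B ⊓ C(W)` is the largest normal 2-subgroup and
`B` induces on `W` the full group of transvections with a fixed axis.
-/

set_option autoImplicit false

namespace Cfsg.Agent.Transfer.QRC

open Subgroup
open scoped commutatorElement

variable {G : Type*} [Group G]

/-- A node over `B`. -/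
structure Node (B W L : Subgroup G) : Prop where
  wb : W ≤ B
  bl : B ≤ L
  norm : ∀ l ∈ L, ∀ w ∈ W, l * w * l⁻¹ ∈ W
  comm : ∀ u ∈ W, ∀ v ∈ W, u * v = v * u
  sq : ∀ u ∈ W, u * u = 1
  core : ∀ N : Subgroup G, N ≤ L → IsPGroup 2 N → (∀ l ∈ L, ∀ n ∈ N, l * n * l⁻¹ ∈ N) →
    N ≤ B ⊓ centralizer (W : Set G)
  move : ∀ q ∈ B ⊓ centralizer (W : Set G), ∀ e ∈ Cfsg.oddGenerated L, ⁅q, e⁆ ∈ W
  gen : ∀ N : Subgroup G, (∀ l ∈ L, ∀ b ∈ B, l * b * l⁻¹ ∈ N) → L ≤ N
  sup : L ≤ Cfsg.oddGenerated L ⊔ B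
  central : ∀ u ∈ W, ∀ b ∈ B, ⁅b, u⁆ ∈ centralizer (B : Set G)
  fix : ∀ h ∈ B, h ∉ centralizer (W : Set G) → ∀ u ∈ W,
    ⁅h, u⁆ ∈ centralizer (Cfsg.oddGenerated L : Set G) → u ∈ centralizer (B : Set G)
  card : (W ⊓ centralizer (B : Set G)).relIndex W = (B ⊓ centralizer (W : Set G)).relIndex B
  irr : ∀ N ≤ W, (∀ l ∈ L, ∀ n ∈ N, l * n * l⁻¹ ∈ N) →
    N ≤ centralizer (Cfsg.oddGenerated L : Set G) ∨ N = W
  ncent : ¬ B ≤ centralizer (W : Set G)

theorem map_oddGenerated {G' : Type*} [Group G'] (f : G →* G') (hf : Function.Injective f) (L : Subgroup G) :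
    (Cfsg.oddGenerated L).map f = Cfsg.oddGenerated (L.map f) := by
  show (Subgroup.closure _).map f = Subgroup.closure _
  rw [MonoidHom.map_closure]
  congr 1
  ext y
  constructor
  · rintro ⟨x, ⟨hx, ho⟩, rfl⟩
    exact ⟨mem_map_of_mem f hx, by rwa [orderOf_injective f hf]⟩
  · rintro ⟨⟨x, hx, rfl⟩, ho⟩
    exact ⟨x, ⟨hx, by rwa [orderOf_injective f hf] at ho⟩, rfl⟩

theorem map_mem_centralizer {G' : Type*} [Group G'] (f : G →* G') (hf : Function.Injective f) (X : Subgroup G)
    {x : G} : f x ∈ centralizer ((X.map f : Subgroup G') : Set G') ↔ x ∈ centralizer (X : Set G) := by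
  refine ⟨fun h => mem_centralizer_iff.mpr fun y hy => hf ?_, fun h => mem_centralizer_iff.mpr ?_⟩
  · rw [map_mul, map_mul]
    exact mem_centralizer_iff.mp h _ (mem_map_of_mem f hy)
  · rintro _ ⟨y, hy, rfl⟩
    rw [← map_mul, ← map_mul, mem_centralizer_iff.mp h y hy]

theorem map_inf_centralizer {G' : Type*} [Group G'] (f : G →* G') (hf : Function.Injective f) (A X : Subgroup G) :
    (A ⊓ centralizer (X : Set G)).map f = A.map f ⊓ centralizer ((X.map f : Subgroup G') : Set G') := by
  ext y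
  constructor
  · rintro ⟨x, ⟨h1, h2⟩, rfl⟩
    exact ⟨mem_map_of_mem f h1, (map_mem_centralizer f hf X).mpr h2⟩
  · rintro ⟨⟨x, hx, rfl⟩, h2⟩
    exact ⟨x, ⟨hx, (map_mem_centralizer f hf X).mp h2⟩, rfl⟩

theorem Node.map {G' : Type*} [Group G'] (f : G →* G') (hf : Function.Injective f) {B W L : Subgroup G}
    (h : Node B W L) : Node (B.map f) (W.map f) (L.map f) where
  wb := map_mono h.wb
  bl := map_mono h.bl
  norm := by
    rintro _ ⟨l, hl, rfl⟩ _ ⟨w, hw, rfl⟩
    exact ⟨l * w * l⁻¹, h.norm l hl w hw, by simp⟩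
  comm := by
    rintro _ ⟨u, hu, rfl⟩ _ ⟨v, hv, rfl⟩
    rw [← map_mul, ← map_mul, h.comm u hu v hv]
  sq := by
    rintro _ ⟨u, hu, rfl⟩
    rw [← map_mul, h.sq u hu, map_one]
  core := fun N hN hp hn => by
    rw [← map_inf_centralizer f hf]
    obtain ⟨M, hM⟩ : ∃ M, M = N.comap f := ⟨_, rfl⟩
    have e : M.map f = N := hM ▸ map_comap_eq_self (hN.trans (map_le_range f L))
    rw [← e]
    refine map_mono (h.core M ?_ ?_ fun l hl n hn' => ?_)
    · intro x hx
      obtain ⟨l, hl, e'⟩ := hN (mem_comap.mp (hM ▸ hx))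
      rwa [← hf e']
    · exact hM ▸ hp.comap_of_injective f hf
    · rw [hM, mem_comap] at hn' ⊢
      simpa using hn _ (mem_map_of_mem f hl) _ hn'
  move := fun q hq e he => by
    rw [← map_inf_centralizer f hf] at hq
    rw [← map_oddGenerated f hf] at he
    obtain ⟨q, hq', rfl⟩ := hq
    obtain ⟨e, he', rfl⟩ := he
    rw [← map_commutatorElement]
    exact mem_map_of_mem f (h.move q hq' e he')
  gen := fun N hN => map_le_iff_le_comap.mpr (h.gen _ fun l hl b hb => by
    simpa using hN _ (mem_map_of_mem f hl) _ (mem_map_of_mem f hb))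
  sup := by
    rw [← map_oddGenerated f hf, ← Subgroup.map_sup]
    exact map_mono h.sup
  central := by
    rintro _ ⟨u, hu, rfl⟩ _ ⟨b, hb, rfl⟩
    rw [← map_commutatorElement, map_mem_centralizer f hf]
    exact h.central u hu b hb
  fix := by
    rintro _ ⟨b, hb, rfl⟩ hnot _ ⟨u, hu, rfl⟩ hcomm
    rw [map_mem_centralizer f hf] at hnot ⊢
    rw [← map_commutatorElement, ← map_oddGenerated f hf, map_mem_centralizer f hf] at hcomm
    exact h.fix b hb hnot u hu hcomm
  card := by
    rw [← map_inf_centralizer f hf, ← map_inf_centralizer f hf, relIndex_map_map_of_injective _ _ hf,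
      relIndex_map_map_of_injective _ _ hf]
    exact h.card
  irr := fun N hN hn => by
    have e : (N.comap f).map f = N := map_comap_eq_self (hN.trans (map_le_range f W))
    rcases h.irr (N.comap f) (fun x hx => by
        obtain ⟨w, hw, e'⟩ := hN (mem_comap.mp hx)
        rwa [← hf e'])
      (fun l hl n hn' => by
        rw [mem_comap] at hn' ⊢
        simpa using hn _ (mem_map_of_mem f hl) _ hn') with h1 | h1
    · left
      rw [← map_oddGenerated f hf, ← e]
      rintro _ ⟨x, hx, rfl⟩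
      exact (map_mem_centralizer f hf _).mpr (h1 hx)
    · right
      rw [← e, h1]
  ncent := fun hle => h.ncent fun b hb => (map_mem_centralizer f hf W).mp (hle (mem_map_of_mem f hb))

/-- The conjugate of a subgroup. -/
abbrev cjg (m : G) (X : Subgroup G) : Subgroup G := X.map (MulAut.conj m).toMonoidHom

theorem cjg_mul (a b : G) (X : Subgroup G) : cjg (a * b) X = cjg a (cjg b X) := by
  rw [cjg, cjg, cjg, Subgroup.map_map]
  congr 1
  ext x
  simp [mul_assoc]

theorem cjg_one (X : Subgroup G) : cjg 1 X = X := by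
  ext x
  simp [cjg]

theorem mem_cjg {m : G} {X : Subgroup G} {y : G} : y ∈ cjg m X ↔ m⁻¹ * y * m ∈ X := by
  constructor
  · rintro ⟨x, hx, rfl⟩
    simpa [mul_assoc] using hx
  · exact fun h => ⟨_, h, by simp [mul_assoc]⟩

theorem conj_mem_cjg {m x : G} {X : Subgroup G} (hx : x ∈ X) : m * x * m⁻¹ ∈ cjg m X :=
  ⟨x, hx, by simp⟩

theorem cjg_of_norm {m : G} {X : Subgroup G} (h : m ∈ normalizer (X : Set G)) : cjg m X = X := by
  ext y
  rw [mem_cjg]
  exact (mem_normalizer_iff'.mp h (m⁻¹ * y)).trans (by simp [mul_assoc])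

theorem Node.conj {B W L : Subgroup G} (h : Node B W L) {m : G} (hm : m ∈ normalizer (B : Set G)) :
    Node B (cjg m W) (cjg m L) := by
  have h' : Node (cjg m B) (cjg m W) (cjg m L) :=
    h.map (MulAut.conj m).toMonoidHom (MulAut.conj m).injective
  rwa [cjg_of_norm hm] at h'

theorem Node.conj_relIndex {B W : Subgroup G} {m : G} (hm : m ∈ normalizer (B : Set G)) :
    (B ⊓ centralizer ((cjg m W : Subgroup G) : Set G)).relIndex B =
      (B ⊓ centralizer (W : Set G)).relIndex B := by
  have hinj : Function.Injective (MulAut.conj m).toMonoidHom := (MulAut.conj m).injective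
  conv_lhs => rw [← cjg_of_norm hm, ← map_inf_centralizer _ hinj]
  exact relIndex_map_map_of_injective _ _ hinj

namespace Node

variable {B W L : Subgroup G} (h : Node B W L)
include h

theorem le_cent : W ≤ centralizer (W : Set G) := fun u hu =>
  mem_centralizer_iff.mpr fun v hv => h.comm v hv u hu

theorem wl : W ≤ L := h.wb.trans h.bl

theorem inv_eq {u : G} (hu : u ∈ W) : u⁻¹ = u := inv_eq_of_mul_eq_one_right (h.sq u hu)

/-- Conjugating an element centralising the module by an element of odd order moves it inside its coset. -/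
theorem move_conj {q e : G} (hq : q ∈ B ⊓ centralizer (W : Set G)) (he : e ∈ Cfsg.oddGenerated L) :
    ∃ w ∈ W, e * q * e⁻¹ = w * q := by
  have h1 := h.move q⁻¹ (inv_mem hq) e he
  have h2 : q⁻¹ * (e * q * e⁻¹) ∈ W := by
    rw [commutatorElement_def, inv_inv] at h1
    simpa [mul_assoc] using h1
  refine ⟨q⁻¹ * (e * q * e⁻¹), h2, ?_⟩
  rw [mem_centralizer_iff.mp hq.2 _ h2, mul_inv_cancel_left]

/-- Squares of elements centralising the module are fixed by the elements of odd order. -/
theorem sq_fix {q : G} (hq : q ∈ B ⊓ centralizer (W : Set G)) :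
    q * q ∈ centralizer (Cfsg.oddGenerated L : Set G) := by
  refine mem_centralizer_iff.mpr fun e he => ?_
  obtain ⟨w, hw, hc⟩ := h.move_conj hq he
  have hwq : w * q = q * w := mem_centralizer_iff.mp hq.2 w hw
  refine mul_inv_eq_iff_eq_mul.mp ?_
  calc e * (q * q) * e⁻¹ = e * q * e⁻¹ * (e * q * e⁻¹) := by group
    _ = w * q * (w * q) := by rw [hc]
    _ = w * (q * w) * q := by group
    _ = w * (w * q) * q := by rw [hwq]
    _ = w * w * (q * q) := by group
    _ = q * q := by rw [h.sq w hw, one_mul]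

/-- Commutators of elements centralising the module are fixed by the elements of odd order. -/
theorem comm_fix {q r : G} (hq : q ∈ B ⊓ centralizer (W : Set G)) (hr : r ∈ B ⊓ centralizer (W : Set G)) :
    ⁅q, r⁆ ∈ centralizer (Cfsg.oddGenerated L : Set G) := by
  refine mem_centralizer_iff.mpr fun e he => ?_
  obtain ⟨w, hw, hcq⟩ := h.move_conj hq he
  obtain ⟨v, hv, hcr⟩ := h.move_conj hr he
  have hwq : Commute w q := mem_centralizer_iff.mp hq.2 w hw
  have hwr : Commute w r := mem_centralizer_iff.mp hr.2 w hw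
  have hvq : Commute v q := mem_centralizer_iff.mp hq.2 v hv
  have hvr : Commute v r := mem_centralizer_iff.mp hr.2 v hv
  have hwv : Commute w v := h.comm w hw v hv
  refine mul_inv_eq_iff_eq_mul.mp ?_
  have e1 : e * ⁅q, r⁆ * e⁻¹ = ⁅e * q * e⁻¹, e * r * e⁻¹⁆ := by simp only [commutatorElement_def]; group
  rw [e1, hcq, hcr, commutatorElement_def, commutatorElement_def]
  have k1 : Commute w (v * r) := hwv.mul_right hwr
  have k2 : Commute v q := hvq
  calc w * q * (v * r) * (w * q)⁻¹ * (v * r)⁻¹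
      = w * (q * (v * r) * q⁻¹) * w⁻¹ * (v * r)⁻¹ := by group
    _ = q * (v * r) * q⁻¹ * (v * r)⁻¹ := by
        have k3 : Commute w (q * (v * r) * q⁻¹) := (hwq.mul_right k1).mul_right hwq.inv_right
        rw [k3.eq, mul_inv_cancel_right]
    _ = q * v * r * q⁻¹ * r⁻¹ * v⁻¹ := by group
    _ = v * (q * r * q⁻¹ * r⁻¹) * v⁻¹ := by rw [← k2.eq]; group
    _ = q * r * q⁻¹ * r⁻¹ := by
        have k4 : Commute v (q * r * q⁻¹ * r⁻¹) := ((k2.mul_right hvr).mul_right k2.inv_right).mul_right hvr.inv_right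
        rw [k4.eq, mul_inv_cancel_right]

end Node

end Cfsg.Agent.Transfer.QRC
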