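import Cfsg.Agent.Lib.Transfer.QRC.NodeBasic

/-!
# Two nodes that do not commute

If two nodes over `B` do not commute then the subgroup `B` is the product of one of the modules and the centraliser
of the other; the graph of non-commuting nodes has no triangle, and a path of length three closes up.
-/

set_option autoImplicit false

namespace Cfsg.Agent.Transfer.QRC

open Subgroup
open scoped commutatorElement

variable {G : Type*} [Group G] [Finite G]

/-- The two subgroups do not commute. -/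
abbrev Adj (X Y : Subgroup G) : Prop := ¬ X ≤ centralizer (Y : Set G)

omit [Finite G] in
theorem Adj.symm {X Y : Subgroup G} (h : Adj X Y) : Adj Y X := fun h' => h (le_centralizer_iff.mp h')

omit [Finite G] in
theorem not_adj_self {B W L : Subgroup G} (h : Node B W L) : ¬ Adj W W := fun h' => h' h.le_cent

variable {B W L W' L' : Subgroup G}

omit [Finite G] in
theorem Node.inf_cent (h : Node B W L) (h' : Node B W' L') (hadj : Adj W W') :
    W' ⊓ centralizer (W : Set G) = W' ⊓ centralizer (B : Set G) := by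
  refine le_antisymm (fun y hy => ⟨hy.1, ?_⟩) (inf_le_inf_left _ (centralizer_le h.wb))
  obtain ⟨x, hx, hnot⟩ := SetLike.not_le_iff_exists.mp hadj
  refine h'.fix x (h.wb hx) hnot y hy.1 ?_
  rw [commutatorElement_eq_one_iff_mul_comm.mpr (mem_centralizer_iff.mp hy.2 x hx)]
  exact one_mem _

/-- If two nodes with the same index do not commute then `B` is the product of the second module and the centraliser
of the first. -/
theorem Node.cover (h : Node B W L) (h' : Node B W' L') (hadj : Adj W W')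
    (hq : (B ⊓ centralizer (W' : Set G)).relIndex B = (B ⊓ centralizer (W : Set G)).relIndex B) :
    ∀ b ∈ B, ∃ y ∈ W', ∃ q ∈ B ⊓ centralizer (W : Set G), b = y * q := by
  obtain ⟨Q, hQ⟩ : ∃ Q, Q = B ⊓ centralizer (W : Set G) := ⟨_, rfl⟩
  rw [← hQ] at hq ⊢
  have hQB : Q ≤ B := hQ ▸ inf_le_left
  haveI hn : (Q.subgroupOf B).Normal := ⟨fun x hx b => by
    rw [mem_subgroupOf, hQ, mem_inf] at hx ⊢
    refine ⟨(b * x * b⁻¹).2, mem_centralizer_iff.mpr fun w hw => ?_⟩
    have hw' : (b : G)⁻¹ * w * ((b : G)⁻¹)⁻¹ ∈ W := h.norm _ (inv_mem (h.bl b.2)) w hw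
    have e := mem_centralizer_iff.mp hx.2 _ hw'
    rw [inv_inv] at e
    show w * ((b : G) * x * (b : G)⁻¹) = (b : G) * x * (b : G)⁻¹ * w
    calc w * ((b : G) * x * (b : G)⁻¹) = (b : G) * ((b : G)⁻¹ * w * b * x) * (b : G)⁻¹ := by group
      _ = (b : G) * (x * ((b : G)⁻¹ * w * b)) * (b : G)⁻¹ := by rw [e]
      _ = _ := by group⟩
  have h1 : Q.relIndex W' = Q.relIndex B := by
    rw [← inf_relIndex_right Q W', show Q ⊓ W' = W' ⊓ centralizer (B : Set G) from ?_, h'.card, hq]
    rw [← h.inf_cent h' hadj, hQ]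
    exact le_antisymm (fun x hx => ⟨hx.2, hx.1.2⟩) fun x hx => ⟨⟨h'.wb hx.1, hx.2⟩, hx.1⟩
  obtain ⟨Y, hY⟩ : ∃ Y, Y = W'.subgroupOf B := ⟨_, rfl⟩
  have h2 : (Q.subgroupOf B).relIndex Y = (Q.subgroupOf B).index := by
    rw [hY, relIndex_subgroupOf h'.wb, h1]
    rfl
  have h3 : (Y ⊔ Q.subgroupOf B).index = 1 := by
    have e := relIndex_mul_index (le_sup_right : Q.subgroupOf B ≤ Y ⊔ Q.subgroupOf B)
    rw [relIndex_sup_right, h2] at e
    exact (Nat.mul_eq_left (index_ne_zero_of_finite)).mp e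
  intro b hb
  have hb' : (⟨b, hb⟩ : ↥B) ∈ Y ⊔ Q.subgroupOf B := by
    rw [index_eq_one.mp h3]
    exact mem_top _
  obtain ⟨y, hy, q, hq', e⟩ := Subgroup.mem_sup_of_normal_right.mp hb'
  rw [hY, mem_subgroupOf] at hy
  rw [mem_subgroupOf] at hq'
  exact ⟨_, hy, _, hq', (congrArg Subtype.val e).symm⟩

omit [Finite G] in
/-- The commutators of the first module with `B` are those with the second. -/
theorem Node.comm_eq (h : Node B W L) (h' : Node B W' L')
    (hc : ∀ b ∈ B, ∃ y ∈ W', ∃ q ∈ B ⊓ centralizer (W : Set G), b = y * q) :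
    ⁅W, B⁆ = ⁅W, W'⁆ := by
  refine le_antisymm (commutator_le.mpr fun u hu b hb => ?_) (commutator_mono le_rfl h'.wb)
  obtain ⟨y, hy, q, hq, rfl⟩ := hc b hb
  rw [show ⁅u, y * q⁆ = ⁅u, y⁆ * (y * ⁅u, q⁆ * y⁻¹) by simp only [commutatorElement_def]; group,
    commutatorElement_eq_one_iff_mul_comm.mpr (mem_centralizer_iff.mp hq.2 u hu), mul_one, mul_inv_cancel, mul_one]
  exact commutator_mem_commutator hu hy

omit [Finite G] in
theorem Node.comm_not_fix (h : Node B W L) :
    ¬ ⁅W, B⁆ ≤ centralizer (Cfsg.oddGenerated L : Set G) := fun hle => by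
  obtain ⟨b, hb, hnot⟩ := SetLike.not_le_iff_exists.mp h.ncent
  refine h.ncent (le_centralizer_iff.mp fun u hu => h.fix b hb hnot u hu (hle ?_))
  rw [commutator_comm]
  exact commutator_mem_commutator hb hu

variable {W'' L'' : Subgroup G}

omit [Finite G] in
/-- There is no triangle. -/
theorem Node.no_triangle (h : Node B W L) (h' : Node B W' L') (h'' : Node B W'' L'')
    (hc : ∀ b ∈ B, ∃ y ∈ W', ∃ q ∈ B ⊓ centralizer (W : Set G), b = y * q)
    (hc' : ∀ b ∈ B, ∃ y ∈ W, ∃ q ∈ B ⊓ centralizer (W' : Set G), b = y * q)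
    (hadj : Adj W'' W) : W'' ≤ centralizer (W' : Set G) := by
  obtain ⟨g1, hg1, hg1'⟩ := SetLike.not_le_iff_exists.mp hadj
  have key : ∀ g ∈ W'', g ∉ centralizer (W : Set G) → g ∈ centralizer (W' : Set G) := by
    intro g hg hgn
    obtain ⟨y, hy, o, ho, rfl⟩ := hc g (h''.wb hg)
    obtain ⟨u, hu, c, hc2, rfl⟩ := hc' o ho.1
    have hcW : c ∈ B ⊓ centralizer (W : Set G) := ⟨hc2.1, by
      have := mul_mem (inv_mem (h.le_cent hu)) ho.2
      rwa [inv_mul_cancel_left] at this⟩
    have hyn : y ∉ centralizer (W : Set G) := fun hyc => hgn (mul_mem hyc ho.2)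
    have e1 : Commute y c := mem_centralizer_iff.mp hc2.2 y hy
    have e2 : Commute u c := mem_centralizer_iff.mp hcW.2 u hu
    have hsq := h''.sq _ hg
    have e3 : ⁅y, u⁆ * (c * c) = 1 := by
      rw [commutatorElement_def, h'.inv_eq hy, h.inv_eq hu]
      calc y * u * y * u * (c * c) = y * u * (y * u * c) * c := by group
        _ = y * u * (c * (y * u)) * c := by rw [(e1.mul_left e2).eq]
        _ = y * (u * c) * (y * (u * c)) := by
            rw [show y * u * (c * (y * u)) * c = y * (u * c) * (y * (u * c)) by group]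
        _ = 1 := hsq
    have hyu : ⁅y, u⁆ ∈ centralizer (Cfsg.oddGenerated L : Set G) := by
      rw [eq_inv_of_mul_eq_one_left e3]
      exact inv_mem (h.sq_fix hcW)
    have hub : u ∈ centralizer (B : Set G) := h.fix y (h'.wb hy) hyn u hu hyu
    exact mul_mem (h'.le_cent hy) (mul_mem (centralizer_le h'.wb hub) hc2.2)
  intro g hg
  by_cases hgn : g ∈ centralizer (W : Set G)
  · have hm : g * g1 ∉ centralizer (W : Set G) := fun hh => hg1' ((mul_mem_cancel_left hgn).mp hh)
    exact (mul_mem_cancel_right (key g1 hg1 hg1')).mp (key _ (mul_mem hg hg1) hm)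
  · exact key g hg hgn

/-- All the nodes met below have the same index. -/
def Node.SameIndex (B X Y : Subgroup G) : Prop :=
  (B ⊓ centralizer (Y : Set G)).relIndex B = (B ⊓ centralizer (X : Set G)).relIndex B

/-- A path of length three closes up. -/
theorem Node.path_close {X1 X2 X3 X4 L1 L2 L3 L4 : Subgroup G} (h1 : Node B X1 L1) (h2 : Node B X2 L2)
    (h3 : Node B X3 L3) (h4 : Node B X4 L4) (i2 : Node.SameIndex B X1 X2) (i3 : Node.SameIndex B X1 X3)
    (i4 : Node.SameIndex B X1 X4) (a12 : Adj X1 X2) (a23 : Adj X2 X3) (a34 : Adj X3 X4) : Adj X1 X4 := by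
  intro h14
  have j21 : Node.SameIndex B X2 X1 := i2.symm
  have j23 : Node.SameIndex B X2 X3 := i3.trans i2.symm
  have j32 : Node.SameIndex B X3 X2 := j23.symm
  have j34 : Node.SameIndex B X3 X4 := i4.trans i3.symm
  have d1 := h1.comm_eq h2 (h1.cover h2 a12 i2)
  have d21 := h2.comm_eq h1 (h2.cover h1 a12.symm j21)
  have d23 := h2.comm_eq h3 (h2.cover h3 a23 j23)
  have d32 := h3.comm_eq h2 (h3.cover h2 a23.symm j32)
  have d34 := h3.comm_eq h4 (h3.cover h4 a34 j34)
  have e : ⁅X1, B⁆ = ⁅X3, X4⁆ := by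
    rw [d1, commutator_comm, ← d21, d23, commutator_comm, ← d32, d34]
  have h13 : X3 ≤ centralizer (X1 : Set G) :=
    h1.no_triangle h2 h3 (h1.cover h2 a12 i2) (h2.cover h1 a12.symm j21) |> fun f => by
      by_contra hne
      exact a23.symm (f hne)
  refine h1.comm_not_fix (e.le.trans (commutator_le.mpr fun x hx y hy => h1.comm_fix ?_ ?_))
  · exact ⟨h3.wb hx, h13 hx⟩
  · exact ⟨h4.wb hy, le_centralizer_iff.mp h14 hy⟩

end Cfsg.Agent.Transfer.QRC
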