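import Cfsg.Agent.Lib.Transfer.QRC.NodeGraph
import Cfsg.Agent.Lib.Grp.Frattini

/-!
# The orbit of a node commutes

`M₀` normalises `B` and contains the Sylow subgroup `T`. If the `T`-conjugates of the node commute with it, and the
centraliser of a central involution of `T` has characteristic 2, then all the `M₀`-conjugates of the node commute:
otherwise the two sides of the component of the node would be exchanged inside a group in which the stabiliser of the
sides has odd index.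
-/

set_option autoImplicit false

namespace Cfsg.Agent.Transfer.QRC

open Subgroup
open scoped commutatorElement

variable {G : Type*} [Group G]

theorem mem_cent_conj (m : G) (X : Subgroup G) {x : G} :
    m * x * m⁻¹ ∈ centralizer ((cjg m X : Subgroup G) : Set G) ↔ x ∈ centralizer (X : Set G) :=
  map_mem_centralizer (MulAut.conj m).toMonoidHom (MulAut.conj m).injective X

theorem adj_cjg (m : G) (X Y : Subgroup G) : Adj (cjg m X) (cjg m Y) ↔ Adj X Y := by
  refine not_congr ⟨fun h x hx => (mem_cent_conj m Y).mp (h (conj_mem_cjg hx)), fun h => ?_⟩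
  rintro _ ⟨x, hx, rfl⟩
  exact (mem_cent_conj m Y).mpr (h hx)

variable [Finite G] {B W L : Subgroup G} {T : Subgroup G} {M₀ : Subgroup G}

/-- The standing hypotheses. -/
structure OrbitHyp (T M₀ B W L : Subgroup G) : Prop where
  pT : IsPGroup 2 T
  TM : T ≤ M₀
  oddIdx : ¬ 2 ∣ T.relIndex M₀
  BT : B ≤ T
  norm : M₀ ≤ normalizer (B : Set G)
  node : Node B W L
  side : ∀ t ∈ T, ¬ Adj (cjg t W) W
  char2 : ∀ z : G, z ≠ 1 → z * z = 1 → T ≤ centralizer ({z} : Set G) →
    ∃ P : Subgroup G, P ≤ T ∧ (∀ y ∈ centralizer ({z} : Set G), ∀ x ∈ P, y * x * y⁻¹ ∈ P) ∧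
      ∀ y ∈ centralizer ({z} : Set G), y ∈ centralizer (P : Set G) → y ∈ P

namespace OrbitHyp

/-- Two nodes with the same neighbours. -/
def Same (_H : OrbitHyp T M₀ B W L) (X Y : Subgroup G) : Prop :=
  ∀ m ∈ M₀, (Adj X (cjg m W) ↔ Adj Y (cjg m W))

theorem Same.trans' {H : OrbitHyp T M₀ B W L} {X Y Z : Subgroup G} (h : H.Same X Y) (h' : H.Same Y Z) :
    H.Same X Z :=
  fun m hm => (h m hm).trans (h' m hm)

theorem Same.symm' {H : OrbitHyp T M₀ B W L} {X Y : Subgroup G} (h : H.Same X Y) : H.Same Y X :=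
  fun m hm => (h m hm).symm

variable (H : OrbitHyp T M₀ B W L)
include H

theorem node_conj {m : G} (hm : m ∈ M₀) : Node B (cjg m W) (cjg m L) := H.node.conj (H.norm hm)

theorem same_index {a b : G} (ha : a ∈ M₀) (hb : b ∈ M₀) : Node.SameIndex B (cjg a W) (cjg b W) :=
  (Node.conj_relIndex (H.norm hb)).trans (Node.conj_relIndex (H.norm ha)).symm

theorem path {a b c d : G} (ha : a ∈ M₀) (hb : b ∈ M₀) (hc : c ∈ M₀) (hd : d ∈ M₀)
    (h1 : Adj (cjg a W) (cjg b W)) (h2 : Adj (cjg b W) (cjg c W)) (h3 : Adj (cjg c W) (cjg d W)) :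
    Adj (cjg a W) (cjg d W) :=
  Node.path_close (H.node_conj ha) (H.node_conj hb) (H.node_conj hc) (H.node_conj hd) (H.same_index ha hb)
    (H.same_index ha hc) (H.same_index ha hd) h1 h2 h3

theorem Same.conj {X Y : Subgroup G} (h : H.Same X Y) {g : G} (hg : g ∈ M₀) :
    H.Same (cjg g X) (cjg g Y) := fun m hm => by
  have e : cjg m W = cjg g (cjg (g⁻¹ * m) W) := by rw [← cjg_mul, mul_inv_cancel_left]
  rw [e, adj_cjg, adj_cjg]
  exact h _ (mul_mem (inv_mem hg) hm)

/-- The neighbours of a neighbour of `Y` are those of `X`, for an edge `X, Y`. -/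
theorem same_of_adj {x y z : G} (hx : x ∈ M₀) (hy : y ∈ M₀) (hz : z ∈ M₀)
    (hxy : Adj (cjg x W) (cjg y W)) (hzy : Adj (cjg z W) (cjg y W)) : H.Same (cjg z W) (cjg x W) :=
  fun m hm => ⟨fun h => H.path hx hy hz hm hxy hzy.symm h, fun h => H.path hz hy hx hm hzy hxy.symm h⟩

/-- The nodes commute. -/
theorem no_adj : ∀ m ∈ M₀, ¬ Adj W (cjg m W) := by
  intro s hs hadj
  obtain ⟨W', hW'⟩ : ∃ W', W' = cjg s W := ⟨_, rfl⟩
  rw [← hW'] at hadj
  have hW1 : cjg (1 : G) W = W := cjg_one W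
  -- the two sides
  obtain ⟨S0, hS0⟩ : ∃ S0 : G → Prop, S0 = fun m => H.Same (cjg m W) W ∧ H.Same (cjg m W') W' := ⟨_, rfl⟩
  obtain ⟨S1, hS1⟩ : ∃ S1 : G → Prop, S1 = fun m => H.Same (cjg m W) W' ∧ H.Same (cjg m W') W := ⟨_, rfl⟩
  have hnot : ¬ H.Same W W' := fun h => not_adj_self (hW' ▸ H.node_conj hs) (hW' ▸ (h s hs).mp (hW' ▸ hadj))
  -- an element sending the node to a neighbour of `W'` keeps the sides, to a neighbour of `W` swaps them
  have side0 : ∀ m ∈ M₀, Adj (cjg m W) W' → S0 m := fun m hm h => by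
    have e1 : H.Same (cjg m W) W := by
      have := H.same_of_adj (x := 1) (one_mem _) hs hm (by rw [hW1, ← hW']; exact hadj) (hW' ▸ h)
      rwa [hW1] at this
    have e2 : Adj (cjg m W') W := by
      have h1 : Adj (cjg m W) (cjg (m * s) W) := by
        rw [cjg_mul, ← hW', adj_cjg]; exact hadj
      have h2 := (e1 _ (mul_mem hm hs)).mp h1
      rw [cjg_mul, ← hW'] at h2
      exact h2.symm
    refine hS0 ▸ ⟨e1, ?_⟩
    have h3 := H.same_of_adj (x := s) (y := 1) (z := m * s) hs (one_mem _) (mul_mem hm hs)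
      (by rw [hW1, ← hW']; exact hadj.symm) (by rw [hW1, cjg_mul, ← hW']; exact e2)
    rwa [cjg_mul, ← hW'] at h3
  have side1 : ∀ m ∈ M₀, Adj (cjg m W) W → S1 m := fun m hm h => by
    have e1 : H.Same (cjg m W) W' := by
      have := H.same_of_adj (x := s) (y := 1) hs (one_mem _) hm
        (by rw [hW1, ← hW']; exact hadj.symm) (by rw [hW1]; exact h)
      rwa [← hW'] at this
    have e2 : Adj (cjg m W') W' := by
      have h1 : Adj (cjg m W) (cjg (m * s) W) := by
        rw [cjg_mul, ← hW', adj_cjg]; exact hadj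
      have h2 := (e1 _ (mul_mem hm hs)).mp h1
      rw [cjg_mul, ← hW'] at h2
      exact h2.symm
    refine hS1 ▸ ⟨e1, ?_⟩
    have h3 := H.same_of_adj (x := 1) (y := s) (z := m * s) (one_mem _) hs (mul_mem hm hs)
      (by rw [hW1, ← hW']; exact hadj) (by rw [cjg_mul, ← hW']; exact e2)
    rwa [cjg_mul, ← hW', hW1] at h3
  have c00 : ∀ a b, a ∈ M₀ → S0 a → S0 b → S0 (a * b) := fun a b ha h1 h2 => by
    rw [hS0] at h1 h2 ⊢
    exact ⟨by rw [cjg_mul]; exact (Same.conj H h2.1 ha).trans' h1.1,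
      by rw [cjg_mul]; exact (Same.conj H h2.2 ha).trans' h1.2⟩
  have c11 : ∀ a b, a ∈ M₀ → S1 a → S1 b → S0 (a * b) := fun a b ha h1 h2 => by
    rw [hS1] at h1 h2
    rw [hS0]
    exact ⟨by rw [cjg_mul]; exact (Same.conj H h2.1 ha).trans' h1.2,
      by rw [cjg_mul]; exact (Same.conj H h2.2 ha).trans' h1.1⟩
  have c01 : ∀ a b, a ∈ M₀ → S0 a → S1 b → S1 (a * b) := fun a b ha h1 h2 => by
    rw [hS0] at h1
    rw [hS1] at h2 ⊢
    exact ⟨by rw [cjg_mul]; exact (Same.conj H h2.1 ha).trans' h1.2,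
      by rw [cjg_mul]; exact (Same.conj H h2.2 ha).trans' h1.1⟩
  have c10 : ∀ a b, a ∈ M₀ → S1 a → S0 b → S1 (a * b) := fun a b ha h1 h2 => by
    rw [hS1] at h1 ⊢
    rw [hS0] at h2
    exact ⟨by rw [cjg_mul]; exact (Same.conj H h2.1 ha).trans' h1.1,
      by rw [cjg_mul]; exact (Same.conj H h2.2 ha).trans' h1.2⟩
  have inv0 : ∀ a, a ∈ M₀ → S0 a → S0 a⁻¹ := fun a ha h1 => by
    rw [hS0] at h1 ⊢
    refine ⟨?_, ?_⟩
    · have := Same.conj H h1.1.symm' (inv_mem ha)
      rwa [← cjg_mul, inv_mul_cancel, cjg_one] at this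
    · have := Same.conj H h1.2.symm' (inv_mem ha)
      rwa [← cjg_mul, inv_mul_cancel, cjg_one] at this
  have inv1 : ∀ a, a ∈ M₀ → S1 a → S1 a⁻¹ := fun a ha h1 => by
    rw [hS1] at h1 ⊢
    refine ⟨?_, ?_⟩
    · have := Same.conj H h1.2.symm' (inv_mem ha)
      rwa [← cjg_mul, inv_mul_cancel, cjg_one] at this
    · have := Same.conj H h1.1.symm' (inv_mem ha)
      rwa [← cjg_mul, inv_mul_cancel, cjg_one] at this
  have excl : ∀ a, S0 a → ¬ S1 a := fun a h1 h2 => by
    rw [hS0] at h1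
    rw [hS1] at h2
    exact hnot (h1.1.symm'.trans' h2.1)
  have h1S : S0 1 := hS0 ▸ ⟨by rw [cjg_one]; exact fun m _ => Iff.rfl, by rw [cjg_one]; exact fun m _ => Iff.rfl⟩
  have hsS : S1 s := side1 s hs (hW' ▸ hadj.symm)
  obtain ⟨K, hK⟩ : ∃ K : Subgroup G, ∀ g, g ∈ K ↔ g ∈ M₀ ∧ (S0 g ∨ S1 g) :=
    ⟨{ carrier := {g | g ∈ M₀ ∧ (S0 g ∨ S1 g)}
       one_mem' := ⟨one_mem _, Or.inl h1S⟩
       mul_mem' := by
         rintro a b ⟨ha, ha'⟩ ⟨hb, hb'⟩
         refine ⟨mul_mem ha hb, ?_⟩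
         rcases ha' with ha' | ha' <;> rcases hb' with hb' | hb'
         · exact Or.inl (c00 a b ha ha' hb')
         · exact Or.inr (c01 a b ha ha' hb')
         · exact Or.inr (c10 a b ha ha' hb')
         · exact Or.inl (c11 a b ha ha' hb')
       inv_mem' := by
         rintro a ⟨ha, ha'⟩
         exact ⟨inv_mem ha, ha'.imp (inv0 a ha) (inv1 a ha)⟩ }, fun _ => Iff.rfl⟩
  obtain ⟨K₀, hK₀⟩ : ∃ K₀ : Subgroup G, ∀ g, g ∈ K₀ ↔ g ∈ M₀ ∧ S0 g :=
    ⟨{ carrier := {g | g ∈ M₀ ∧ S0 g}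
       one_mem' := ⟨one_mem _, h1S⟩
       mul_mem' := fun {a b} ha hb => ⟨mul_mem ha.1 hb.1, c00 a b ha.1 ha.2 hb.2⟩
       inv_mem' := fun {a} ha => ⟨inv_mem ha.1, inv0 a ha.1 ha.2⟩ }, fun _ => Iff.rfl⟩
  have hKM : K ≤ M₀ := fun g hg => ((hK g).mp hg).1
  have hK0K : K₀ ≤ K := fun g hg => (hK g).mpr ⟨((hK₀ g).mp hg).1, Or.inl ((hK₀ g).mp hg).2⟩
  -- an element of `T` keeping the component keeps the sides
  have hTK : T ⊓ K ≤ K₀ := by
    rintro t ⟨ht, htK⟩
    obtain ⟨htM, h0 | h1⟩ := (hK t).mp htK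
    · exact (hK₀ t).mpr ⟨htM, h0⟩
    · rw [hS1] at h1
      have h2 := (h1.1 1 (one_mem _)).mpr (by rw [hW1]; exact hadj.symm)
      rw [hW1] at h2
      exact absurd h2 (H.side t ht)
  -- `T` reaches every component
  have hcov : ∀ m ∈ M₀, ∃ t ∈ T, t * m ∈ K := by
    intro m hm
    by_contra hno
    push Not at hno
    obtain ⟨U1, hU1⟩ : ∃ U1, U1 = cjg m W := ⟨_, rfl⟩
    obtain ⟨U2, hU2⟩ : ∃ U2, U2 = cjg m W' := ⟨_, rfl⟩
    have hnode1 : Node B U1 (cjg m L) := hU1 ▸ H.node_conj hm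
    have hU2B : U2 ≤ B := by
      rw [hU2, hW', ← cjg_mul]
      exact (H.node_conj (mul_mem hm hs)).wb
    -- the conjugates commute with both sides
    have hfar : ∀ t ∈ T, ∀ x, x ∈ U1 ∨ x ∈ U2 →
        t * x * t⁻¹ ∈ centralizer (W : Set G) ∧ t * x * t⁻¹ ∈ centralizer (W' : Set G) := by
      intro t ht x hx
      have htm := mul_mem (H.TM ht) hm
      rcases hx with hx | hx
      · have hx' : t * x * t⁻¹ ∈ cjg (t * m) W := by rw [cjg_mul, ← hU1]; exact conj_mem_cjg hx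
        refine ⟨?_, ?_⟩ <;> by_contra hcon
        · exact hno t ht ((hK _).mpr ⟨htm, Or.inr (side1 _ htm fun h => hcon (h hx'))⟩)
        · exact hno t ht ((hK _).mpr ⟨htm, Or.inl (side0 _ htm fun h => hcon (h hx'))⟩)
      · have htms := mul_mem htm hs
        have hx' : t * x * t⁻¹ ∈ cjg (t * m * s) W := by
          rw [cjg_mul, ← hW', cjg_mul, ← hU2]; exact conj_mem_cjg hx
        refine ⟨?_, ?_⟩ <;> by_contra hcon
        · refine hno t ht ((hK _).mpr ⟨htm, Or.inl ?_⟩)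
          have h1 := c11 _ _ htms (side1 _ htms fun h => hcon (h hx')) (inv1 s hs hsS)
          rwa [mul_inv_cancel_right] at h1
        · refine hno t ht ((hK _).mpr ⟨htm, Or.inr ?_⟩)
          have h1 := c01 _ _ htms (side0 _ htms fun h => hcon (h hx')) (inv1 s hs hsS)
          rwa [mul_inv_cancel_right] at h1
    obtain ⟨Z, hZ⟩ : ∃ Z : Subgroup G,
        Z = Subgroup.closure {g | ∃ t ∈ T, ∃ x ∈ U1, ∃ y ∈ U2, g = t * ⁅x, y⁆ * t⁻¹} := ⟨_, rfl⟩
    have hBT' : ∀ t ∈ T, ∀ b ∈ B, t * b * t⁻¹ ∈ B := fun t ht b hb =>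
      (mem_normalizer_iff.mp (H.norm (H.TM ht)) b).mp hb
    have hnode' : Node B W' (cjg s L) := hW' ▸ H.node_conj hs
    have hfix : ∀ (V J : Subgroup G), Node B V J →
        (∀ t ∈ T, ∀ x, x ∈ U1 ∨ x ∈ U2 → t * x * t⁻¹ ∈ centralizer (V : Set G)) →
        ∀ t ∈ T, ∀ x ∈ U1, ∀ y ∈ U2, t * ⁅x, y⁆ * t⁻¹ ∈ centralizer (J : Set G) := by
      intro V J hVJ hc t ht x hx y hy
      have e : t * ⁅x, y⁆ * t⁻¹ = ⁅t * x * t⁻¹, t * y * t⁻¹⁆ := by simp only [commutatorElement_def]; group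
      rw [e]
      have h1 := hVJ.comm_fix ⟨hBT' t ht x (hnode1.wb hx), hc t ht x (Or.inl hx)⟩
        ⟨hBT' t ht y (hU2B hy), hc t ht y (Or.inr hy)⟩
      have h2 : ⁅t * x * t⁻¹, t * y * t⁻¹⁆ ∈ centralizer (B : Set G) := by
        rw [← commutatorElement_inv]
        refine inv_mem ((H.node_conj (mul_mem (H.TM ht) hm)).central _ ?_ _ (hBT' t ht y (hU2B hy)))
        rw [cjg_mul, ← hU1]
        exact conj_mem_cjg hx
      refine mem_centralizer_iff.mpr fun l hl => ?_
      have hle : Cfsg.oddGenerated J ⊔ B ≤ centralizer ({⁅t * x * t⁻¹, t * y * t⁻¹⁆} : Set G) :=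
        sup_le (fun e he => mem_centralizer_singleton_iff.mpr (mem_centralizer_iff.mp h1 e he))
          fun b hb => mem_centralizer_singleton_iff.mpr (mem_centralizer_iff.mp h2 b hb)
      exact mem_centralizer_singleton_iff.mp (hle (hVJ.sup hl))
    have hZL : Z ≤ centralizer (L : Set G) ⊓ centralizer ((cjg s L : Subgroup G) : Set G) := by
      rw [hZ, closure_le]
      rintro _ ⟨t, ht, x, hx, y, hy, rfl⟩
      exact ⟨hfix W L H.node (fun t ht x hx => (hfar t ht x hx).1) t ht x hx y hy,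
        hfix W' _ hnode' (fun t ht x hx => (hfar t ht x hx).2) t ht x hx y hy⟩
    have hZT : Z ≤ T := by
      rw [hZ, closure_le]
      rintro _ ⟨t, ht, x, hx, y, hy, rfl⟩
      exact H.BT (hBT' t ht _ (by
        rw [commutatorElement_def]
        exact mul_mem (mul_mem (mul_mem (hnode1.wb hx) (hU2B hy)) (inv_mem (hnode1.wb hx))) (inv_mem (hU2B hy))))
    haveI hZn : (Z.subgroupOf T).Normal := ⟨fun z hz t => by
      rw [mem_subgroupOf] at hz ⊢
      push_cast
      revert hz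
      generalize (z : G) = g
      intro hg
      have hle : Z ≤ Z.comap (MulAut.conj (t : G)).toMonoidHom := by
        conv_lhs => rw [hZ]
        rw [closure_le]
        rintro _ ⟨t', ht', x, hx, y, hy, rfl⟩
        rw [SetLike.mem_coe, mem_comap, hZ]
        exact subset_closure ⟨(t : G) * t', mul_mem t.2 ht', x, hx, y, hy, by simp [mul_assoc]⟩
      simpa using hle hg⟩
    have hZne : Z.subgroupOf T ≠ ⊥ := by
      intro h
      rw [subgroupOf_eq_bot, disjoint_iff, inf_eq_left.mpr hZT] at h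
      have hadjm : Adj U1 U2 := by rw [hU1, hU2, adj_cjg]; exact hadj
      refine hadjm fun x hx => mem_centralizer_iff.mpr fun y hy => ?_
      have h1 : (1 : G) * ⁅x, y⁆ * 1⁻¹ ∈ Z := hZ ▸ subset_closure ⟨1, one_mem _, x, hx, y, hy, rfl⟩
      rw [h, mem_bot, one_mul, inv_one, mul_one, commutatorElement_eq_one_iff_mul_comm] at h1
      exact h1.symm
    haveI : Fact (Nat.Prime 2) := ⟨Nat.prime_two⟩
    haveI := H.pT.isNilpotent
    obtain ⟨N, hN⟩ : ∃ N, N = Z.subgroupOf T ⊓ center ↥T := ⟨_, rfl⟩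
    have hNne : N ≠ ⊥ := hN ▸ Grp.inf_center_ne_bot _ hZne
    haveI : Nontrivial ↥N := (Subgroup.nontrivial_iff_ne_bot N).mpr hNne
    obtain ⟨z, hz⟩ := exists_prime_orderOf_dvd_card' (G := ↥N) 2 ((IsPGroup.to_subgroup H.pT N).card_eq_or_dvd.resolve_left Finite.one_lt_card.ne')
    have hzN := hN.le z.2
    have hz1 : (((z : ↥T) : G)) ≠ 1 := fun h => by
      rw [show z = 1 from Subtype.ext (Subtype.ext h), orderOf_one] at hz
      exact absurd hz (by norm_num)
    have hz2 : ((z : ↥T) : G) * ((z : ↥T) : G) = 1 := by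
      have h1 : z * z = 1 := by rw [← sq, ← hz, pow_orderOf_eq_one]
      exact congrArg (fun w : ↥N => ((w : ↥T) : G)) h1
    have hTz : T ≤ centralizer ({((z : ↥T) : G)} : Set G) := fun t ht =>
      mem_centralizer_singleton_iff.mpr (congrArg Subtype.val (Subgroup.mem_center_iff.mp hzN.2 ⟨t, ht⟩))
    obtain ⟨P, hPT, hPn, hPc⟩ := H.char2 _ hz1 hz2 hTz
    have hJz : ∀ J : Subgroup G, Z ≤ centralizer (J : Set G) → J ≤ centralizer ({((z : ↥T) : G)} : Set G) :=
      fun J hJ l hl => mem_centralizer_singleton_iff.mpr (mem_centralizer_iff.mp (hJ hzN.1) l hl)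
    have hLC := hJz L (hZL.trans inf_le_left)
    have hL'C := hJz _ (hZL.trans inf_le_right)
    -- `P` meets the two local subgroups in their cores
    have hcore : ∀ V J : Subgroup G, Node B V J → J ≤ centralizer ({((z : ↥T) : G)} : Set G) →
        P ⊓ J ≤ B ⊓ centralizer (V : Set G) := fun V J hVJ hJ =>
      hVJ.core _ inf_le_right ((H.pT.to_le hPT).to_le inf_le_left) fun l hl n hn =>
        ⟨hPn l (hJ hl) n hn.1, J.mul_mem (J.mul_mem hl hn.2) (J.inv_mem hl)⟩
    have hP1 := hcore W L H.node hLC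
    have hP2 := hcore W' _ hnode' hL'C
    -- the fixed points of the elements of odd order in `P`
    obtain ⟨C, hC⟩ : ∃ C, C = P ⊓ centralizer (Cfsg.oddGenerated L : Set G) := ⟨_, rfl⟩
    have hodd : Cfsg.oddGenerated L ≤ L := (closure_le _).mpr fun x hx => hx.1
    have hWP : W ⊓ P ≤ centralizer (Cfsg.oddGenerated L : Set G) := by
      rcases H.node.irr (W ⊓ P) inf_le_left (fun l hl n hn =>
          ⟨H.node.norm l hl n hn.1, hPn l (hLC hl) n hn.2⟩) with h | h
      · exact h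
      · exact absurd (fun u hu => (hP2 ⟨(h.ge hu).2, hnode'.bl (H.node.wb hu)⟩).2) hadj
    have hPB : P ⊓ B ≤ C := fun x hx => hC ▸ ⟨hx.1, mem_centralizer_iff.mpr fun e he => by
      obtain ⟨xq, hq⟩ : ∃ xq : x ∈ B ⊓ centralizer (W : Set G), True :=
        ⟨hP1 ⟨hx.1, H.node.bl hx.2⟩, trivial⟩
      -- `e ↦ ⁅x, e⁆` is a homomorphism into the fixed points, so kills the elements of odd order
      have hval : ∀ a ∈ Cfsg.oddGenerated L, ⁅x, a⁆ ∈ W ⊓ centralizer (Cfsg.oddGenerated L : Set G) :=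
        fun a ha => ⟨H.node.move x xq a ha, hWP ⟨H.node.move x xq a ha, by
          rw [commutatorElement_def, show x * a * x⁻¹ * a⁻¹ = x * (a * x⁻¹ * a⁻¹) by group]
          exact mul_mem hx.1 (hPn a (hLC (hodd ha)) _ (inv_mem hx.1))⟩⟩
      induction he using closure_induction with
      | mem a ha =>
        have hc : Commute a ⁅x, a⁆ := mem_centralizer_iff.mp (hval a (subset_closure ha)).2 a (subset_closure ha)
        have hxa : x * a * x⁻¹ = ⁅x, a⁆ * a := by simp [commutatorElement_def]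
        have hsq := H.node.sq _ (hval a (subset_closure ha)).1
        have h1 : (x * a * x⁻¹) ^ orderOf a = 1 := by rw [conj_pow, pow_orderOf_eq_one]; group
        rw [hxa, hc.symm.mul_pow, pow_orderOf_eq_one, mul_one] at h1
        obtain ⟨k, hk⟩ := ha.2
        rw [hk, pow_succ, pow_mul, sq, hsq, one_pow, one_mul] at h1
        exact (commutatorElement_eq_one_iff_mul_comm.mp h1).symm
      | one => simp
      | mul a b _ _ iha ihb => rw [mul_assoc, ihb, ← mul_assoc, iha, mul_assoc]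
      | inv a _ iha => exact (Commute.inv_left iha)⟩
    have hCn : ∀ l ∈ L, ∀ c ∈ C, l * c * l⁻¹ ∈ C := by
      intro l hl c hc
      rw [hC] at hc ⊢
      refine ⟨hPn l (hLC hl) c hc.1, mem_centralizer_iff.mpr fun e he => ?_⟩
      have hle : Cfsg.oddGenerated L ≤ (Cfsg.oddGenerated L).comap (MulAut.conj l⁻¹).toMonoidHom :=
        (closure_le _).mpr fun a ha => subset_closure ⟨by
          show l⁻¹ * a * l⁻¹⁻¹ ∈ L
          exact mul_mem (mul_mem (inv_mem hl) ha.1) (inv_mem (inv_mem hl)), by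
          show Odd (orderOf (MulAut.conj l⁻¹ a))
          rw [MulEquiv.orderOf_eq]; exact ha.2⟩
      have h := mem_centralizer_iff.mp hc.2 _ (hle he)
      simp only [MulEquiv.coe_toMonoidHom, MulAut.conj_apply, inv_inv] at h
      calc e * (l * c * l⁻¹) = l * (l⁻¹ * e * l * c) * l⁻¹ := by group
        _ = l * (c * (l⁻¹ * e * l)) * l⁻¹ := by rw [h]
        _ = _ := by group
    have hPL : ∀ q ∈ P, ∀ l ∈ L, ⁅q, l⁆ ∈ C := by
      obtain ⟨N', hN'⟩ : ∃ N' : Subgroup G, ∀ l, l ∈ N' ↔ l ∈ L ∧ ∀ q ∈ P, ⁅q, l⁆ ∈ C :=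
        ⟨{ carrier := {l | l ∈ L ∧ ∀ q ∈ P, ⁅q, l⁆ ∈ C}
           one_mem' := ⟨one_mem _, fun q _ => by simp [one_mem]⟩
           mul_mem' := by
             rintro a b ⟨ha, ha'⟩ ⟨hb, hb'⟩
             refine ⟨mul_mem ha hb, fun q hq => ?_⟩
             rw [show ⁅q, a * b⁆ = ⁅q, a⁆ * (a * ⁅q, b⁆ * a⁻¹) by simp only [commutatorElement_def]; group]
             exact mul_mem (ha' q hq) (hCn a ha _ (hb' q hq))
           inv_mem' := by
             rintro a ⟨ha, ha'⟩
             refine ⟨inv_mem ha, fun q hq => ?_⟩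
             rw [show ⁅q, a⁻¹⁆ = a⁻¹ * (⁅q, a⁆)⁻¹ * a⁻¹⁻¹ by simp only [commutatorElement_def]; group]
             exact hCn _ (inv_mem ha) _ (inv_mem (ha' q hq)) }, fun _ => Iff.rfl⟩
      have hB : ∀ q ∈ P, ∀ b ∈ B, ⁅q, b⁆ ∈ C := fun q hq b hb => hPB ⟨by
          rw [commutatorElement_def, show q * b * q⁻¹ * b⁻¹ = q * (b * q⁻¹ * b⁻¹) by group]
          exact mul_mem hq (hPn b (hTz (H.BT hb)) _ (inv_mem hq)), by
          rw [commutatorElement_def]
          exact B.mul_mem (hBT' q (hPT hq) b hb) (B.inv_mem hb)⟩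
      have hgen : L ≤ N' := H.node.gen N' fun l hl b hb => (hN' _).mpr
        ⟨mul_mem (mul_mem hl (H.node.bl hb)) (inv_mem hl), fun q hq => by
          have hq' : l⁻¹ * q * l⁻¹⁻¹ ∈ P := hPn _ (hLC (inv_mem hl)) q hq
          rw [show ⁅q, l * b * l⁻¹⁆ = l * ⁅l⁻¹ * q * l⁻¹⁻¹, b⁆ * l⁻¹ by simp only [commutatorElement_def]; group]
          exact hCn l hl _ (hB _ hq' b hb)⟩
      exact fun q hq l hl => ((hN' l).mp (hgen hl)).2 q hq
    -- the elements of odd order centralise `P`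
    have hEP : Cfsg.oddGenerated L ≤ P := by
      intro e he
      refine hPc e (hLC (hodd he)) (mem_centralizer_iff.mpr fun q hq => ?_)
      induction he using closure_induction with
      | mem a ha =>
        have hc' := hPL q hq a ha.1
        rw [hC] at hc'
        have hc : Commute a ⁅q, a⁆ := mem_centralizer_iff.mp hc'.2 a (subset_closure ha)
        obtain ⟨k, hk⟩ := (H.pT.to_le hPT) ⟨_, hc'.1⟩
        have hk' : ⁅q, a⁆ ^ 2 ^ k = 1 := congrArg Subtype.val hk
        have h1 : (q * a * q⁻¹) ^ orderOf a = 1 := by rw [conj_pow, pow_orderOf_eq_one]; group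
        rw [show q * a * q⁻¹ = ⁅q, a⁆ * a by simp [commutatorElement_def], hc.symm.mul_pow, pow_orderOf_eq_one,
          mul_one] at h1
        have h2 : orderOf ⁅q, a⁆ ∣ Nat.gcd (2 ^ k) (orderOf a) :=
          Nat.dvd_gcd (orderOf_dvd_of_pow_eq_one hk') (orderOf_dvd_of_pow_eq_one h1)
        rw [Nat.Coprime.gcd_eq_one (Nat.Coprime.pow_left k
          ((Nat.prime_two.coprime_iff_not_dvd).mpr ha.2.not_two_dvd_nat)), Nat.dvd_one, orderOf_eq_one_iff] at h2
        exact commutatorElement_eq_one_iff_mul_comm.mp h2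
      | one => simp
      | mul a b _ _ iha ihb => rw [← mul_assoc, iha, mul_assoc, ihb, ← mul_assoc]
      | inv a _ iha => exact (Commute.inv_right iha)
    -- so `L` is a 2-group and `B` centralises the module
    have hLT : L ≤ T := H.node.sup.trans (sup_le (hEP.trans hPT) H.BT)
    exact H.node.ncent fun b hb => (H.node.core L le_rfl (H.pT.to_le hLT)
      (fun l hl n hn => mul_mem (mul_mem hl hn) (inv_mem hl)) (H.node.bl hb)).2
  -- counting
  have hidx : T.relIndex K = T.relIndex M₀ := by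
    refine Nat.card_congr (Equiv.ofBijective
      (Quotient.map' (fun k : ↥K => (⟨k, hKM k.2⟩ : ↥M₀)) fun a b h => ?_) ⟨?_, ?_⟩)
    · rw [QuotientGroup.leftRel_apply] at h ⊢
      exact h
    · intro a b
      induction a using Quotient.inductionOn' with
      | h a =>
        induction b using Quotient.inductionOn' with
        | h b =>
          intro h
          simp only [Quotient.map'_mk''] at h
          rw [Quotient.eq'', QuotientGroup.leftRel_apply] at h ⊢
          exact h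
    · intro m
      induction m using Quotient.inductionOn' with
      | h m =>
        obtain ⟨t, ht, htK⟩ := hcov _ (inv_mem m.2)
        refine ⟨Quotient.mk'' ⟨(t * (m : G)⁻¹)⁻¹, inv_mem htK⟩, ?_⟩
        rw [Quotient.map'_mk'', Quotient.eq'', QuotientGroup.leftRel_apply]
        show ((t * (m : G)⁻¹)⁻¹)⁻¹ * (m : G) ∈ T
        simpa [mul_assoc] using ht
  have hsK : s ∈ K := (hK s).mpr ⟨hs, Or.inr hsS⟩
  have h2 : (K₀.subgroupOf K).index = 2 := by
    refine index_eq_two_iff.mpr ⟨⟨s, hsK⟩, fun k => ?_⟩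
    simp only [mem_subgroupOf, hK₀, Subgroup.coe_mul]
    obtain ⟨hkM, h0 | h1⟩ := (hK k).mp k.2
    · exact Or.inr ⟨⟨hkM, h0⟩, fun h => excl _ h.2 (c01 _ _ hkM h0 hsS)⟩
    · exact Or.inl ⟨⟨mul_mem hkM hs, c11 _ _ hkM h1 hsS⟩, fun h => excl _ h.2 h1⟩
  have h3 : K₀.relIndex K ∣ (T ⊓ K).relIndex K := relIndex_dvd_of_le_left K hTK
  rw [inf_relIndex_right, hidx, show K₀.relIndex K = 2 from h2] at h3
  exact H.oddIdx h3

end OrbitHyp

end Cfsg.Agent.Transfer.QRC
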