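import Cfsg.Agent.Lib.Transfer.QRC.Sink
import Cfsg.Agent.Lib.Transfer.QRC.CommonNormal
import Cfsg.Agent.Lib.Grp.Coprime

/-!
# Groups with one maximal overgroup of a Sylow 2-subgroup

The residual `E` of odd elements, commutators with it, invariant layers inside the core, and the span of the
conjugates of a normal subgroup of the Sylow subgroup.
-/

set_option autoImplicit false
set_option linter.unusedSectionVars false
set_option linter.style.haveILetI false

open scoped commutatorElement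

namespace Cfsg.Agent.Transfer.QRC

open Subgroup

variable {G : Type*} [Group G] [Finite G]

/-- The odd residual. -/
abbrev odd (X : Subgroup G) : Subgroup G := Cfsg.oddGenerated X

/-- `X` is closed under conjugation by `H`. -/
def Nml (H X : Subgroup G) : Prop := ∀ h ∈ H, ∀ x ∈ X, h * x * h⁻¹ ∈ X

theorem Nml.le_norm {H X : Subgroup G} (h : Nml H X) : H ≤ normalizer (X : Set G) := norm_of_conj h

theorem Nml.of_norm {H X : Subgroup G} (h : H ≤ normalizer (X : Set G)) : Nml H X := fun g hg x hx =>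
  (mem_normalizer_iff.mp (h hg) x).mp hx

theorem Nml.inf {H X Y : Subgroup G} (hX : Nml H X) (hY : Nml H Y) : Nml H (X ⊓ Y) := fun h hh x hx =>
  ⟨hX h hh x hx.1, hY h hh x hx.2⟩

theorem Nml.sup {H X Y : Subgroup G} (hX : Nml H X) (hY : Nml H Y) : Nml H (X ⊔ Y) := fun h hh x hx =>
  ((sup_le (fun a ha => mem_sup_left (hX h hh a ha)) fun a ha => mem_sup_right (hY h hh a ha)) :
    X ⊔ Y ≤ (X ⊔ Y).comap (MulAut.conj h).toMonoidHom) hx

theorem Nml.commutator {H X Y : Subgroup G} (hX : Nml H X) (hY : Nml H Y) : Nml H ⁅X, Y⁆ := fun h hh x hx =>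
  (commutator_le.mpr fun a ha b hb => mem_comap.mpr (by
    show h * ⁅a, b⁆ * h⁻¹ ∈ ⁅X, Y⁆
    rw [show h * ⁅a, b⁆ * h⁻¹ = ⁅h * a * h⁻¹, h * b * h⁻¹⁆ by simp only [commutatorElement_def]; group]
    exact commutator_mem_commutator (hX h hh a ha) (hY h hh b hb)) :
    ⁅X, Y⁆ ≤ (⁅X, Y⁆).comap (MulAut.conj h).toMonoidHom) hx

theorem Nml.centralizer {H X : Subgroup G} (hX : Nml H X) : Nml H (centralizer (X : Set G)) := by
  intro h hh c hc
  refine mem_centralizer_iff.mpr fun x hx => ?_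
  have e := mem_centralizer_iff.mp hc _ (hX h⁻¹ (inv_mem hh) x hx)
  rw [inv_inv] at e
  calc x * (h * c * h⁻¹) = h * (h⁻¹ * x * h * c) * h⁻¹ := by group
    _ = h * (c * (h⁻¹ * x * h)) * h⁻¹ := by rw [e]
    _ = _ := by group

theorem Nml.mono {H H' X : Subgroup G} (hX : Nml H X) (h : H' ≤ H) : Nml H' X := fun g hg => hX g (h hg)

theorem nml_self (H : Subgroup G) : Nml H H := fun _ hh _ hx => mul_mem (mul_mem hh hx) (inv_mem hh)

theorem commutator_le_of_nml {H X : Subgroup G} (hX : Nml H X) {Y : Subgroup G} (hY : Y ≤ H) : ⁅X, Y⁆ ≤ X :=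
  commutator_le.mpr fun x hx y hy => by
    rw [show ⁅x, y⁆ = x * (y * x⁻¹ * y⁻¹) by rw [commutatorElement_def]; group]
    exact X.mul_mem hx (hX y (hY hy) _ (X.inv_mem hx))

/-- The span of the conjugates. -/
def span (A H : Subgroup G) : Subgroup G := closure {g | ∃ h ∈ H, g ∈ cjg h A}

theorem cjg_le_span {A H : Subgroup G} {h : G} (hh : h ∈ H) : cjg h A ≤ span A H := fun _ hg =>
  subset_closure ⟨h, hh, hg⟩

theorem le_span (A H : Subgroup G) : A ≤ span A H := by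
  have := cjg_le_span (A := A) (H := H) (one_mem H)
  rwa [cjg_one] at this

theorem span_le {A H X : Subgroup G} (h : ∀ g ∈ H, cjg g A ≤ X) : span A H ≤ X :=
  (closure_le _).mpr fun _ ⟨g, hg, hx⟩ => h g hg hx

theorem span_nml (A H : Subgroup G) : Nml H (span A H) := fun h hh x hx =>
  ((closure_le _).mpr fun y ⟨g, hg, hy⟩ => cjg_le_span (mul_mem hh hg) (by
    rw [cjg_mul]; exact conj_mem_cjg hy) :
    span A H ≤ (span A H).comap (MulAut.conj h).toMonoidHom) hx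

/-- Three subgroups modulo a subgroup normalised by all of them. -/
theorem three_in {H X Y Z N : Subgroup G} (hX : X ≤ H) (hY : Y ≤ H) (hZ : Z ≤ H) (hN : N ≤ H) (hn : Nml H N)
    (h1 : ⁅⁅Y, Z⁆, X⁆ ≤ N) (h2 : ⁅⁅Z, X⁆, Y⁆ ≤ N) : ⁅⁅X, Y⁆, Z⁆ ≤ N := by
  haveI : (N.subgroupOf H).Normal :=
    ⟨fun n hn' g => mem_subgroupOf.mpr (hn g g.2 n (mem_subgroupOf.mp hn'))⟩
  obtain ⟨q, hq⟩ : ∃ q, q = QuotientGroup.mk' (N.subgroupOf H) := ⟨_, rfl⟩
  have key : ∀ A B C : Subgroup G, A ≤ H → B ≤ H → C ≤ H →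
      (⁅⁅A, B⁆, C⁆ ≤ N ↔ ⁅⁅(A.subgroupOf H).map q, (B.subgroupOf H).map q⁆, (C.subgroupOf H).map q⁆ = ⊥) := by
    intro A B C hA hB hC
    rw [← map_commutator, ← map_commutator, Subgroup.map_eq_bot_iff, hq, QuotientGroup.ker_mk']
    have e : (⁅⁅A.subgroupOf H, B.subgroupOf H⁆, C.subgroupOf H⁆).map H.subtype = ⁅⁅A, B⁆, C⁆ := by
      rw [map_commutator, map_commutator, map_subgroupOf_eq_of_le hA, map_subgroupOf_eq_of_le hB,
        map_subgroupOf_eq_of_le hC]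
    rw [← e, map_le_iff_le_comap]
    rfl
  rw [key X Y Z hX hY hZ]
  exact commutator_commutator_eq_bot_of_rotate ((key Y Z X hY hZ hX).mp h1) ((key Z X Y hZ hX hY).mp h2)

theorem odd_nml (H : Subgroup G) : Nml H (odd H) := oddGenerated_norm H

/-- Commutators with the odd residual stabilise. -/
theorem comm_odd_idem {H K : Subgroup G} (hK : Nml H K) (hp : IsPGroup 2 K) :
    ⁅⁅K, odd H⁆, odd H⁆ = ⁅K, odd H⁆ := by
  have hE : odd H ≤ H := oddGenerated_le H
  have hKE : Nml (odd H) K := hK.mono hE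
  refine le_antisymm (commutator_mono (commutator_le_of_nml hKE le_rfl) le_rfl) ?_
  obtain ⟨N, hN⟩ : ∃ N, N = ⁅⁅K, odd H⁆, odd H⁆ := ⟨_, rfl⟩
  have hNn : Nml (odd H) N := hN ▸ (hKE.commutator (nml_self _)).commutator (nml_self _)
  let S : Subgroup G :=
    { carrier := {e | e ∈ odd H ∧ ∀ k ∈ K, ⁅k, e⁆ ∈ N}
      one_mem' := ⟨one_mem _, fun k _ => by rw [commutatorElement_one_right]; exact one_mem _⟩
      mul_mem' := fun {a b} ha hb => ⟨mul_mem ha.1 hb.1, fun k hk => by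
        rw [show ⁅k, a * b⁆ = ⁅k, a⁆ * (a * ⁅k, b⁆ * a⁻¹) by simp only [commutatorElement_def]; group]
        exact mul_mem (ha.2 k hk) (hNn a ha.1 _ (hb.2 k hk))⟩
      inv_mem' := fun {a} ha => ⟨inv_mem ha.1, fun k hk => by
        rw [show ⁅k, a⁻¹⁆ = a⁻¹ * ⁅k, a⁆⁻¹ * a⁻¹⁻¹ by simp only [commutatorElement_def]; group]
        exact hNn _ (inv_mem ha.1) _ (inv_mem (ha.2 k hk))⟩ }
  have hS : odd H ≤ S := (closure_le _).mpr fun e he => by
    obtain ⟨heH, heo⟩ := he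
    have heE : e ∈ odd H := subset_closure ⟨heH, heo⟩
    refine ⟨heE, fun k hk => ?_⟩
    have hcop : (Nat.card (zpowers e)).Coprime (Nat.card K) := by
      obtain ⟨n, hn⟩ := hp.exists_card_eq
      rw [Nat.card_zpowers, hn]
      exact (Nat.coprime_two_right.mpr heo).pow_right n
    have hsolv : Group.IsSolvable ↥(zpowers e) ∨ Group.IsSolvable ↥K := by
      haveI := hp.isNilpotent
      exact Or.inr inferInstance
    have h := Grp.commutator_commutator_eq (zpowers e) K ((zpowers_le.mpr heE).trans hKE.le_norm) hcop hsolv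
    have h1 : ⁅k, e⁆ ∈ ⁅K, zpowers e⁆ := commutator_mem_commutator hk (mem_zpowers e)
    rw [← h] at h1
    exact hN ▸ commutator_mono (commutator_mono le_rfl (zpowers_le.mpr heE)) (zpowers_le.mpr heE) h1
  exact hN ▸ commutator_le.mpr fun k hk e he => (hS he).2 k hk

/-- An action of the odd residual trivial on two layers is trivial. -/
theorem comm_odd_bot {H K : Subgroup G} (hK : Nml H K) (hp : IsPGroup 2 K) {N : Subgroup G}
    (h1 : ⁅K, odd H⁆ ≤ N) (h2 : ⁅N, odd H⁆ = ⊥) : ⁅K, odd H⁆ = ⊥ := by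
  rw [← comm_odd_idem hK hp]
  exact le_bot_iff.mp ((commutator_mono h1 le_rfl).trans h2.le)

/-- A normal subgroup of a 2-group lying in its commutator with the group modulo a smaller one is that one. -/
theorem nilp_le {P X W : Subgroup G} (hP : IsPGroup 2 P) (hX : X ≤ P) (hW : W ≤ P) (hn : Nml P W)
    (h : X ≤ ⁅X, P⁆ ⊔ W) : X ≤ W := by
  haveI : (W.subgroupOf P).Normal :=
    ⟨fun n hn' g => mem_subgroupOf.mpr (hn g g.2 n (mem_subgroupOf.mp hn'))⟩
  obtain ⟨q, hq⟩ : ∃ q, q = QuotientGroup.mk' (W.subgroupOf P) := ⟨_, rfl⟩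
  obtain ⟨Xq, hXq⟩ : ∃ Xq, Xq = (X.subgroupOf P).map q := ⟨_, rfl⟩
  haveI hnil : Group.IsNilpotent (↥P ⧸ W.subgroupOf P) :=
    (hP.of_surjective q (hq ▸ QuotientGroup.mk'_surjective _)).isNilpotent
  have hXP : ⁅X, P⁆ ≤ P := commutator_le_of_nml (nml_self P) le_rfl |>.trans' (commutator_mono hX le_rfl)
  have hle : Xq ≤ ⁅Xq, ⊤⁆ := by
    have h1 : X.subgroupOf P ≤ ⁅X.subgroupOf P, ⊤⁆ ⊔ W.subgroupOf P := by
      rw [← map_le_map_iff_of_injective P.subtype_injective, Subgroup.map_sup, map_commutator,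
        map_subgroupOf_eq_of_le hX, map_subgroupOf_eq_of_le hW, ← MonoidHom.range_eq_map, range_subtype]
      exact h
    have h2 := map_mono (f := q) h1
    rw [Subgroup.map_sup, map_commutator, ← hXq,
      show (W.subgroupOf P).map q = ⊥ from (Subgroup.map_eq_bot_iff _).mpr (by rw [hq, QuotientGroup.ker_mk']),
      sup_bot_eq] at h2
    exact h2.trans (commutator_mono le_rfl le_top)
  have hlcs : ∀ n, Xq ≤ (⊤ : Subgroup (↥P ⧸ W.subgroupOf P)).lowerCentralSeries n := by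
    intro n
    induction n with
    | zero => exact le_top
    | succ n ih => exact hle.trans (commutator_mono ih le_rfl)
  obtain ⟨n, hn'⟩ := Subgroup.nilpotent_iff_lowerCentralSeries.mp hnil
  intro x hx
  have h3 : q ⟨x, hX hx⟩ = 1 := mem_bot.mp (hn'.le (hlcs n (hXq ▸ mem_map_of_mem q (mem_subgroupOf.mpr hx))))
  rw [hq, QuotientGroup.mk'_apply, QuotientGroup.eq_one_iff] at h3
  exact mem_subgroupOf.mp h3

/-- `T` is a Sylow 2-subgroup of `H` lying in the unique maximal subgroup `M`. -/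
structure UMax (H T M : Subgroup G) : Prop where
  pT : IsPGroup 2 T
  TH : T ≤ H
  idx : ¬ 2 ∣ T.relIndex H
  TM : T ≤ M
  MH : M < H
  uniq : ∀ Y : Subgroup G, T ≤ Y → Y < H → Y ≤ M

variable {H T M : Subgroup G}

theorem UMax.two (_ : UMax H T M) : Fact (Nat.Prime 2) := ⟨Nat.prime_two⟩

theorem UMax.syl (U : UMax H T M) : Grp.IsSylowIn 2 T H := ⟨U.TH, U.pT, U.idx⟩

/-- A 2-subgroup moves into the Sylow subgroup. -/
theorem UMax.into (U : UMax H T M) {X : Subgroup G} (hX : X ≤ H) (hp : IsPGroup 2 X) :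
    ∃ h ∈ H, cjg h X ≤ T := by
  haveI := U.two
  exact Fus.Fail.conj_into U.syl hX hp

theorem UMax.core_le (U : UMax H T M) : core2 H ≤ T := by
  haveI := U.two
  obtain ⟨h, hh, hle⟩ := U.into (core2_le H) (core2_isPGroup H)
  rwa [cjg_of_norm (norm_of_conj (core2_norm H) hh)] at hle

theorem UMax.le_sup (U : UMax H T M) : H ≤ odd H ⊔ T := by
  haveI := U.two
  obtain ⟨S, hS⟩ : ∃ S : Sylow 2 ↥H, (S : Subgroup ↥H) = T.subgroupOf H :=
    ⟨(U.pT.of_equiv (subgroupOfEquivOfLe U.TH).symm).toSylow U.idx, rfl⟩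
  intro x hx
  have hle : Fus.PushBlocks.pgen 2 ↥H ⊔ (S : Subgroup ↥H) ≤ (odd H ⊔ T).subgroupOf H := by
    refine sup_le (Fus.PushBlocks.pgen_le fun c hc => ?_) fun c hc => ?_
    · rw [← orderOf_coe, Nat.coprime_two_right] at hc
      exact mem_subgroupOf.mpr (mem_sup_left (subset_closure ⟨c.2, hc⟩))
    · rw [hS] at hc
      exact mem_subgroupOf.mpr (mem_sup_right (mem_subgroupOf.mp hc))
  rw [Fus.PushBlocks.pgen_sup_sylow] at hle
  exact mem_subgroupOf.mp (hle (mem_top (⟨x, hx⟩ : ↥H)))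

theorem UMax.exists_et (U : UMax H T M) {h : G} (hh : h ∈ H) : ∃ e ∈ odd H, ∃ t ∈ T, e * t = h := by
  have hn : T ≤ normalizer ((odd H : Subgroup G) : Set G) := U.TH.trans (odd_nml H).le_norm
  have h1 : h ∈ ((odd H ⊔ T : Subgroup G) : Set G) := U.le_sup hh
  rw [coe_mul_of_right_le_normalizer_left _ _ hn] at h1
  exact h1

/-- What the odd residual and the Sylow subgroup normalise is normal. -/
theorem UMax.nml (U : UMax H T M) {X : Subgroup G} (h1 : odd H ≤ normalizer (X : Set G))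
    (h2 : T ≤ normalizer (X : Set G)) : Nml H X := .of_norm (U.le_sup.trans (sup_le h1 h2))

theorem UMax.not_odd_le (U : UMax H T M) : ¬ odd H ≤ M := fun h => U.MH.not_ge (U.le_sup.trans (sup_le h U.TM))

/-- A normal subgroup outside `M` contains the odd residual. -/
theorem UMax.odd_le_of_normal (U : UMax H T M) {N : Subgroup G} (hN : N ≤ H) (hn : Nml H N) (hM : ¬ N ≤ M) :
    odd H ≤ N := by
  have hsup : N ⊔ T = H := by
    by_contra h
    exact hM (le_sup_left.trans (U.uniq _ le_sup_right (lt_of_le_of_ne (sup_le hN U.TH) h)))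
  refine (closure_le _).mpr fun x hx => ?_
  obtain ⟨hxH, hxo⟩ := hx
  haveI : (N.subgroupOf H).Normal :=
    ⟨fun n hn' g => mem_subgroupOf.mpr (hn g g.2 n (mem_subgroupOf.mp hn'))⟩
  obtain ⟨q, hq⟩ : ∃ q, q = QuotientGroup.mk' (N.subgroupOf H) := ⟨_, rfl⟩
  have hp : IsPGroup 2 ((T.subgroupOf H).map q) := (U.pT.of_equiv (subgroupOfEquivOfLe U.TH).symm).map q
  have hmem : q ⟨x, hxH⟩ ∈ (T.subgroupOf H).map q := by
    have h1 : (⟨x, hxH⟩ : ↥H) ∈ N.subgroupOf H ⊔ T.subgroupOf H := by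
      rw [← subgroupOf_sup hN U.TH]; exact mem_subgroupOf.mpr (hsup.ge hxH)
    have h2 := mem_map_of_mem q h1
    rwa [Subgroup.map_sup,
      show (N.subgroupOf H).map q = ⊥ from (Subgroup.map_eq_bot_iff _).mpr (by rw [hq, QuotientGroup.ker_mk']),
      bot_sup_eq] at h2
  obtain ⟨k, hk⟩ := hp ⟨_, hmem⟩
  have h3 : q ⟨x, hxH⟩ ^ 2 ^ k = 1 := congrArg Subtype.val hk
  have h4 : orderOf (q ⟨x, hxH⟩) = 1 := Nat.eq_one_of_dvd_coprimes
    (((Nat.coprime_two_right.mpr hxo).pow_right k)) ((orderOf_map_dvd q ⟨x, hxH⟩).trans (by rw [← orderOf_coe]))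
    (orderOf_dvd_of_pow_eq_one h3)
  rw [orderOf_eq_one_iff, hq, QuotientGroup.mk'_apply, QuotientGroup.eq_one_iff] at h4
  exact mem_subgroupOf.mp h4

/-- A normal subgroup inside `M` meets the Sylow subgroup inside the core. -/
theorem UMax.inf_le_core (U : UMax H T M) {N : Subgroup G} (hN : N ≤ M) (hn : Nml H N) :
    T ⊓ N ≤ core2 H := by
  haveI := U.two
  have hNH : N ≤ H := hN.trans U.MH.le
  obtain ⟨Y, hY⟩ : ∃ Y, Y = H ⊓ normalizer ((T ⊓ N : Subgroup G) : Set G) := ⟨_, rfl⟩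
  have hTY : T ≤ Y := hY ▸ le_inf U.TH (Nml.le_norm ((nml_self T).inf (hn.mono U.TH)))
  by_cases hYH : Y = H
  · refine le_core2 (inf_le_left.trans U.TH) (U.pT.to_le inf_le_left) (Nml.of_norm ?_)
    exact hYH.symm.le.trans (hY.le.trans inf_le_right)
  · exfalso
    have hYM : Y ≤ M := U.uniq Y hTY (lt_of_le_of_ne (hY.le.trans inf_le_left) hYH)
    refine U.MH.not_ge fun h hh => ?_
    have hs : Grp.IsSylowIn 2 (T ⊓ N) N := Fus.Fail.sylow_inf_normal U.syl hNH hn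
    have hle : cjg h (T ⊓ N) ≤ N := cjg_le.mpr fun x hx => hn h hh x hx.2
    obtain ⟨n, hn', hle'⟩ := Fus.Fail.conj_into hs hle ((U.pT.to_le inf_le_left).map _)
    have e : cjg n (cjg h (T ⊓ N)) = T ⊓ N := eq_of_le_of_card_ge hle' (by
      rw [cjg, cjg, card_map_of_injective (MulAut.conj n).injective,
        card_map_of_injective (MulAut.conj h).injective])
    rw [← cjg_mul] at e
    have h1 : n * h ∈ M := hYM (hY.ge ⟨mul_mem (hNH hn') hh, mem_normalizer_of_cjg e⟩)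
    simpa using M.mul_mem (M.inv_mem (hN hn')) h1

/-- The odd residual does not centralise what is not normalised. -/
theorem UMax.not_cent (U : UMax H T M) {A : Subgroup G} (hTA : T ≤ normalizer (A : Set G))
    (hA : ¬ H ≤ normalizer (A : Set G)) : ¬ odd H ≤ centralizer (A : Set G) := fun h =>
  hA (U.le_sup.trans (sup_le (h.trans (centralizer_le_normalizer _)) hTA))

/-- A normal abelian-or-not 2-subgroup moved by the odd residual has a layer moved by it and fixed by the core. -/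
theorem exists_layer {P W X : Subgroup G} (hP : IsPGroup 2 P) (hPH : P ≤ H) (hPn : Nml H P) (hX : X ≤ P)
    (hW : W ≤ X) (hWn : Nml H W) (hXn : Nml H X) (hmov : ¬ ⁅X, odd H⁆ ≤ W) :
    ∃ W' X' : Subgroup G, W ≤ W' ∧ W' ≤ X' ∧ X' ≤ X ∧ Nml H W' ∧ Nml H X' ∧ ⁅X', P⁆ ≤ W' ∧
      ¬ ⁅X', odd H⁆ ≤ W' ∧ ∀ Y : Subgroup G, W ≤ Y → Y ≤ X' → Y ≠ X' → Nml H Y → ⁅Y, odd H⁆ ≤ W := by
  obtain ⟨X', ⟨hWX, hX'X, hX'n, hX'⟩, hmin⟩ := Set.exists_min_image
    {Y : Subgroup G | W ≤ Y ∧ Y ≤ X ∧ Nml H Y ∧ ¬ ⁅Y, odd H⁆ ≤ W} (fun Y => Nat.card Y) (Set.toFinite _)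
    ⟨X, hW, le_rfl, hXn, hmov⟩
  have hsub : ∀ Y : Subgroup G, W ≤ Y → Y ≤ X' → Y ≠ X' → Nml H Y → ⁅Y, odd H⁆ ≤ W := fun Y h1 h2 h3 h4 => by
    by_contra h
    exact h3 (eq_of_le_of_card_ge h2 (hmin Y ⟨h1, h2.trans hX'X, h4, h⟩))
  obtain ⟨W', hW'⟩ : ∃ W', W' = ⁅X', P⁆ ⊔ W := ⟨_, rfl⟩
  have hW'n : Nml H W' := hW' ▸ (hX'n.commutator hPn).sup hWn
  have hW'X : W' ≤ X' := hW' ▸ sup_le (commutator_le_of_nml hX'n hPH) hWX
  have hne : W' ≠ X' := fun e => hX' (by
    have h1 : X' ≤ W := nilp_le hP (hX'X.trans hX) ((hW.trans hX)) (hWn.mono hPH) (e.ge.trans hW'.le)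
    exact (commutator_mono h1 le_rfl).trans (commutator_le_of_nml hWn (oddGenerated_le H)))
  refine ⟨W', X', hW' ▸ le_sup_right, hW'X, hX'X, hW'n, hX'n, hW' ▸ le_sup_left, fun h => hX' ?_, hsub⟩
  have hp' : IsPGroup 2 X' := hP.to_le (hX'X.trans hX)
  rw [← comm_odd_idem hX'n hp']
  exact (commutator_mono h le_rfl).trans (hsub W' (hW' ▸ le_sup_right) hW'X hne hW'n)

/-- The index of `Q` in `E Q`. -/
theorem relIndex_sup_eq {E Q : Subgroup G} (h : Q ≤ normalizer (E : Set G)) :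
    Q.relIndex (E ⊔ Q) = Q.relIndex E := by
  have h1 := Grp.card_sup_mul_card_inf (H := Q) (N := E) h
  have h2 := Grp.card_mul_relIndex (le_sup_right : Q ≤ E ⊔ Q)
  have h3 := Grp.relIndex_mul_card_inf E Q
  rw [sup_comm] at h1
  rw [inf_comm] at h3
  have e : Nat.card Q * (Q.relIndex (E ⊔ Q) * Nat.card ↥(Q ⊓ E)) =
      Nat.card Q * (Q.relIndex E * Nat.card ↥(Q ⊓ E)) := by
    rw [← mul_assoc, h2, h1, mul_comm (Q.relIndex E), h3]
  exact Nat.eq_of_mul_eq_mul_right Nat.card_pos (Nat.eq_of_mul_eq_mul_left Nat.card_pos e)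

end Cfsg.Agent.Transfer.QRC
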