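import Cfsg.Agent.Lib.Transfer.QRC.Layer

/-!
# A quadratic offender on the span of the conjugates

`U` is the span of the `H`-conjugates of `A ≤ O₂(H)`. With an offender in the Sylow subgroup either `A` has a
quadratic witness, or `U` has one moved layer, the core centralises `[U, E]` and `U = [U, E] C_U(B)`.
-/

set_option autoImplicit false
set_option linter.unusedSectionVars false
set_option linter.style.haveILetI false

open scoped commutatorElement

namespace Cfsg.Agent.Transfer.QRC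

open Subgroup

universe u

variable {G : Type u} [Group G] [Finite G] {H T M A U B : Subgroup G}

/-- `U` is the abelian span of the conjugates of `A`. -/
structure Sit (H T M A U : Subgroup G) : Prop extends UMax H T M where
  TA : T ≤ normalizer (A : Set G)
  AO : A ≤ core2 H
  move : ¬ H ≤ normalizer (A : Set G)
  hU : U = span A H
  comm : ∀ u ∈ U, ∀ v ∈ U, u * v = v * u
  sq : ∀ u ∈ U, u * u = 1

/-- An offender in the Sylow subgroup. -/
structure Off1 (U T B : Subgroup G) : Prop where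
  le : B ≤ T
  quad : ⁅⁅U, B⁆, B⁆ = ⊥
  el : ElImg B U
  move : ¬ B ≤ centralizer (U : Set G)
  bound : fx U B ≤ cx U B

theorem span_el {A H : Subgroup G} (hs : ∀ a ∈ A, a * a = 1)
    (hc : ∀ h ∈ H, ∀ a ∈ A, ∀ b ∈ cjg h A, a * b = b * a) :
    (∀ u ∈ span A H, ∀ v ∈ span A H, u * v = v * u) ∧ ∀ u ∈ span A H, u * u = 1 := by
  obtain ⟨S, hS⟩ : ∃ S, S = span A H := ⟨_, rfl⟩
  rw [← hS]
  have hgen : ∀ g ∈ H, ∀ h ∈ H, cjg g A ≤ centralizer ((cjg h A : Subgroup G) : Set G) := by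
    intro g hg h hh x hx
    obtain ⟨a, ha, rfl⟩ := hx
    refine mem_centralizer_iff.mpr ?_
    rintro _ ⟨b, hb, rfl⟩
    have e := hc (g⁻¹ * h) (mul_mem (inv_mem hg) hh) a ha ((g⁻¹ * h) * b * (g⁻¹ * h)⁻¹) (conj_mem_cjg hb)
    simp only [MulEquiv.coe_toMonoidHom, MulAut.conj_apply]
    calc h * b * h⁻¹ * (g * a * g⁻¹) = g * (g⁻¹ * h * b * (g⁻¹ * h)⁻¹ * a) * g⁻¹ := by group
      _ = g * (a * (g⁻¹ * h * b * (g⁻¹ * h)⁻¹)) * g⁻¹ := by rw [e]
      _ = _ := by group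
  have hcomm : ∀ u ∈ S, ∀ v ∈ S, u * v = v * u := by
    have h1 : S ≤ centralizer (S : Set G) := by
      refine hS.le.trans (span_le fun g hg => le_centralizer_iff.mp (hS.le.trans (span_le fun h hh => hgen h hh g hg)))
    exact fun u hu v hv => mem_centralizer_iff.mp (h1 hv) u hu
  refine ⟨hcomm, fun u hu => ?_⟩
  let P : Subgroup G :=
    { carrier := {x | x ∈ S ∧ x * x = 1}
      one_mem' := ⟨one_mem _, one_mul 1⟩
      mul_mem' := fun {a b} ha hb => ⟨mul_mem ha.1 hb.1, by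
        rw [mul_assoc, ← mul_assoc b, hcomm b hb.1 a ha.1, mul_assoc, hb.2, mul_one, ha.2]⟩
      inv_mem' := fun {a} ha => ⟨inv_mem ha.1, by rw [← mul_inv_rev, ha.2, inv_one]⟩ }
  have hle : S ≤ P := by
    refine hS.le.trans (span_le fun g hg => cjg_le.mpr fun a ha => ⟨hS.ge (cjg_le_span hg (conj_mem_cjg ha)), ?_⟩)
    rw [show g * a * g⁻¹ * (g * a * g⁻¹) = g * (a * a) * g⁻¹ by group, hs a ha, mul_one, mul_inv_cancel]
  exact (hle hu).2

/-- What fixes `W` and maps `U` into `W` induces an elementary abelian group on `U`. -/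
theorem stab_el {U W N : Subgroup G} (hs : ∀ u ∈ U, u * u = 1) (hc : ∀ u ∈ U, ∀ v ∈ U, u * v = v * u) (hW : W ≤ U)
    (h1 : ⁅U, N⁆ ≤ W) (h2 : ⁅W, N⁆ = ⊥) : ElImg N U := by
  have hcw : ∀ w ∈ W, ∀ n ∈ N, n * w * n⁻¹ = w := fun w hw n hn => by
    have e : ⁅w, n⁆ = 1 := mem_bot.mp (h2.le (commutator_mem_commutator hw hn))
    rw [mul_inv_eq_iff_eq_mul]
    exact (commutatorElement_eq_one_iff_mul_comm.mp e).symm
  have hmul : ∀ u ∈ U, ∀ a ∈ N, ∀ b ∈ N, ⁅u, a * b⁆ = ⁅u, a⁆ * ⁅u, b⁆ := fun u hu a ha b hb => by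
    rw [show ⁅u, a * b⁆ = ⁅u, a⁆ * (a * ⁅u, b⁆ * a⁻¹) by simp only [commutatorElement_def]; group,
      hcw _ (h1 (commutator_mem_commutator hu hb)) a ha]
  have hW' : ∀ u ∈ U, ∀ a ∈ N, ⁅u, a⁆ ∈ U := fun u hu a ha => hW (h1 (commutator_mem_commutator hu ha))
  refine ⟨fun b hb => mem_centralizer_iff.mpr fun u hu => ?_,
    fun b hb b' hb' => mem_centralizer_iff.mpr fun u hu => ?_⟩
  · refine commutatorElement_eq_one_iff_mul_comm.mp ?_
    rw [pow_two, hmul u hu b hb b hb]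
    exact hs _ (hW' u hu b hb)
  · refine commutatorElement_eq_one_iff_mul_comm.mp ?_
    have hinv : ∀ a ∈ N, ⁅u, a⁻¹⁆ = ⁅u, a⁆⁻¹ := fun a ha => eq_inv_of_mul_eq_one_left (by
      rw [← hmul u hu _ (inv_mem ha) a ha, inv_mul_cancel, commutatorElement_one_right])
    rw [hmul u hu _ (mul_mem (mul_mem hb hb') (inv_mem hb)) _ (inv_mem hb'),
      hmul u hu _ (mul_mem hb hb') _ (inv_mem hb), hmul u hu b hb b' hb', hinv b hb, hinv b' hb',
      hc _ (hW' u hu b hb) _ (hW' u hu b' hb')]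
    group

namespace Sit

theorem umax (S : Sit H T M A U) : UMax H T M := S.toUMax

theorem U_nml (S : Sit H T M A U) : Nml H U := S.hU ▸ span_nml A H

theorem U_core (S : Sit H T M A U) : U ≤ core2 H := S.hU.le.trans (span_le fun g hg =>
  cjg_le.mpr fun a ha => core2_norm H g hg a (S.AO ha))

theorem U_le_H (S : Sit H T M A U) : U ≤ H := S.U_core.trans (core2_le H)

theorem A_le_U (S : Sit H T M A U) : A ≤ U := S.hU ▸ le_span A H

theorem U_pgroup (S : Sit H T M A U) : IsPGroup 2 U := (core2_isPGroup H).to_le S.U_core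

theorem U1_le (S : Sit H T M A U) : ⁅U, odd H⁆ ≤ U := commutator_le_of_nml S.U_nml (oddGenerated_le H)

theorem U1_nml (S : Sit H T M A U) : Nml H ⁅U, odd H⁆ := S.U_nml.commutator (odd_nml H)

theorem U1_idem (S : Sit H T M A U) : ⁅⁅U, odd H⁆, odd H⁆ = ⁅U, odd H⁆ := comm_odd_idem S.U_nml S.U_pgroup

theorem U1_ne (S : Sit H T M A U) : ⁅U, odd H⁆ ≠ ⊥ := fun h => S.umax.not_cent S.TA S.move (fun e he =>
  mem_centralizer_iff.mpr fun a ha => commutatorElement_eq_one_iff_mul_comm.mp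
    (mem_bot.mp (h.le (commutator_mem_commutator (S.A_le_U ha) he))))

theorem cent_le_M (S : Sit H T M A U) : H ⊓ centralizer (U : Set G) ≤ M := by
  by_contra h
  have h1 := S.umax.odd_le_of_normal inf_le_left ((nml_self H).inf S.U_nml.centralizer) h
  exact S.umax.not_cent S.TA S.move (h1.trans (inf_le_right.trans (centralizer_le S.A_le_U)))

theorem cent_T (S : Sit H T M A U) : T ⊓ centralizer (U : Set G) ≤ core2 H :=
  (le_inf inf_le_left (le_inf (inf_le_left.trans S.TH) inf_le_right)).trans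
    (S.umax.inf_le_core S.cent_le_M ((nml_self H).inf S.U_nml.centralizer))

/-- No quadratic 2-offender inside the core. -/
theorem no_off_core (S : Sit H T M A U) {B : Subgroup G} (hB : B ≤ core2 H) (hq : ⁅⁅U, B⁆, B⁆ = ⊥) (hel : ElImg B U)
    (hne : ¬ B ≤ centralizer (U : Set G)) (hb : fx U B ≤ cx U B ^ 2) : QTarget A := by
  obtain ⟨B', ⟨hB'B, hB'ne, hB'b⟩, hmin⟩ := Set.exists_min_image
    {X : Subgroup G | X ≤ B ∧ ¬ X ≤ centralizer (U : Set G) ∧ fx U X ≤ cx U X ^ 2} (fun X => Nat.card X)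
    (Set.toFinite _) ⟨B, le_rfl, hne, hb⟩
  obtain ⟨h, hh, hnc⟩ : ∃ h ∈ H, ¬ B' ≤ centralizer ((cjg h A : Subgroup G) : Set G) := by
    by_contra hall
    push Not at hall
    refine hB'ne (le_centralizer_iff.mp ?_)
    exact S.hU.le.trans (span_le fun g hg => le_centralizer_iff.mp (hall g hg))
  have hnorm : B' ≤ normalizer ((cjg h A : Subgroup G) : Set G) := by
    refine (hB'B.trans hB).trans ?_
    rw [← cjg_of_norm (norm_of_conj (core2_norm H) hh : h ∈ normalizer ((core2 H : Subgroup G) : Set G))]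
    exact le_normalizer_cjg (S.umax.core_le.trans S.TA)
  have ht := target_of_minimal (U := U) (A := cjg h A) (B := B') (S.hU ▸ cjg_le_span hh)
    ((core2_isPGroup H).to_le (hB'B.trans hB)) hnorm hnc (hel.mono hB'B le_rfl)
    (le_bot_iff.mp ((commutator_mono (commutator_mono le_rfl hB'B) hB'B).trans hq.le)) hB'b
    (fun X hX hXb => by
      by_contra hXne
      exact absurd (hmin X ⟨hX.le.trans hB'B, hXne, hXb⟩)
        (Nat.not_le.mpr (Set.Finite.card_lt_card (Set.toFinite _) hX)))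
  have := ht.cjg' h⁻¹
  rwa [cjg_inv_cjg] at this

/-- A moved layer of `U` is not over-offended. -/
theorem layer_bound (S : Sit H T M A U) (hB : Off1 U T B) {W X : Subgroup G} (hWX : W ≤ X) (hXU : X ≤ U)
    (hWn : Nml H W) (hXn : Nml H X) (hO : ⁅X, core2 H⁆ ≤ W) (hE : ¬ ⁅X, odd H⁆ ≤ W) :
    (B ⊓ core2 H).relIndex B ≤ ((X ⊓ centralizer (B : Set G)) ⊔ W).relIndex X := by
  refine upper_bound S.umax hWX (hXU.trans S.U_le_H) hWn hXn (fun x hx y hy => ?_) (fun x hx => ?_) hO hE hB.le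
    (fun b hb b' hb' x hx => ?_)
  · rw [commutatorElement_eq_one_iff_mul_comm.mpr (S.comm x (hXU hx) y (hXU hy))]; exact one_mem _
  · rw [S.sq x (hXU hx)]; exact one_mem _
  · rw [commutatorElement_def b b', commutatorElement_eq_one_iff_mul_comm.mpr
      (mem_centralizer_iff.mp (hB.el.comm b hb b' hb') x (hXU hx)).symm]
    exact one_mem _

theorem cx_split (S : Sit H T M A U) (hB : Off1 U T B) :
    cx U B = cx U (B ⊓ core2 H) * (B ⊓ core2 H).relIndex B := by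
  have hle : B ⊓ centralizer (U : Set G) ≤ B ⊓ core2 H :=
    le_inf inf_le_left ((inf_le_inf_right _ hB.le).trans S.cent_T)
  rw [cx_eq, ← relIndex_mul_relIndex _ _ _ hle inf_le_left, cx_eq]
  congr 2
  exact le_antisymm (le_inf hle inf_le_right) (inf_le_inf_right _ inf_le_left)

/-- The offender has fewer than `a²` moved points, `a` its order modulo the core. -/
theorem fx_lt (S : Sit H T M A U) (hB : Off1 U T B) :
    QTarget A ∨ fx U B < (B ⊓ core2 H).relIndex B * (B ⊓ core2 H).relIndex B := by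
  obtain ⟨C, hC⟩ : ∃ C, C = B ⊓ core2 H := ⟨_, rfl⟩
  have hCB : C ≤ B := hC ▸ inf_le_left
  have hq : ⁅⁅U, C⁆, C⁆ = ⊥ := le_bot_iff.mp ((commutator_mono (commutator_mono le_rfl hCB) hCB).trans hB.quad.le)
  have hsplit := S.cx_split hB
  rw [← hC] at hsplit ⊢
  obtain ⟨a, ha⟩ : ∃ a, a = C.relIndex B := ⟨_, rfl⟩
  rw [← ha] at hsplit ⊢
  have hapos : 0 < a := ha ▸ Nat.pos_of_ne_zero (rel_ne _ _)
  by_cases hc : C ≤ centralizer (U : Set G)
  · right
    have h1 : cx U C = 1 := relIndex_eq_one.mpr hc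
    rw [h1, one_mul] at hsplit
    have ha1 : a ≠ 1 := fun h => hB.move ((relIndex_eq_one.mp (ha ▸ h)).trans hc)
    calc fx U B ≤ cx U B := hB.bound
      _ = a := hsplit
      _ < a * a := by nlinarith [Nat.lt_of_le_of_ne hapos (Ne.symm ha1)]
  · by_cases h2 : fx U C ≤ cx U C ^ 2
    · exact .inl (S.no_off_core (hC ▸ inf_le_right) hq (hB.el.mono hCB le_rfl) hc h2)
    · right
      have h3 : fx U C ≤ fx U B := relIndex_le_of_le_left (inf_le_inf_left _ (centralizer_le hCB)) (rel_ne _ _)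
      have h4 := hB.bound
      rw [hsplit] at h4
      nlinarith

/-- There is one moved layer. -/
theorem unique_layer (S : Sit H T M A U) (hB : Off1 U T B) :
    QTarget A ∨ ∀ X : Subgroup G, X ≤ ⁅U, odd H⁆ → X ≠ ⁅U, odd H⁆ → Nml H X → ⁅X, odd H⁆ = ⊥ := by
  rcases S.fx_lt hB with h | hlt
  · exact .inl h
  refine .inr fun X hX hne hXn => by_contra fun hmov => ?_
  obtain ⟨U1, hU1⟩ : ∃ U1, U1 = ⁅U, odd H⁆ := ⟨_, rfl⟩
  rw [← hU1] at hX hne
  have hU1U : U1 ≤ U := hU1 ▸ S.U1_le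
  have hU1n : Nml H U1 := hU1 ▸ S.U1_nml
  have hPn : Nml H (core2 H) := core2_norm H
  have hOH : core2 H ≤ H := core2_le H
  obtain ⟨W1, X1, -, hWX1, hX1X, hW1n, hX1n, hO1, hE1, -⟩ :=
    exists_layer (W := ⊥) (core2_isPGroup H) hOH hPn ((hX.trans hU1U).trans S.U_core) bot_le
      (fun _ _ x hx => by rw [mem_bot.mp hx]; simp) hXn fun h => hmov (le_bot_iff.mp h)
  obtain ⟨W2, X2, hXW2, hWX2, hX2U, hW2n, hX2n, hO2, hE2, -⟩ :=
    exists_layer (core2_isPGroup H) hOH hPn (hU1U.trans S.U_core) hX hXn hU1n fun h => hne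
      (le_antisymm hX ((hU1 ▸ S.U1_idem).ge.trans h))
  have b1 := S.layer_bound hB hWX1 ((hX1X.trans hX).trans hU1U) hW1n hX1n hO1 hE1
  have b2 := S.layer_bound hB hWX2 (hX2U.trans hU1U) hW2n hX2n hO2 hE2
  obtain ⟨F, hF⟩ : ∃ F, F = U1 ⊓ centralizer (B : Set G) := ⟨_, rfl⟩
  have hFU : F ≤ U1 := hF ▸ inf_le_left
  have hfix : ∀ {K : Subgroup G}, K ≤ U1 → K ⊓ centralizer (B : Set G) = K ⊓ F := fun hK => by
    rw [hF, ← inf_assoc, inf_eq_left.mpr hK]
  have hn : X ≤ normalizer (F : Set G) := fun x hx => mem_normalizer_fintype fun f hf => by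
    rw [S.comm x (hU1U (hX hx)) f (hU1U (hFU hf)), mul_inv_cancel_right]
    exact hf
  have e1 : F.relIndex (F ⊔ X) = F.relIndex X := by
    rw [sup_comm]
    haveI : (F.subgroupOf (X ⊔ F)).Normal :=
      normal_subgroupOf_of_le_normalizer (sup_le hn le_normalizer)
    have := relIndex_sup_right (H := X.subgroupOf (X ⊔ F)) (K := F.subgroupOf (X ⊔ F))
    rwa [← subgroupOf_sup le_sup_left le_sup_right, relIndex_subgroupOf le_rfl,
      relIndex_subgroupOf le_sup_left] at this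
  have c1 : (B ⊓ core2 H).relIndex B ≤ F.relIndex X := by
    refine b1.trans (le_trans (relIndex_le_of_le_left (H := F ⊓ X1) ?_ (rel_ne _ _)) ?_)
    · rw [hfix (hX1X.trans hX), inf_comm]; exact le_sup_left
    · rw [inf_relIndex_right]
      exact relIndex_le_of_le_right hX1X (rel_ne _ _)
  have c2 : (B ⊓ core2 H).relIndex B ≤ (F ⊔ X).relIndex U1 := by
    refine b2.trans (le_trans (relIndex_le_of_le_left (H := (F ⊔ X) ⊓ X2) ?_ (rel_ne _ _)) ?_)
    · intro y hy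
      obtain ⟨hy1, hy2⟩ := mem_inf.mp hy
      have h1 : y ∈ ((X ⊔ F : Subgroup G) : Set G) := by rw [sup_comm]; exact hy1
      rw [coe_mul_of_left_le_normalizer_right X F hn] at h1
      obtain ⟨x, hx, f, hf, rfl⟩ := h1
      have hxW := hXW2 hx
      have hfX2 : f ∈ X2 := by
        have := mul_mem (inv_mem (hWX2 hxW)) hy2
        rwa [inv_mul_cancel_left] at this
      exact mul_mem (mem_sup_right hxW) (mem_sup_left (by rw [hfix hX2U]; exact ⟨hfX2, hf⟩))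
    · rw [inf_relIndex_right]
      exact relIndex_le_of_le_right hX2U (rel_ne _ _)
  have hmul : F.relIndex (F ⊔ X) * (F ⊔ X).relIndex U1 = F.relIndex U1 :=
    relIndex_mul_relIndex _ _ _ le_sup_left (sup_le hFU hX)
  have hle : F.relIndex U1 ≤ fx U B := by
    have e : F = (U ⊓ centralizer (B : Set G)) ⊓ U1 := by
      rw [hF, inf_comm U, inf_assoc, inf_eq_right.mpr hU1U, inf_comm]
    rw [e, inf_relIndex_right]
    exact relIndex_le_of_le_right hU1U (rel_ne _ _)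
  rw [← hmul, e1] at hle
  have := Nat.mul_le_mul c1 c2
  omega

/-- The core commutators with the odd residual centralise `U`. -/
theorem comm_core (S : Sit H T M A U) (hB : Off1 U T B) :
    QTarget A ∨ ⁅⁅core2 H, odd H⁆, U⁆ = ⊥ := by
  rcases S.unique_layer hB with h | huniq
  · exact .inl h
  obtain ⟨E, hE⟩ : ∃ E, E = odd H := ⟨_, rfl⟩
  obtain ⟨O, hO⟩ : ∃ O, O = core2 H := ⟨_, rfl⟩
  obtain ⟨N, hN⟩ : ∃ N, N = ⁅O, E⁆ := ⟨_, rfl⟩
  obtain ⟨U1, hU1⟩ : ∃ U1, U1 = ⁅U, E⁆ := ⟨_, rfl⟩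
  rw [← hE, ← hO, ← hN]
  rw [← hE, ← hU1] at huniq
  have hEH : E ≤ H := hE ▸ oddGenerated_le H
  have hEn : Nml H E := hE ▸ odd_nml H
  have hOH : O ≤ H := hO ▸ core2_le H
  have hOn : Nml H O := hO ▸ core2_norm H
  have hOp : IsPGroup 2 O := hO ▸ core2_isPGroup H
  have hUn := S.U_nml
  have hUH := S.U_le_H
  have hU1U : U1 ≤ U := hU1 ▸ hE ▸ S.U1_le
  have hU1n : Nml H U1 := hU1 ▸ hE ▸ S.U1_nml
  have hidem : ⁅U1, E⁆ = U1 := hU1 ▸ hE ▸ S.U1_idem
  have hU1ne : U1 ≠ ⊥ := hU1 ▸ hE ▸ S.U1_ne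
  have hNO : N ≤ O := hN ▸ commutator_le_of_nml hOn hEH
  have hNn : Nml H N := hN ▸ hOn.commutator hEn
  have hNidem : ⁅N, E⁆ = N := hN ▸ hE ▸ comm_odd_idem hOn hOp
  have hstep : ⁅N, U⁆ ≤ U1 := by
    rw [hN]
    refine three_in hOH hEH hUH (hU1U.trans hUH) hU1n ?_ ?_
    · rw [commutator_comm E U, ← hU1]; exact commutator_le_of_nml hU1n hOH
    · exact (commutator_mono (commutator_le_of_nml hUn hOH) le_rfl).trans hU1.ge
  have hproper : ⁅U1, O⁆ ≠ U1 := fun h => hU1ne (le_bot_iff.mp (nilp_le hOp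
    ((hU1U.trans S.U_core).trans hO.ge) bot_le (fun _ _ x hx => by rw [mem_bot.mp hx]; simp)
    (h.ge.trans le_sup_left)))
  have hOE : ⁅⁅U1, O⁆, E⁆ = ⊥ := huniq _ (commutator_le_of_nml hU1n hOH) hproper (hU1n.commutator hOn)
  have hXN : ∀ X : Subgroup G, X ≤ H → Nml H X → ⁅X, E⁆ = ⊥ → ⁅N, X⁆ = ⊥ := by
    intro X hXH hXn hX
    rw [hN]
    refine le_bot_iff.mp (three_in hOH hEH hXH bot_le (fun _ _ x hx => by rw [mem_bot.mp hx]; simp) ?_ ?_)
    · rw [commutator_comm E X, hX, commutator_bot_left]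
    · exact (commutator_mono (commutator_le_of_nml hXn hOH) le_rfl).trans hX.le
  by_cases hi : ⁅⁅N, U⁆, E⁆ = ⊥
  swap
  · exfalso
    have hNU : ⁅N, U⁆ = U1 := by_contra fun h => hi (huniq _ hstep h (hNn.commutator hUn))
    obtain ⟨Z1, hZ1⟩ : ∃ Z1, Z1 = U1 ⊓ centralizer (E : Set G) := ⟨_, rfl⟩
    have hZE : ⁅Z1, E⁆ = ⊥ := commutator_eq_bot_iff_le_centralizer.mpr (hZ1 ▸ inf_le_right)
    have hZn : Nml H Z1 := hZ1 ▸ hU1n.inf hEn.centralizer
    have hUA : U ≤ A ⊔ U1 := by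
      have h1 : Nml H (A ⊔ U1) := by
        refine S.umax.nml (fun e he => mem_normalizer_fintype fun x hx => ?_) ?_
        · have : A ⊔ U1 ≤ (A ⊔ U1).comap (MulAut.conj e).toMonoidHom := sup_le (fun a ha => mem_comap.mpr (by
            show e * a * e⁻¹ ∈ A ⊔ U1
            rw [show e * a * e⁻¹ = ⁅a, e⁆⁻¹ * a by simp only [commutatorElement_def]; group]
            exact mul_mem (mem_sup_right (inv_mem (hU1 ▸ commutator_mem_commutator (S.A_le_U ha) (hE ▸ he))))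
              (mem_sup_left ha))) fun u hu => mem_comap.mpr (mem_sup_right (hU1n e (oddGenerated_le H he) u hu))
          exact this hx
        · exact Nml.le_norm ((Nml.of_norm S.TA).sup (hU1n.mono S.TH))
      exact S.hU.le.trans (span_le fun g hg => (cjg_mono g le_sup_left).trans
        (cjg_le.mpr fun x hx => h1 g hg x hx))
    have hAn : ∀ a ∈ A, ∀ n ∈ N, ⁅n, a⁆ ∈ A := fun a ha n hn => by
      rw [commutatorElement_def]
      exact A.mul_mem ((mem_normalizer_iff.mp (S.TA (S.umax.core_le (hO ▸ hNO hn))) a).mp ha) (A.inv_mem ha)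
    have hU1N : ∀ u ∈ U1, ∀ n ∈ N, ⁅n, u⁆ ∈ Z1 := fun u hu n hn => by
      rw [← commutatorElement_inv]
      refine Z1.inv_mem (hZ1 ▸ ⟨?_, ?_⟩)
      · exact commutator_le_of_nml hU1n hOH (commutator_mem_commutator hu (hNO hn))
      · exact commutator_eq_bot_iff_le_centralizer.mp hOE (commutator_mem_commutator hu (hNO hn))
    -- commutators with `U = A U₁`
    have key : ∀ u ∈ U, ∀ n ∈ N, ∀ D : Subgroup G, (∀ a ∈ A, ⁅n, a⁆ ∈ D) → (∀ v ∈ U1, ⁅n, v⁆ ∈ D) → ⁅n, u⁆ ∈ D := by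
      intro u hu n hn D h1 h2
      have hset : u ∈ ((A ⊔ U1 : Subgroup G) : Set G) := hUA hu
      rw [coe_mul_of_left_le_normalizer_right A U1 ((S.A_le_U.trans hUH).trans hU1n.le_norm)] at hset
      obtain ⟨a, ha, v, hv, rfl⟩ := hset
      have hnv : ⁅n, v⁆ ∈ U := hU1U (hstep (commutator_mem_commutator hn (hU1U hv)))
      rw [show ⁅n, a * v⁆ = ⁅n, a⁆ * (a * ⁅n, v⁆ * a⁻¹) by simp only [commutatorElement_def]; group,
        S.comm a (S.A_le_U ha) _ hnv, mul_inv_cancel_right]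
      exact D.mul_mem (h1 a ha) (h2 v hv)
    have hU1AZ : U1 ≤ A ⊔ Z1 := hNU ▸ commutator_le.mpr fun n hn u hu =>
      key u hu n hn _ (fun a ha => mem_sup_left (hAn a ha n hn)) fun v hv => mem_sup_right (hU1N v hv n hn)
    have hU1A : U1 ≤ A := hNU ▸ commutator_le.mpr fun n hn u hu => by
      have hu' : u ∈ ((A ⊔ Z1 : Subgroup G) : Set G) := (hUA.trans (sup_le le_sup_left hU1AZ)) hu
      have hZU : Z1 ≤ U := hZ1 ▸ inf_le_left.trans hU1U
      rw [coe_mul_of_left_le_normalizer_right A Z1 ((S.A_le_U.trans hUH).trans hZn.le_norm)] at hu'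
      obtain ⟨a, ha, z, hz, rfl⟩ := hu'
      have e : ⁅n, z⁆ = 1 := mem_bot.mp ((hXN Z1 (hZU.trans hUH) hZn hZE).le (commutator_mem_commutator hn hz))
      rw [show ⁅n, a * z⁆ = ⁅n, a⁆ * (a * ⁅n, z⁆ * a⁻¹) by simp only [commutatorElement_def]; group, e, mul_one,
        mul_inv_cancel, mul_one]
      exact hAn a ha n hn
    have hUleA : U ≤ A := hUA.trans (sup_le le_rfl hU1A)
    exact S.move (fun g hg => Nml.le_norm (le_antisymm hUleA S.A_le_U ▸ hUn) hg)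
  -- the pairing
  have hN2 : ∀ X : Subgroup G, X = ⁅U1, N⁆ → ⁅N, U⁆ ≤ X := by
    rintro X rfl
    refine le_of_eq_of_le (congrArg (⁅·, U⁆) hNidem.symm) ?_
    refine three_in (hNO.trans hOH) hEH hUH ((commutator_le_of_nml hU1n (hNO.trans hOH)).trans (hU1U.trans hUH))
      (hU1n.commutator hNn) ?_ ?_
    · rw [commutator_comm E U, ← hU1]
    · rw [commutator_comm U N, hi]; exact bot_le
  obtain ⟨Z2, hZ2⟩ : ∃ Z2, Z2 = ⁅U1, N⁆ := ⟨_, rfl⟩
  by_cases hZ2ne : Z2 = ⊥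
  · exact .inr (le_bot_iff.mp ((hN2 Z2 hZ2).trans hZ2ne.le))
  left
  have hZ2U1 : Z2 ≤ U1 := hZ2 ▸ commutator_le_of_nml hU1n (hNO.trans hOH)
  have hZ2n : Nml H Z2 := hZ2 ▸ hU1n.commutator hNn
  have hNU2 : ⁅N, U⁆ = Z2 := le_antisymm (hN2 Z2 hZ2)
    (hZ2.le.trans ((commutator_mono hU1U le_rfl).trans (commutator_comm U N).le))
  have hZ2E : ∀ e ∈ E, ∀ z ∈ Z2, e * z * e⁻¹ = z := fun e he z hz => by
    have h1 : z ∈ centralizer (E : Set G) := commutator_eq_bot_iff_le_centralizer.mp hi (hNU2.ge hz)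
    rw [mul_inv_eq_iff_eq_mul]; exact mem_centralizer_iff.mp h1 e he
  have hZ2U : Z2 ≤ U := hZ2U1.trans hU1U
  have hcent : ∀ n ∈ N, ∀ z ∈ Z2, n * z * n⁻¹ = z := fun n hn z hz => by
    have hZE : ⁅Z2, E⁆ = ⊥ := commutator_eq_bot_iff_le_centralizer.mpr fun y hy => mem_centralizer_iff.mpr
      fun e he => mul_inv_eq_iff_eq_mul.mp (hZ2E e he y hy)
    rw [mul_inv_eq_iff_eq_mul]
    exact commutatorElement_eq_one_iff_mul_comm.mp
      (mem_bot.mp ((hXN Z2 (hZ2U.trans hUH) hZ2n hZE).le (commutator_mem_commutator hn hz)))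
  obtain ⟨z0, hz0, hz0T⟩ : ∃ z0 ∈ Z2, z0 ∉ ⁅Z2, T⁆ := by
    by_contra h
    push Not at h
    exact hZ2ne (le_bot_iff.mp (nilp_le S.pT ((hZ2U.trans S.U_core).trans S.umax.core_le) bot_le
      (fun _ _ x hx => by rw [mem_bot.mp hx]; simp) (le_trans h le_sup_left)))
  obtain ⟨Z3, -, ⟨hZ3Z2, hTZ3, hz03⟩, hZ3max⟩ : ∃ Z3, ⁅Z2, T⁆ ≤ Z3 ∧
      Maximal (fun Y : Subgroup G => Y ≤ Z2 ∧ ⁅Z2, T⁆ ≤ Y ∧ z0 ∉ Y) Z3 :=
    Finite.exists_le_maximal ⟨commutator_le_of_nml (hZ2n.mono S.TH) le_rfl, le_rfl, hz0T⟩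
  have hcoset : ∀ z ∈ Z2, z ∈ Z3 ∨ z * z0 ∈ Z3 := by
    intro z hz
    by_contra hnot
    push Not at hnot
    obtain ⟨Y, hY⟩ : ∃ Y, Y = Z3 ⊔ zpowers z := ⟨_, rfl⟩
    have hYZ : Y ≤ Z2 := hY ▸ sup_le hZ3Z2 (zpowers_le.mpr hz)
    have hz0Y : z0 ∈ Y := by
      by_contra h
      exact hnot.1 (hZ3max ⟨hYZ, hTZ3.trans (hY ▸ le_sup_left), h⟩ (hY ▸ le_sup_left)
        (hY ▸ mem_sup_right (mem_zpowers z)))
    have hn : zpowers z ≤ normalizer (Z3 : Set G) := zpowers_le.mpr (mem_normalizer_fintype fun f hf => by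
      rw [S.comm z (hZ2U hz) f (hZ2U (hZ3Z2 hf)), mul_inv_cancel_right]
      exact hf)
    have h1 : z0 ∈ ((Z3 ⊔ zpowers z : Subgroup G) : Set G) := hY ▸ hz0Y
    rw [coe_mul_of_right_le_normalizer_left _ _ hn] at h1
    obtain ⟨f, hf, w, hw, hfw⟩ := h1
    obtain ⟨i, rfl⟩ := mem_zpowers_iff.mp hw
    simp only at hfw
    rcases Int.even_or_odd' i with ⟨j, rfl | rfl⟩
    · rw [zpow_mul, zpow_two, S.sq z (hZ2U hz), one_zpow, mul_one] at hfw
      exact hz03 (hfw ▸ hf)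
    · rw [zpow_add, zpow_mul, zpow_two, S.sq z (hZ2U hz), one_zpow, one_mul, zpow_one] at hfw
      refine hnot.2 ?_
      rw [← hfw, S.comm z (hZ2U hz) (f * z) (mul_mem (hZ2U (hZ3Z2 hf)) (hZ2U hz)), mul_assoc,
        S.sq z (hZ2U hz), mul_one]
      exact hf
  have hZ3n : Nml H Z3 := by
    refine S.umax.nml (fun e he => mem_normalizer_fintype fun x hx => ?_)
      fun t ht => mem_normalizer_fintype fun x hx => ?_
    · rw [hZ2E e (hE ▸ he) x (hZ3Z2 hx)]; exact hx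
    · rw [show t * x * t⁻¹ = ⁅x, t⁆⁻¹ * x by simp only [commutatorElement_def]; group]
      exact mul_mem (inv_mem (hTZ3 (commutator_mem_commutator (hZ3Z2 hx) ht))) hx
  -- the left radical
  have hmap : ∀ u ∈ U, ∀ n ∈ N, ⁅n, u⁆ ∈ Z2 := fun u hu n hn => hNU2 ▸ commutator_mem_commutator hn hu
  have hbil : ∀ n ∈ N, ∀ a ∈ U, ∀ b ∈ U, ⁅n, a * b⁆ = ⁅n, a⁆ * ⁅n, b⁆ := fun n hn a ha b hb => by
    rw [show ⁅n, a * b⁆ = ⁅n, a⁆ * (a * ⁅n, b⁆ * a⁻¹) by simp only [commutatorElement_def]; group,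
      S.comm a ha _ (hZ2U (hmap b hb n hn)), mul_inv_cancel_right]
  let rad : Subgroup G → Subgroup G := fun N' =>
    { carrier := {u | u ∈ U ∧ ∀ n ∈ N' ⊓ N, ⁅n, u⁆ ∈ Z3}
      one_mem' := ⟨one_mem _, fun n _ => by rw [commutatorElement_one_right]; exact one_mem _⟩
      mul_mem' := fun {a b} ha hb => ⟨mul_mem ha.1 hb.1, fun n hn => by
        rw [hbil n hn.2 a ha.1 b hb.1]; exact mul_mem (ha.2 n hn) (hb.2 n hn)⟩
      inv_mem' := fun {a} ha => ⟨inv_mem ha.1, fun n hn => by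
        rw [inv_eq_of_mul_eq_one_right (S.sq a ha.1)]; exact ha.2 n hn⟩ }
  have hradn : Nml H (rad N) := fun h hh u hu => ⟨hUn h hh u hu.1, fun n hn => by
    rw [show ⁅n, h * u * h⁻¹⁆ = h * ⁅h⁻¹ * n * h⁻¹⁻¹, u⁆ * h⁻¹ by simp only [commutatorElement_def]; group]
    exact hZ3n h hh _ (hu.2 _ ⟨hNn _ (inv_mem hh) n hn.1, hNn _ (inv_mem hh) n hn.1⟩)⟩
  have hradU : rad N ≤ U := fun u hu => hu.1
  have hrad : rad N ≤ U ⊓ centralizer (N : Set G) := by
    have hX : ⁅rad N ⊓ U1, E⁆ = ⊥ := huniq _ inf_le_right (fun e => ?_) (hradn.inf hU1n)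
    swap
    · have h1 : Z2 ≤ Z3 := by
        rw [hZ2, commutator_comm]
        exact commutator_le.mpr fun n hn u hu => ((e.ge hu).1).2 n ⟨hn, hn⟩
      exact hz03 (h1 hz0)
    have hle : ⁅rad N, E⁆ ≤ rad N ⊓ U1 :=
      le_inf (commutator_le_of_nml hradn hEH) ((commutator_mono hradU le_rfl).trans hU1.ge)
    have h2 : ⁅rad N, E⁆ = ⊥ := hE ▸ comm_odd_bot hradn (S.U_pgroup.to_le hradU) (hE ▸ hle) (hE ▸ hX)
    exact le_inf hradU (commutator_eq_bot_iff_le_centralizer.mp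
      (by rw [commutator_comm]; exact hXN _ (hradU.trans hUH) hradn h2))
  obtain ⟨C, hC⟩ : ∃ C, C = N ⊓ centralizer (U : Set G) := ⟨_, rfl⟩
  have hind : ∀ (k : ℕ) (N' : Subgroup G), Nat.card N' = k → C ≤ N' → N' ≤ N →
      (rad N').relIndex U ≤ C.relIndex N' := by
    intro k
    induction k using Nat.strong_induction_on with
    | _ k ih =>
    intro N' hk hCN' hN'N
    by_cases hne : N' = C
    · subst hne
      rw [relIndex_self]
      refine (relIndex_eq_one.mpr fun u hu => ?_).le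
      refine ⟨hu, fun n hn => ?_⟩
      rw [commutatorElement_eq_one_iff_mul_comm.mpr (mem_centralizer_iff.mp (hC.le hn.1).2 u hu).symm]
      exact one_mem _
    obtain ⟨N'', -, ⟨hCN'', hN''lt⟩, hmax⟩ : ∃ N'', C ≤ N'' ∧ Maximal (fun Y : Subgroup G => C ≤ Y ∧ Y < N') N'' :=
      Finite.exists_le_maximal ⟨le_rfl, lt_of_le_of_ne hCN' (Ne.symm hne)⟩
    obtain ⟨n, hn, hn''⟩ := SetLike.exists_of_lt hN''lt
    have hgen : N'' ⊔ zpowers n = N' := by
      by_contra h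
      exact hn'' (hmax ⟨hCN''.trans le_sup_left,
        lt_of_le_of_ne (sup_le hN''lt.le (zpowers_le.mpr hn)) h⟩ le_sup_left (mem_sup_right (mem_zpowers n)))
    have hnN := hN'N hn
    let Kn : Subgroup G :=
      { carrier := {u | u ∈ U ∧ ⁅n, u⁆ ∈ Z3}
        one_mem' := ⟨one_mem _, by rw [commutatorElement_one_right]; exact one_mem _⟩
        mul_mem' := fun {a b} ha hb => ⟨mul_mem ha.1 hb.1, by
          rw [hbil n hnN a ha.1 b hb.1]; exact mul_mem ha.2 hb.2⟩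
        inv_mem' := fun {a} ha => ⟨inv_mem ha.1, by rw [inv_eq_of_mul_eq_one_right (S.sq a ha.1)]; exact ha.2⟩ }
    have hKn : Kn.relIndex U ≤ 2 := by
      by_cases hall : U ≤ Kn
      · rw [relIndex_eq_one.mpr hall]; norm_num
      obtain ⟨w, hw, hw'⟩ := SetLike.not_le_iff_exists.mp hall
      refine (relIndex_eq_two_iff.mpr ⟨w, hw, fun b hb => ?_⟩).le
      by_cases hbK : b ∈ Kn
      · refine Or.inr ⟨hbK, fun hc => hw' ?_⟩
        have := mul_mem (inv_mem hbK) hc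
        rwa [inv_mul_cancel_left] at this
      · refine Or.inl ⟨⟨mul_mem hb hw, ?_⟩, hbK⟩
        rw [hbil n hnN b hb w hw]
        obtain h1 | h1 := hcoset _ (hmap b hb n hnN)
        · exact absurd ⟨hb, h1⟩ hbK
        obtain h2 | h2 := hcoset _ (hmap w hw n hnN)
        · exact absurd ⟨hw, h2⟩ hw'
        have := mul_mem h1 h2
        rwa [S.comm ⁅n, w⁆ (hZ2U (hmap w hw n hnN)) z0 (hZ2U hz0), mul_assoc, ← mul_assoc z0 z0,
          S.sq z0 (hZ2U hz0), one_mul] at this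
    have hle : rad N'' ⊓ Kn ≤ rad N' := fun u ⟨h1, h2⟩ => by
      refine ⟨h1.1, fun m hm => ?_⟩
      let P : Subgroup G :=
        { carrier := {m | m ∈ N ∧ ⁅m, u⁆ ∈ Z3}
          one_mem' := ⟨one_mem _, by rw [commutatorElement_one_left]; exact one_mem _⟩
          mul_mem' := fun {a b} ha hb => ⟨mul_mem ha.1 hb.1, by
            rw [show ⁅a * b, u⁆ = a * ⁅b, u⁆ * a⁻¹ * ⁅a, u⁆ by simp only [commutatorElement_def]; group,
              hcent a ha.1 _ (hmap u h1.1 b hb.1)]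
            exact mul_mem hb.2 ha.2⟩
          inv_mem' := fun {a} ha => ⟨inv_mem ha.1, by
            rw [show ⁅a⁻¹, u⁆ = a⁻¹ * ⁅a, u⁆⁻¹ * a⁻¹⁻¹ by simp only [commutatorElement_def]; group,
              hcent a⁻¹ (inv_mem ha.1) _ (inv_mem (hmap u h1.1 a ha.1))]
            exact inv_mem ha.2⟩ }
      have hP : N' ≤ P := hgen.ge.trans (sup_le (fun m hm =>
        ⟨(hN''lt.le.trans hN'N) hm, h1.2 m ⟨hm, (hN''lt.le.trans hN'N) hm⟩⟩) (zpowers_le.mpr ⟨hnN, h2.2⟩))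
      exact (hP hm.1).2
    calc (rad N').relIndex U ≤ (rad N'' ⊓ Kn).relIndex U := relIndex_le_of_le_left hle (rel_ne _ _)
      _ ≤ (rad N'').relIndex U * Kn.relIndex U := relIndex_inf_le
      _ ≤ C.relIndex N'' * N''.relIndex N' := Nat.mul_le_mul
          (ih _ (hk ▸ Set.Finite.card_lt_card (Set.toFinite _) hN''lt) N'' rfl hCN'' (hN''lt.le.trans hN'N))
          (hKn.trans ((Nat.two_le_iff _).mpr ⟨rel_ne _ _, fun h => hN''lt.not_ge (relIndex_eq_one.mp h)⟩))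
      _ = C.relIndex N' := relIndex_mul_relIndex _ _ _ hCN'' hN''lt.le
  have hfin : fx U N ≤ cx U N := by
    rw [cx_eq, ← hC]
    exact (relIndex_le_of_le_left hrad (rel_ne _ _)).trans (hind _ N rfl (hC ▸ inf_le_left) le_rfl)
  have hqN : ⁅⁅U, N⁆, N⁆ = ⊥ := by
    refine le_bot_iff.mp (commutator_le.mpr fun z hz n hn => mem_bot.mpr ?_)
    rw [commutator_comm, hNU2] at hz
    exact commutatorElement_eq_one_iff_mul_comm.mpr (mul_inv_eq_iff_eq_mul.mp (hcent n hn z hz)).symm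
  refine S.no_off_core (hO ▸ hNO) hqN ?_ (fun h => hZ2ne ?_) (hfin.trans (Nat.le_self_pow two_ne_zero _))
  · refine stab_el S.sq S.comm hZ2U (commutator_comm N U ▸ hNU2).le (commutator_eq_bot_iff_le_centralizer.mpr ?_)
    exact fun z hz => mem_centralizer_iff.mpr fun n hn => mul_inv_eq_iff_eq_mul.mp (hcent n hn z hz)
  · rw [← hNU2]; exact commutator_eq_bot_iff_le_centralizer.mpr h

/-- What follows for an offender. -/
structure Conseq (H U B : Subgroup G) : Prop where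
  U1core : ⁅⁅U, odd H⁆, core2 H⁆ = ⊥
  coreE : ⁅⁅U, core2 H⁆, odd H⁆ = ⊥
  cover : U ≤ ⁅U, odd H⁆ ⊔ (U ⊓ centralizer (B : Set G))
  bound : fx U B ≤ (B ⊓ core2 H).relIndex B
  kernel : B ⊓ core2 H ≤ centralizer (U : Set G)

theorem conseq (S : Sit H T M A U) (hB : Off1 U T B) : QTarget A ∨ Conseq H U B := by
  rcases S.unique_layer hB with h | huniq
  · exact .inl h
  rcases S.comm_core hB with h | hF
  · exact .inl h
  have hEH : odd H ≤ H := oddGenerated_le H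
  have hOH : core2 H ≤ H := core2_le H
  have hUH := S.U_le_H
  have hbn : Nml H (⊥ : Subgroup G) := fun h _ x hx => by rw [mem_bot.mp hx]; simp
  obtain ⟨U1, hU1⟩ : ∃ U1, U1 = ⁅U, odd H⁆ := ⟨_, rfl⟩
  rw [← hU1] at huniq
  have hU1n : Nml H U1 := hU1 ▸ S.U1_nml
  have hU1U : U1 ≤ U := hU1 ▸ S.U1_le
  have hU1ne : U1 ≠ ⊥ := hU1 ▸ S.U1_ne
  have hidem : ⁅U1, odd H⁆ = U1 := hU1 ▸ S.U1_idem
  have hproper : ⁅U1, core2 H⁆ ≠ U1 := fun h => hU1ne (le_bot_iff.mp (nilp_le (core2_isPGroup H)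
    (hU1U.trans S.U_core) bot_le (hbn.mono (core2_le H)) (h.ge.trans le_sup_left)))
  have hOE : ⁅⁅U1, core2 H⁆, odd H⁆ = ⊥ :=
    huniq _ (commutator_le_of_nml hU1n hOH) hproper (hU1n.commutator (core2_norm H))
  have h1 : ⁅U1, core2 H⁆ = ⊥ := by
    refine le_bot_iff.mp ?_
    have h3 := three_in (X := U1) (Y := odd H) (Z := core2 H) (N := ⊥) (hU1U.trans hUH) hEH hOH bot_le hbn
      (le_of_le_of_eq (commutator_mono (commutator_comm (odd H) (core2 H)).le hU1U) hF)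
      (by rw [commutator_comm (core2 H) U1, hOE])
    rwa [hidem] at h3
  have h2 : ⁅⁅U, core2 H⁆, odd H⁆ = ⊥ := le_bot_iff.mp (three_in hUH hOH hEH bot_le hbn hF.le
    (by rw [commutator_comm (odd H) U, ← hU1, h1]))
  obtain ⟨a, ha⟩ : ∃ a, a = (B ⊓ core2 H).relIndex B := ⟨_, rfl⟩
  have hsplit := S.cx_split hB
  rw [← ha] at hsplit
  have hlb : a ≤ (U ⊓ centralizer (B : Set G)).relIndex U1 := by
    have h3 := S.layer_bound hB (W := ⊥) (X := U1) bot_le hU1U hbn hU1n h1.le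
      (fun h => hU1ne (hidem.symm.trans (le_bot_iff.mp h)))
    rw [sup_bot_eq, ← ha] at h3
    refine h3.trans_eq ?_
    rw [← inf_relIndex_right (U ⊓ centralizer (B : Set G)) U1, inf_comm U, inf_assoc, inf_eq_right.mpr hU1U,
      inf_comm]
  by_cases hker : B ⊓ core2 H ≤ centralizer (U : Set G)
  swap
  · by_cases h3 : fx U (B ⊓ core2 H) ≤ cx U (B ⊓ core2 H) ^ 2
    · exact .inl (S.no_off_core inf_le_right
        (le_bot_iff.mp ((commutator_mono (commutator_mono le_rfl inf_le_left) inf_le_left).trans hB.quad.le))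
        (hB.el.mono inf_le_left le_rfl) hker h3)
    · exfalso
      have hU1C : U1 ≤ U ⊓ centralizer ((B ⊓ core2 H : Subgroup G) : Set G) := le_inf hU1U
        ((commutator_eq_bot_iff_le_centralizer.mp h1).trans (centralizer_le inf_le_right))
      have hmul : fx U B = (U ⊓ centralizer (B : Set G)).relIndex (U ⊓ centralizer ((B ⊓ core2 H : Subgroup G) : Set G))
          * fx U (B ⊓ core2 H) :=
        (relIndex_mul_relIndex _ _ _ (inf_le_inf_left _ (centralizer_le inf_le_left)) inf_le_left).symm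
      have h4 := hlb.trans (relIndex_le_of_le_right hU1C (rel_ne _ _))
      have h5 := hB.bound
      rw [hsplit, hmul] at h5
      have h6 : cx U (B ⊓ core2 H) ≤ cx U (B ⊓ core2 H) ^ 2 := Nat.le_self_pow two_ne_zero _
      have h7 : 0 < a := ha ▸ Nat.pos_of_ne_zero (rel_ne _ _)
      nlinarith
  have hc1 : cx U (B ⊓ core2 H) = 1 := relIndex_eq_one.mpr hker
  have hbound : fx U B ≤ a := by
    have := hB.bound
    rwa [hsplit, hc1, one_mul] at this
  refine .inr ⟨hU1 ▸ h1, h2, hU1 ▸ ?_, ha ▸ hbound, hker⟩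
  obtain ⟨K, hK⟩ : ∃ K, K = U1 ⊔ (U ⊓ centralizer (B : Set G)) := ⟨_, rfl⟩
  rw [← hK]
  have hKU : K ≤ U := hK ▸ sup_le hU1U inf_le_left
  have hmul : (U ⊓ centralizer (B : Set G)).relIndex K * K.relIndex U = fx U B :=
    relIndex_mul_relIndex _ _ _ (hK ▸ le_sup_right) hKU
  have h8 := hlb.trans (relIndex_le_of_le_right (hK ▸ le_sup_left : U1 ≤ K) (rel_ne _ _))
  refine relIndex_eq_one.mp ?_
  have h9 := rel_ne K U
  have h7 : 0 < a := ha ▸ Nat.pos_of_ne_zero (rel_ne _ _)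
  nlinarith [Nat.pos_of_ne_zero h9, hmul, hbound, h8]

end Sit

end Cfsg.Agent.Transfer.QRC
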